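import Mathlib
import Groth.Agent.Lib.Helper55.FL.Core

/-!
# Descent of (faithful) flatness to a finitely generated subalgebra (Stacks 02JO for algebras)

Setting: `k` Noetherian, `R` any `k`-algebra, `N` a finite type `k`-algebra.
* `exists_fg_flat` : if `R ⊗[k] N` is flat over `R` then `R₁ ⊗[k] N` is flat over `R₁` for some
  finitely generated `k`-subalgebra `R₁ ⊆ R`.
* `exists_fg_faithfullyFlat` : same for faithful flatness, and for every `R₂ ≥ R₁`.
Built on helper55's `FL` library (pointwise descent + Noetherian openness of the flat locus).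
-/

set_option autoImplicit false
set_option linter.style.haveILetI false
set_option linter.unusedSectionVars false
universe u

namespace Groth.Agent.Lib.Helper46.FlatStage

open TensorProduct CategoryTheory AlgebraicGeometry Groth.Agent.Lib.Helper55.FL

section transfer

variable {k : Type u} [CommRing k]

/-- Flatness at a prime of `S ⊗ N[1/a']` is the same as flatness at its contraction to `S ⊗ N`. -/
theorem flat_atPrime_tensor_away_iff (S : Type u) [CommRing S] [Algebra k S]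
    {N : Type u} [CommRing N] [Algebra k N] (a' : N) (N' : Type u) [CommRing N'] [Algebra k N']
    [Algebra N N'] [IsScalarTower k N N'] [IsLocalization.Away a' N']
    (P' : Ideal (S ⊗[k] N')) [P'.IsPrime] :
    Module.Flat S (Localization.AtPrime P') ↔
      Module.Flat S (Localization.AtPrime (P'.comap
        (Algebra.TensorProduct.map (AlgHom.id k S) (IsScalarTower.toAlgHom k N N')))) := by
  letI : Algebra (S ⊗[k] N) (S ⊗[k] N') :=
    (Algebra.TensorProduct.map (AlgHom.id k S) (IsScalarTower.toAlgHom k N N')).toAlgebra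
  haveI : IsScalarTower S (S ⊗[k] N) (S ⊗[k] N') :=
    .of_algebraMap_eq <| by intro; simp [RingHom.algebraMap_toAlgebra]
  haveI h1 : IsLocalization ((Submonoid.powers a').map
      (Algebra.TensorProduct.includeRight (R := k) (A := S))) (S ⊗[k] N') :=
    IsLocalization.tensorProduct_tensorProduct_right k S (Submonoid.powers a') N'
      (by ext; simp [RingHom.algebraMap_toAlgebra])
  haveI : IsLocalization.Away ((1 : S) ⊗ₜ[k] a') (S ⊗[k] N') := by
    rw [Submonoid.map_powers] at h1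
    exact h1
  exact flat_atPrime_away_iff (S ⊗[k] N') ((1 : S) ⊗ₜ[k] a') P'

end transfer

section bc

variable {k : Type u} [CommRing k] (N : Type u) [CommRing N] [Algebra k N]

/-- Base change of pointwise flatness along `S₁ → S₂`. -/
theorem flat_atPrime_baseChange (S₁ S₂ : Type u) [CommRing S₁] [CommRing S₂] [Algebra k S₁]
    [Algebra k S₂] [Algebra S₁ S₂] [IsScalarTower k S₁ S₂] (f : S₁ →ₐ[k] S₂)
    (hf : ∀ x, f x = algebraMap S₁ S₂ x)
    (P : Ideal (S₂ ⊗[k] N)) [P.IsPrime]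
    (h : Module.Flat S₁ (Localization.AtPrime
      (P.comap (Algebra.TensorProduct.map f (AlgHom.id k N))))) :
    Module.Flat S₂ (Localization.AtPrime P) := by
  let e := Algebra.TensorProduct.cancelBaseChange k S₁ S₂ S₂ N
  have h1 := mem_FL_equiv_iff e ⟨P, inferInstance⟩
  rw [mem_FL, mem_FL] at h1
  rw [h1]
  apply flat_atPrime_tensor_of_flat
  refine flat_atPrime_congr ?_ h
  ext z
  simp only [Ideal.mem_comap, PrimeSpectrum.comap_asIdeal]
  have : (e : S₂ ⊗[S₁] (S₁ ⊗[k] N) →+* S₂ ⊗[k] N)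
      (Algebra.TensorProduct.includeRight (R := S₁) (A := S₂) z) =
      Algebra.TensorProduct.map f (AlgHom.id k N) z := by
    induction z using TensorProduct.induction_on with
    | zero => simp
    | tmul a n =>
      simp [e, hf, Algebra.smul_def]
    | add x y hx hy => simp only [map_add, hx, hy]
  rw [← this]

end bc

section pointwise

variable (k : Type u) [CommRing k] [IsNoetherianRing k] (R : Type u) [CommRing R] [Algebra k R]
  (N : Type u) [CommRing N] [Algebra k N] [Algebra.FiniteType k N]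

theorem exists_fg_flat_atPrime (Q : Ideal (R ⊗[k] N)) [Q.IsPrime]
    (hQ : Module.Flat R (Localization.AtPrime Q)) :
    ∃ R₁ : Subalgebra k R, R₁.FG ∧
      Module.Flat ↥R₁ (Localization.AtPrime (Q.comap (phi R N R₁))) := by
  classical
  let p : Ideal k := Q.comap (algebraMap k (R ⊗[k] N))
  obtain ⟨a, hap, hfa⟩ := exists_flat_quot_tensor_away k N p
  let a' : N := algebraMap k N a
  let N' := Localization.Away a'
  have : Algebra.FiniteType k N' := Algebra.FiniteType.trans (S := N) inferInstance inferInstance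
  let ψ : ∀ (S : Type u) [CommRing S] [Algebra k S], S ⊗[k] N →ₐ[k] S ⊗[k] N' := fun S _ _ =>
    Algebra.TensorProduct.map (AlgHom.id k S) (IsScalarTower.toAlgHom k N N')
  -- the prime `Q'` of `R ⊗ N'` over `Q`
  have hg : (1 : R) ⊗ₜ[k] a' = algebraMap k (R ⊗[k] N) a := by
    show (1 : R) ⊗ₜ[k] (algebraMap k N a) = algebraMap k (R ⊗[k] N) a
    rw [Algebra.algebraMap_eq_smul_one, TensorProduct.tmul_smul, Algebra.algebraMap_eq_smul_one]
    rfl
  have hgQ : (1 : R) ⊗ₜ[k] a' ∉ Q := by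
    rw [hg]; exact hap
  letI : Algebra (R ⊗[k] N) (R ⊗[k] N') := (ψ R).toAlgebra
  haveI : IsScalarTower R (R ⊗[k] N) (R ⊗[k] N') :=
    .of_algebraMap_eq <| by
      intro x
      simp [RingHom.algebraMap_toAlgebra, ψ]
      rfl
  haveI h1 : IsLocalization ((Submonoid.powers a').map
      (Algebra.TensorProduct.includeRight (R := k) (A := R))) (R ⊗[k] N') :=
    IsLocalization.tensorProduct_tensorProduct_right k R (Submonoid.powers a') N'
      (by ext; simp [RingHom.algebraMap_toAlgebra, ψ])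
  haveI : IsLocalization.Away ((1 : R) ⊗ₜ[k] a') (R ⊗[k] N') := by
    rw [Submonoid.map_powers] at h1
    exact h1
  have hrange : (⟨Q, inferInstance⟩ : PrimeSpectrum (R ⊗[k] N)) ∈
      Set.range (PrimeSpectrum.comap (algebraMap (R ⊗[k] N) (R ⊗[k] N'))) := by
    rw [PrimeSpectrum.localization_away_comap_range _ ((1 : R) ⊗ₜ[k] a')]
    exact hgQ
  obtain ⟨Q', hQ'⟩ := hrange
  have hQ'eq : Q'.asIdeal.comap (ψ R) = Q := by
    have := congrArg PrimeSpectrum.asIdeal hQ'
    exact this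
  have hQ'flat : Module.Flat R (Localization.AtPrime Q'.asIdeal) := by
    rw [flat_atPrime_tensor_away_iff R a' N' Q'.asIdeal]
    exact flat_atPrime_congr hQ'eq.symm hQ
  have hpQ' : p.map (algebraMap k (R ⊗[k] N')) ≤ Q'.asIdeal := by
    rw [Ideal.map_le_iff_le_comap]
    intro x hx
    have hx' : algebraMap k (R ⊗[k] N) x ∈ Q := hx
    rw [← hQ'eq] at hx'
    have h2 := (ψ R).commutes x
    rw [Ideal.mem_comap, ← h2]
    exact hx'
  obtain ⟨R₁, hR₁, hflat₁⟩ := exists_fg_flat_localization p R N' hfa Q'.asIdeal hpQ' hQ'flat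
  refine ⟨R₁, hR₁, ?_⟩
  rw [flat_atPrime_tensor_away_iff ↥R₁ a' N'] at hflat₁
  refine flat_atPrime_congr ?_ hflat₁
  rw [← hQ'eq]
  ext z
  simp only [Ideal.mem_comap]
  have : phi R N' R₁ ((Algebra.TensorProduct.map (AlgHom.id k ↥R₁)
      (IsScalarTower.toAlgHom k N N')) z) = ψ R (phi R N R₁ z) := by
    induction z using TensorProduct.induction_on with
    | zero => simp
    | tmul a n => simp [ψ]
    | add x y hx hy => simp only [map_add, hx, hy]
  rw [this]

end pointwise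

/-- Primes of `A ⊗[R] B` surject onto compatible pairs of primes. -/
theorem exists_prime_tensor (R A B : Type u) [CommRing R] [CommRing A] [CommRing B]
    [Algebra R A] [Algebra R B] (p : PrimeSpectrum A) (q : PrimeSpectrum B)
    (h : PrimeSpectrum.comap (algebraMap R A) p = PrimeSpectrum.comap (algebraMap R B) q) :
    ∃ P : PrimeSpectrum (A ⊗[R] B),
      PrimeSpectrum.comap (algebraMap A (A ⊗[R] B)) P = p ∧
      PrimeSpectrum.comap (Algebra.TensorProduct.includeRight (R := R) (A := A) (B := B)).toRingHom P = q := by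
  have hpb := isPullback_SpecMap_of_isPushout _ _ _ _ (CommRingCat.isPushout_tensorProduct R A B)
  obtain ⟨P, h1, h2⟩ := Scheme.exists_preimage_of_isPullback hpb p q h
  exact ⟨P, h1, h2⟩

section

variable {k : Type u} [CommRing k] (N : Type u) [CommRing N] [Algebra k N]

/-- Flatness of the model is stable under base change. -/
theorem flat_tensor_of_algebra (S₁ S₂ : Type u) [CommRing S₁] [CommRing S₂] [Algebra k S₁]
    [Algebra k S₂] [Algebra S₁ S₂] [IsScalarTower k S₁ S₂]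
    (h : Module.Flat S₁ (S₁ ⊗[k] N)) : Module.Flat S₂ (S₂ ⊗[k] N) := by
  let e := Algebra.TensorProduct.cancelBaseChange k S₁ S₂ S₂ N
  exact Module.Flat.of_linearEquiv e.symm.toLinearEquiv

/-- Surjectivity on spectra of the model after base change. -/
theorem faithfullyFlat_tensor_of_algebra (S₁ S₂ : Type u) [CommRing S₁] [CommRing S₂]
    [Algebra k S₁] [Algebra k S₂] [Algebra S₁ S₂] [IsScalarTower k S₁ S₂]
    (h : Module.Flat S₁ (S₁ ⊗[k] N))
    (hs : ∀ p : PrimeSpectrum S₂, PrimeSpectrum.comap (algebraMap S₁ S₂) p ∈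
      Set.range (PrimeSpectrum.comap (algebraMap S₁ (S₁ ⊗[k] N)))) :
    Module.FaithfullyFlat S₂ (S₂ ⊗[k] N) := by
  haveI := flat_tensor_of_algebra N S₁ S₂ h
  apply Module.FaithfullyFlat.of_comap_surjective
  intro p
  obtain ⟨q, hq⟩ := hs p
  obtain ⟨P, hP1, -⟩ := exists_prime_tensor S₁ S₂ (S₁ ⊗[k] N) p q hq.symm
  let e := Algebra.TensorProduct.cancelBaseChange k S₁ S₂ S₂ N
  refine ⟨PrimeSpectrum.comap (e.symm : S₂ ⊗[k] N →+* S₂ ⊗[S₁] (S₁ ⊗[k] N)) P, ?_⟩
  rw [← hP1, ← PrimeSpectrum.comap_comp_apply]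
  congr 1

end


section global

variable (k : Type u) [CommRing k] [IsNoetherianRing k] (R : Type u) [CommRing R] [Algebra k R]
  (N : Type u) [CommRing N] [Algebra k N] [Algebra.FiniteType k N]

/-- The set of primes of `R ⊗ N` at whose contraction the `R₁`-model is flat over `R₁`. -/
def U (R₁ : Subalgebra k R) : Set (PrimeSpectrum (R ⊗[k] N)) :=
  {Q | Module.Flat ↥R₁ (Localization.AtPrime (Q.asIdeal.comap (phi R N R₁)))}

variable {k R N}

lemma isOpen_U (R₁ : Subalgebra k R) (h : R₁.FG) : IsOpen (U k R N R₁) := by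
  have : Algebra.FiniteType k ↥R₁ := (Subalgebra.fg_iff_finiteType R₁).1 h
  have : IsNoetherianRing ↥R₁ := Algebra.FiniteType.isNoetherianRing k ↥R₁
  have hopen := isOpen_flatLocus ↥R₁ (↥R₁ ⊗[k] N)
  exact hopen.preimage (PrimeSpectrum.continuous_comap (phi R N R₁ : ↥R₁ ⊗[k] N →+* R ⊗[k] N))

omit [IsNoetherianRing k] [Algebra.FiniteType k N] in
lemma flat_atPrime_iota {R₁ R₂ : Subalgebra k R} (h : R₁ ≤ R₂) (P : Ideal (↥R₂ ⊗[k] N)) [P.IsPrime]
    (hP : Module.Flat ↥R₁ (Localization.AtPrime (P.comap (iota R N h)))) :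
    Module.Flat ↥R₂ (Localization.AtPrime P) := by
  letI : Algebra ↥R₁ ↥R₂ := (Subalgebra.inclusion h).toAlgebra
  haveI : IsScalarTower k ↥R₁ ↥R₂ := .of_algebraMap_eq fun x => rfl
  exact flat_atPrime_baseChange N ↥R₁ ↥R₂ (Subalgebra.inclusion h) (fun _ => rfl) P hP

omit [IsNoetherianRing k] [Algebra.FiniteType k N] in
lemma U_mono {R₁ R₂ : Subalgebra k R} (h : R₁ ≤ R₂) : U k R N R₁ ⊆ U k R N R₂ := by
  intro Q hQ
  apply flat_atPrime_iota h
  refine flat_atPrime_congr ?_ hQ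
  ext z
  simp only [Ideal.mem_comap]
  rw [phi_iota]

theorem exists_fg_flat (hflat : Module.Flat R (R ⊗[k] N)) :
    ∃ R₁ : Subalgebra k R, R₁.FG ∧ Module.Flat ↥R₁ (↥R₁ ⊗[k] N) := by
  classical
  -- Step 1+2 : a single f.g. subalgebra `R₁` with `U R₁ = univ`.
  obtain ⟨R₁, hR₁, hU⟩ : ∃ R₁ : Subalgebra k R, R₁.FG ∧ U k R N R₁ = Set.univ := by
    let ι := {R₁ : Subalgebra k R // R₁.FG}
    haveI : Nonempty ι := ⟨⟨⊥, Subalgebra.fg_bot⟩⟩
    obtain ⟨i, hi⟩ := isCompact_univ.elim_directed_cover (fun i : ι => U k R N i.1)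
      (fun i => isOpen_U i.1 i.2)
      (by
        intro Q _
        obtain ⟨R₁, hR₁, h⟩ := exists_fg_flat_atPrime k R N Q.asIdeal inferInstance
        exact Set.mem_iUnion.2 ⟨⟨R₁, hR₁⟩, h⟩)
      (by
        intro i j
        exact ⟨⟨i.1 ⊔ j.1, i.2.sup j.2⟩, U_mono le_sup_left, U_mono le_sup_right⟩)
    exact ⟨i.1, i.2, Set.eq_univ_of_univ_subset hi⟩
  have : Algebra.FiniteType k ↥R₁ := (Subalgebra.fg_iff_finiteType R₁).1 hR₁
  have : IsNoetherianRing ↥R₁ := Algebra.FiniteType.isNoetherianRing k ↥R₁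
  -- Step 3 : the non-flat locus of the `R₁`-model
  let V : Set (PrimeSpectrum (↥R₁ ⊗[k] N)) :=
    {q | Module.Flat ↥R₁ (Localization.AtPrime q.asIdeal)}
  have hV : IsOpen V := isOpen_flatLocus ↥R₁ (↥R₁ ⊗[k] N)
  let J : Ideal (↥R₁ ⊗[k] N) := PrimeSpectrum.vanishingIdeal Vᶜ
  have hJ : ∀ q : PrimeSpectrum (↥R₁ ⊗[k] N), J ≤ q.asIdeal → q ∉ V := by
    intro q hq hqV
    have h1 : q ∈ PrimeSpectrum.zeroLocus (J : Set (↥R₁ ⊗[k] N)) := hq
    rw [PrimeSpectrum.zeroLocus_vanishingIdeal_eq_closure, hV.isClosed_compl.closure_eq] at h1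
    exact h1 hqV
  have hJtop : J.map (phi R N R₁) = ⊤ := by
    by_contra hne
    obtain ⟨m, hm, hle⟩ := Ideal.exists_le_maximal _ hne
    have hmem : (⟨m, hm.isPrime⟩ : PrimeSpectrum (R ⊗[k] N)) ∈ U k R N R₁ := by
      rw [hU]; trivial
    refine hJ ⟨m.comap (phi R N R₁), inferInstance⟩ ?_ hmem
    exact Ideal.map_le_iff_le_comap.1 hle
  -- write `1` as a finite combination
  have h1 : (1 : R ⊗[k] N) ∈ Ideal.span ((phi R N R₁) '' (J : Set (↥R₁ ⊗[k] N))) := by
    have : (1 : R ⊗[k] N) ∈ J.map (phi R N R₁) := by rw [hJtop]; trivial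
    exact this
  obtain ⟨n, c, g, hsum⟩ := Submodule.mem_span_set'.1 h1
  choose j hjJ hjg using fun i => (g i).2
  obtain ⟨R₂', hR₂', hc⟩ := exists_fg_forall_mem_range (Finset.univ.image c)
  let R₂ := R₁ ⊔ R₂'
  have hc2 : ∀ i, c i ∈ Set.range (phi R N R₂) := fun i =>
    range_phi_mono le_sup_right (hc _ (Finset.mem_image_of_mem _ (Finset.mem_univ i)))
  choose c' hc' using hc2
  have h12 : R₁ ≤ R₂ := le_sup_left
  let z : ↥R₂ ⊗[k] N := ∑ i, c' i * iota R N h12 (j i) - 1
  have hz : phi R N R₂ z = 0 := by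
    simp only [z, map_sub, map_sum, map_mul, map_one, hc', phi_iota, hjg]
    rw [sub_eq_zero, ← hsum]
    simp [smul_eq_mul]
  obtain ⟨R₃, h23, hR₃, hz3⟩ := exists_fg_iota_eq_zero R₂ (hR₁.sup hR₂') z hz
  refine ⟨R₃, hR₃, ?_⟩
  have h13 : R₁ ≤ R₃ := h12.trans h23
  have hone : ∑ i, iota R N h23 (c' i) * iota R N h13 (j i) = 1 := by
    have h3 := hz3
    simp only [z, map_sub, map_sum, map_mul, map_one, iota_iota] at h3
    exact sub_eq_zero.1 h3
  apply Module.flat_of_isLocalized_maximal (↥R₃ ⊗[k] N) (↥R₃ ⊗[k] N)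
    (fun P => Localization.AtPrime P) (fun P => Algebra.linearMap _ _)
  intro P hP
  apply flat_atPrime_iota h13
  by_contra hnot
  have hle : J ≤ P.comap (iota R N h13) := by
    intro x hx
    have hmem : (⟨P.comap (iota R N h13), inferInstance⟩ : PrimeSpectrum (↥R₁ ⊗[k] N)) ∈ Vᶜ :=
      hnot
    exact (PrimeSpectrum.mem_vanishingIdeal _ _).1 hx _ hmem
  have hP1 : (1 : ↥R₃ ⊗[k] N) ∈ P := by
    rw [← hone]
    exact Ideal.sum_mem _ fun i _ => Ideal.mul_mem_left _ _ (hle (hjJ i))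
  exact hP.ne_top ((Ideal.eq_top_iff_one _).2 hP1)


theorem exists_fg_faithfullyFlat (hff : Module.FaithfullyFlat R (R ⊗[k] N)) :
    ∃ R₁ : Subalgebra k R, R₁.FG ∧ ∀ R₂ : Subalgebra k R, R₁ ≤ R₂ →
      Module.FaithfullyFlat ↥R₂ (↥R₂ ⊗[k] N) := by
  classical
  obtain ⟨R₃, hR₃, hfl⟩ := exists_fg_flat (k := k) (R := R) (N := N) inferInstance
  have : Algebra.FiniteType k ↥R₃ := (Subalgebra.fg_iff_finiteType R₃).1 hR₃
  have : IsNoetherianRing ↥R₃ := Algebra.FiniteType.isNoetherianRing k ↥R₃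
  have : Algebra.FinitePresentation ↥R₃ (↥R₃ ⊗[k] N) :=
    Algebra.FinitePresentation.of_finiteType.1 inferInstance
  let W : Set (PrimeSpectrum ↥R₃) :=
    Set.range (PrimeSpectrum.comap (algebraMap ↥R₃ (↥R₃ ⊗[k] N)))
  have hW : IsOpen W :=
    (PrimeSpectrum.isOpenMap_comap_of_hasGoingDown_of_finitePresentation).isOpen_range
  let I : Ideal ↥R₃ := PrimeSpectrum.vanishingIdeal Wᶜ
  have hI : ∀ p : PrimeSpectrum ↥R₃, p ∉ W → I ≤ p.asIdeal := fun p hp x hx =>
    (PrimeSpectrum.mem_vanishingIdeal _ _).1 hx p hp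
  have hI' : ∀ p : PrimeSpectrum ↥R₃, I ≤ p.asIdeal → p ∉ W := by
    intro q hq hqW
    have h1 : q ∈ PrimeSpectrum.zeroLocus (I : Set ↥R₃) := hq
    rw [PrimeSpectrum.zeroLocus_vanishingIdeal_eq_closure, hW.isClosed_compl.closure_eq] at h1
    exact h1 hqW
  have hRW : ∀ p : PrimeSpectrum R, PrimeSpectrum.comap (algebraMap ↥R₃ R) p ∈ W := by
    intro p
    obtain ⟨Q, hQ⟩ := PrimeSpectrum.comap_surjective_of_faithfullyFlat (A := R)
      (B := R ⊗[k] N) p
    refine ⟨PrimeSpectrum.comap (phi R N R₃ : ↥R₃ ⊗[k] N →+* R ⊗[k] N) Q, ?_⟩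
    rw [← hQ, ← PrimeSpectrum.comap_comp_apply, ← PrimeSpectrum.comap_comp_apply]
    congr 1
  have hItop : I.map (algebraMap ↥R₃ R) = ⊤ := by
    by_contra hne
    obtain ⟨m, hm, hle⟩ := Ideal.exists_le_maximal _ hne
    exact hI' (PrimeSpectrum.comap (algebraMap ↥R₃ R) ⟨m, hm.isPrime⟩)
      (Ideal.map_le_iff_le_comap.1 hle) (hRW _)
  have h1 : (1 : R) ∈ Ideal.span ((algebraMap ↥R₃ R) '' (I : Set ↥R₃)) := by
    have : (1 : R) ∈ I.map (algebraMap ↥R₃ R) := by rw [hItop]; trivial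
    exact this
  obtain ⟨n, c, g, hsum⟩ := Submodule.mem_span_set'.1 h1
  choose f hfI hfg using fun i => (g i).2
  let R₄ : Subalgebra k R := R₃ ⊔ Algebra.adjoin k (Set.range c)
  have hR₄ : R₄.FG := by
    refine hR₃.sup ?_
    have := Subalgebra.fg_adjoin_finset (R := k) (Finset.univ.image c)
    simpa using this
  refine ⟨R₄, hR₄, fun R₅ h45 => ?_⟩
  have h35 : R₃ ≤ R₅ := le_sup_left.trans h45
  letI : Algebra ↥R₃ ↥R₅ := (Subalgebra.inclusion h35).toAlgebra
  haveI : IsScalarTower k ↥R₃ ↥R₅ := .of_algebraMap_eq fun x => rfl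
  apply faithfullyFlat_tensor_of_algebra N ↥R₃ ↥R₅ hfl
  intro p
  by_contra hnot
  have hle := hI _ hnot
  have hc5 : ∀ i, c i ∈ R₅ := fun i =>
    h45 ((le_sup_right : _ ≤ R₄) (Algebra.subset_adjoin ⟨i, rfl⟩))
  have hone : (∑ i, (⟨c i, hc5 i⟩ : ↥R₅) * Subalgebra.inclusion h35 (f i)) = 1 := by
    apply Subtype.ext
    rw [← Subalgebra.coe_val, map_sum]
    simp only [map_mul, Subalgebra.coe_val, Subalgebra.coe_inclusion, OneMemClass.coe_one]
    rw [← hsum]
    refine Finset.sum_congr rfl fun i _ => ?_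
    rw [← hfg i]
    rfl
  have hp1 : (1 : ↥R₅) ∈ p.asIdeal := by
    rw [← hone]
    exact Ideal.sum_mem _ fun i _ => Ideal.mul_mem_left _ _ (hle (hfI i))
  exact p.isPrime.ne_top ((Ideal.eq_top_iff_one _).2 hp1)


end global

end Groth.Agent.Lib.Helper46.FlatStage
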