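import Mathlib
import Groth.Agent.Lib.Helper46.FlatStage

/-!
# fppf descent on the source at the level of rings (Stacks 034B / 0367 / 02KK)

* `exists_model` : a faithfully flat finitely presented `A`-algebra `B` descends to a faithfully
  flat finitely presented algebra `M₁` over a finite type `ℤ`-subalgebra `A₁ ⊆ A`
  (which may be chosen to contain a given finite subset of `A`, and such that a given finite subset
  of `B` comes from `M₁`).
* `finiteType_of_faithfullyFlat` : `R → A → B`, `A → B` faithfully flat f.p., `R → B` f.t.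
  implies `R → A` f.t.
* `finitePresentation_of_faithfullyFlat` : the same for finite presentation.
-/

set_option autoImplicit false
set_option linter.style.haveILetI false
set_option linter.unusedSimpArgs false
universe u

namespace Groth.Agent.Lib.Helper46.FppfModel

open TensorProduct Groth.Agent.Lib.Helper55.FL Groth.Agent.Lib.Helper46.FlatStage

theorem exists_model_aux (k N A B : Type u) [CommRing k] [CommRing N] [CommRing A] [CommRing B]
    [Algebra k N] [Algebra k A] [Algebra A B] [Algebra.FiniteType ℤ k]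
    [Algebra.FinitePresentation k N] (e₀ : A ⊗[k] N ≃ₐ[A] B)
    [Module.FaithfullyFlat A B] (T : Finset A) (t : Finset B) :
    ∃ (A₁ M₁ : Type u) (_ : CommRing A₁) (_ : CommRing M₁) (_ : Algebra A₁ A)
      (_ : Algebra A₁ M₁) (e : A ⊗[A₁] M₁ ≃ₐ[A] B),
      Algebra.FiniteType ℤ A₁ ∧ Function.Injective (algebraMap A₁ A) ∧
      (∀ x ∈ T, x ∈ Set.range (algebraMap A₁ A)) ∧
      (∀ y ∈ t, ∃ m : M₁, e (1 ⊗ₜ m) = y) ∧
      Algebra.FinitePresentation A₁ M₁ ∧ Module.FaithfullyFlat A₁ M₁ := by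
  classical
  haveI : IsNoetherianRing k := Algebra.FiniteType.isNoetherianRing ℤ _
  haveI : Module.FaithfullyFlat A (A ⊗[k] N) :=
    Module.FaithfullyFlat.of_linearEquiv A B e₀.toLinearEquiv
  obtain ⟨A₁', hA₁', hff⟩ := exists_fg_faithfullyFlat (k := k) (R := A) (N := N) inferInstance
  obtain ⟨A₂', hA₂', ht⟩ := exists_fg_forall_mem_range (k := k) (R := A) (N := N)
    (t.image e₀.symm)
  let A₁ : Subalgebra k A := A₁' ⊔ A₂' ⊔ Algebra.adjoin k (T : Set A)
  have hA₁ : A₁.FG := (hA₁'.sup hA₂').sup (Subalgebra.fg_adjoin_finset T)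
  have h1 : A₁' ≤ A₁ := le_sup_left.trans le_sup_left
  have h2 : A₂' ≤ A₁ := le_sup_right.trans le_sup_left
  haveI := hff A₁ h1
  let e₁ : A ⊗[↥A₁] (↥A₁ ⊗[k] N) ≃ₐ[A] A ⊗[k] N :=
    Algebra.TensorProduct.cancelBaseChange k ↥A₁ A A N
  refine ⟨↥A₁, ↥A₁ ⊗[k] N, inferInstance, inferInstance, inferInstance, inferInstance,
    e₁.trans e₀, ?_, Subtype.val_injective, ?_, ?_, inferInstance, inferInstance⟩
  · haveI : Algebra.FiniteType k ↥A₁ := (Subalgebra.fg_iff_finiteType A₁).1 hA₁
    exact Algebra.FiniteType.trans (S := k) inferInstance inferInstance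
  · intro x hx
    exact ⟨⟨x, (le_sup_right : _ ≤ A₁) (Algebra.subset_adjoin hx)⟩, rfl⟩
  · intro y hy
    obtain ⟨m, hm⟩ := range_phi_mono h2 (ht _ (Finset.mem_image_of_mem _ hy))
    refine ⟨m, ?_⟩
    simp only [AlgEquiv.trans_apply]
    have : e₁ ((1 : A) ⊗ₜ[↥A₁] m) = phi A N A₁ m := cancelBaseChange_includeRight k A N A₁ m
    rw [this, hm]
    simp

theorem exists_model (A B : Type u) [CommRing A] [CommRing B] [Algebra A B]
    [Algebra.FinitePresentation A B] [Module.FaithfullyFlat A B] (T : Finset A) (t : Finset B) :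
    ∃ (A₁ M₁ : Type u) (_ : CommRing A₁) (_ : CommRing M₁) (_ : Algebra A₁ A)
      (_ : Algebra A₁ M₁) (e : A ⊗[A₁] M₁ ≃ₐ[A] B),
      Algebra.FiniteType ℤ A₁ ∧ Function.Injective (algebraMap A₁ A) ∧
      (∀ x ∈ T, x ∈ Set.range (algebraMap A₁ A)) ∧
      (∀ y ∈ t, ∃ m : M₁, e (1 ⊗ₜ m) = y) ∧
      Algebra.FinitePresentation A₁ M₁ ∧ Module.FaithfullyFlat A₁ M₁ :=
  exists_model_aux (Algebra.Presentation.ofFinitePresentation A B).Core
    ((Algebra.Presentation.ofFinitePresentation A B).ModelOfHasCoeffs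
      (Algebra.Presentation.ofFinitePresentation A B).Core) A B
    ((Algebra.Presentation.ofFinitePresentation A B).tensorModelOfHasCoeffsEquiv
      (Algebra.Presentation.ofFinitePresentation A B).Core) T t

/-- Stacks 0367. -/
theorem finiteType_of_faithfullyFlat {R A B : Type u} [CommRing R] [CommRing A] [CommRing B]
    [Algebra R A] [Algebra A B] [Algebra R B] [IsScalarTower R A B] [Algebra.FiniteType R B]
    [Module.FaithfullyFlat A B] [Algebra.FinitePresentation A B] : Algebra.FiniteType R A := by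
  classical
  obtain ⟨t, ht⟩ := (Algebra.FiniteType.out : (⊤ : Subalgebra R B).FG)
  obtain ⟨A₁, M₁, _, _, _, _, e, hft, hinj, -, hte, hfp, hff⟩ := exists_model A B ∅ t
  obtain ⟨s₁, hs₁⟩ := (hft.out : (⊤ : Subalgebra ℤ A₁).FG)
  let A' : Subalgebra R A := Algebra.adjoin R ((s₁.image (algebraMap A₁ A) : Finset A) : Set A)
  have hA'fg : A'.FG := Subalgebra.fg_adjoin_finset _
  have hA₁A' : ∀ x : A₁, algebraMap A₁ A x ∈ A' := by
    intro x
    have hx : x ∈ Algebra.adjoin ℤ (s₁ : Set A₁) := by rw [hs₁]; trivial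
    induction hx using Algebra.adjoin_induction with
    | mem y hy =>
      exact Algebra.subset_adjoin (by
        rw [Finset.coe_image]
        exact Set.mem_image_of_mem _ hy)
    | algebraMap r =>
      rw [eq_intCast (algebraMap ℤ A₁) r, map_intCast]
      exact intCast_mem _ r
    | add x y _ _ hx hy => rw [map_add]; exact add_mem hx hy
    | mul x y _ _ hx hy => rw [map_mul]; exact mul_mem hx hy
  let φ : A₁ →+* ↥A' := (algebraMap A₁ A).codRestrict A' hA₁A'
  letI : Algebra A₁ ↥A' := φ.toAlgebra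
  haveI : IsScalarTower A₁ ↥A' A := .of_algebraMap_eq fun x => rfl
  let M' := ↥A' ⊗[A₁] M₁
  let ψ : M' ⊗[↥A'] A ≃ₐ[↥A'] B :=
    ((Algebra.TensorProduct.comm ↥A' M' A).trans
      ((Algebra.TensorProduct.cancelBaseChange A₁ ↥A' A A M₁).restrictScalars ↥A')).trans
      (e.restrictScalars ↥A')
  let ρ : M' →+* B := (ψ : M' ⊗[↥A'] A →+* B).comp (algebraMap M' (M' ⊗[↥A'] A))
  have hρ0 : ∀ (a : ↥A') (m : M₁), ρ (a ⊗ₜ m) = e ((a : A) ⊗ₜ m) := by
    intro a m
    simp only [ρ, ψ, RingHom.comp_apply, Algebra.TensorProduct.algebraMap_apply,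
      Algebra.algebraMap_self, RingHom.id_apply]
    show e ((Algebra.TensorProduct.cancelBaseChange A₁ (↥A') A A M₁)
      (Algebra.TensorProduct.comm (↥A') M' A ((a ⊗ₜ[A₁] m) ⊗ₜ[↥A'] (1 : A)))) = _
    rw [Algebra.TensorProduct.comm_tmul, Algebra.TensorProduct.cancelBaseChange_tmul]
    congr 1
    rw [Algebra.smul_def, mul_one]
    rfl
  have hρ : Function.Surjective ρ := by
    let S : Subalgebra R B :=
      { ρ.range with
        algebraMap_mem' := fun r => ⟨(algebraMap R ↥A' r) ⊗ₜ 1, by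
          rw [hρ0]
          have : (((algebraMap R ↥A' r : ↥A') : A) ⊗ₜ[A₁] (1 : M₁)) =
              algebraMap A (A ⊗[A₁] M₁) (algebraMap R A r) := rfl
          rw [this, e.commutes, ← IsScalarTower.algebraMap_apply]⟩ }
    have hS : S = ⊤ := by
      rw [eq_top_iff, ← ht]
      apply Algebra.adjoin_le
      intro y hy
      obtain ⟨m, hm⟩ := hte y hy
      exact ⟨(1 : ↥A') ⊗ₜ m, by rw [hρ0]; simpa using hm⟩
    intro b
    have hb : b ∈ S := by rw [hS]; trivial
    exact hb
  have hsurj : Function.Surjective (algebraMap M' (M' ⊗[↥A'] A)) := by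
    intro y
    obtain ⟨m', hm'⟩ := hρ (ψ y)
    exact ⟨m', ψ.injective hm'⟩
  have h3 := Module.FaithfullyFlat.surjective_of_tensorProduct (R := ↥A') (S := M') (T := A) hsurj
  haveI : Algebra.FiniteType R ↥A' := (Subalgebra.fg_iff_finiteType A').1 hA'fg
  exact Algebra.FiniteType.of_surjective A'.val h3


/-- Core of the finite presentation descent: given a finitely presented `R`-algebra `A₀` surjecting
onto `A`, compatibly with a faithfully flat finitely presented model `M₁` over `A₁ → A₀`. -/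
theorem finitePresentation_aux {R A B A₁ M₁ A₀ : Type u} [CommRing R] [CommRing A] [CommRing B]
    [CommRing A₁] [CommRing M₁] [CommRing A₀]
    [Algebra R A] [Algebra A B] [Algebra R B] [IsScalarTower R A B]
    [Algebra A₁ A] [Algebra A₁ M₁] (e : A ⊗[A₁] M₁ ≃ₐ[A] B)
    [Algebra R A₀] [Algebra A₁ A₀] [Algebra.FinitePresentation R A₀]
    [Algebra.FinitePresentation A₁ M₁] [Module.FaithfullyFlat A₁ M₁]
    [Algebra.FinitePresentation R B]
    (π : A₀ →ₐ[R] A) (hπ : Function.Surjective π)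
    (hπ' : ∀ x : A₁, π (algebraMap A₁ A₀ x) = algebraMap A₁ A x) :
    Algebra.FinitePresentation R A := by
  let π' : A₀ →ₐ[A₁] A := { π.toRingHom with commutes' := hπ' }
  haveI : IsScalarTower R A₀ (A₀ ⊗[A₁] M₁) := inferInstance
  haveI : Algebra.FinitePresentation R (A₀ ⊗[A₁] M₁) :=
    Algebra.FinitePresentation.trans R A₀ (A₀ ⊗[A₁] M₁)
  let μ : A₀ ⊗[A₁] M₁ →ₐ[A₁] A ⊗[A₁] M₁ := Algebra.TensorProduct.map π' (AlgHom.id A₁ M₁)
  have hμ : Function.Surjective μ :=
    Algebra.TensorProduct.map_surjective π' (AlgHom.id A₁ M₁) hπ Function.surjective_id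
  let ρ : A₀ ⊗[A₁] M₁ →ₐ[R] B :=
    { ((e : A ⊗[A₁] M₁ →+* B).comp μ.toRingHom) with
      commutes' := fun r => by
        show e (μ ((algebraMap R A₀ r) ⊗ₜ (1 : M₁))) = _
        have h1 : π' (algebraMap R A₀ r) = algebraMap R A r := π.commutes r
        have h0 : μ ((algebraMap R A₀ r) ⊗ₜ (1 : M₁)) = (π' (algebraMap R A₀ r)) ⊗ₜ (1 : M₁) :=
          Algebra.TensorProduct.map_tmul _ _ _ _
        rw [h0, h1]
        have h2 : ((algebraMap R A r) ⊗ₜ[A₁] (1 : M₁)) =
            algebraMap A (A ⊗[A₁] M₁) (algebraMap R A r) := rfl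
        rw [h2, e.commutes, ← IsScalarTower.algebraMap_apply] }
  have hρ : Function.Surjective ρ := e.surjective.comp hμ
  have hker := Algebra.FinitePresentation.ker_fG_of_surjective ρ hρ
  have hkerρ : RingHom.ker ρ.toRingHom =
      (RingHom.ker π.toRingHom).map (algebraMap A₀ (A₀ ⊗[A₁] M₁)) := by
    have h1 : RingHom.ker ρ.toRingHom = RingHom.ker μ := by
      ext x
      simp only [RingHom.mem_ker]
      show e (μ x) = 0 ↔ μ x = 0
      exact e.map_eq_zero_iff
    rw [h1]
    have h2 := Algebra.TensorProduct.rTensor_ker (R := A₁) (C := M₁) π' hπ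
    rw [h2]
    rfl
  rw [hkerρ] at hker
  have hkerπ : (RingHom.ker π.toRingHom).FG := Ideal.FG.of_FG_map_of_faithfullyFlat hker
  exact Algebra.FinitePresentation.of_surjective (f := π) hπ hkerπ

/-- Stacks 02KK-type lemma. -/
theorem finitePresentation_of_faithfullyFlat {R A B : Type u} [CommRing R] [CommRing A]
    [CommRing B] [Algebra R A] [Algebra A B] [Algebra R B] [IsScalarTower R A B]
    [Algebra.FinitePresentation R B] [Module.FaithfullyFlat A B]
    [Algebra.FinitePresentation A B] : Algebra.FinitePresentation R A := by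
  classical
  haveI : Algebra.FiniteType R A := finiteType_of_faithfullyFlat (R := R) (A := A) (B := B)
  obtain ⟨T, hT⟩ := (Algebra.FiniteType.out : (⊤ : Subalgebra R A).FG)
  obtain ⟨A₁, M₁, _, _, _, _, e, hft, hinj, hTA₁, -, hfp, hff⟩ := exists_model A B T ∅
  haveI : Algebra.FinitePresentation ℤ A₁ := Algebra.FinitePresentation.of_finiteType.1 hft
  let π : R ⊗[ℤ] A₁ →ₐ[R] A := Algebra.TensorProduct.lift (Algebra.ofId R A)
    ((Algebra.ofId A₁ A).restrictScalars ℤ) (fun _ _ => Commute.all _ _)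
  have hπ1 : ∀ x : A₁, π ((1 : R) ⊗ₜ x) = algebraMap A₁ A x := fun x =>
    (Algebra.TensorProduct.lift_tmul _ _ _ _ _).trans (by simp [Algebra.ofId_apply])
  have hπ : Function.Surjective π := by
    have h1 : π.range = ⊤ := by
      rw [eq_top_iff, ← hT]
      apply Algebra.adjoin_le
      intro x hx
      obtain ⟨x₁, rfl⟩ := hTA₁ x hx
      exact ⟨(1 : R) ⊗ₜ x₁, hπ1 x₁⟩
    intro a
    have : a ∈ π.range := by rw [h1]; trivial
    exact this
  letI : Algebra A₁ (R ⊗[ℤ] A₁) := Algebra.TensorProduct.rightAlgebra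
  exact finitePresentation_aux (A₀ := R ⊗[ℤ] A₁) e π hπ hπ1

end Groth.Agent.Lib.Helper46.FppfModel
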