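import Mathlib
import Groth.Agent.Lib.Helper30.EtaleSource
import Groth.Agent.Lib.Helper46.FppfModel

/-!
# Descent of properties along fppf covers of the SOURCE (schemes)

Framework copied from helper30's `EtaleSource` (étale covers), now for surjective flat morphisms
locally of finite presentation; instances: locally of finite type / finite presentation
(Stacks 036N / 036M), using `Groth.Agent.Lib.Helper46.FppfModel`.
-/

set_option autoImplicit false
universe u
open CategoryTheory CategoryTheory.Limits AlgebraicGeometry Opposite TopologicalSpace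

namespace Groth.Agent.Lib.Helper46.FppfSourceSch

open Groth.Agent.Lib.Helper30.EtaleSource

/-- The affine form of descent along fppf surjections of the source. -/
def SpecDescends (P : MorphismProperty Scheme.{u}) : Prop :=
  ∀ ⦃A B C : CommRingCat.{u}⦄ (φ : A ⟶ B) (ψ : B ⟶ C), Flat (Spec.map ψ) →
    LocallyOfFinitePresentation (Spec.map ψ) →
    Surjective (Spec.map ψ) → P (Spec.map ψ ≫ Spec.map φ) → P (Spec.map φ)

variable {P : MorphismProperty Scheme.{u}}

set_option backward.isDefEq.respectTransparency false in
/-- The all-affine case. -/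
theorem of_isAffine [P.RespectsIso] (H : SpecDescends P) {X' X Y : Scheme.{u}} [IsAffine X']
    [IsAffine X] [IsAffine Y] (e : X' ⟶ X) (f : X ⟶ Y) [Flat e] [LocallyOfFinitePresentation e]
    [Surjective e] (h : P (e ≫ f)) : P f := by
  rw [← iff_Spec_map_appTop P]
  refine H f.appTop e.appTop ?_ ?_ ?_ ?_
  · rw [iff_Spec_map_appTop @Flat]; infer_instance
  · rw [iff_Spec_map_appTop @LocallyOfFinitePresentation]; infer_instance
  · rw [iff_Spec_map_appTop @Surjective]; infer_instance
  · rw [← Spec.map_comp, ← Scheme.Hom.comp_appTop, iff_Spec_map_appTop P]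
    exact h

set_option backward.isDefEq.respectTransparency false in
/-- Affine source and target, arbitrary fppf cover. -/
theorem of_isAffine_of_isAffine [IsZariskiLocalAtSource P] (H : SpecDescends P)
    {X' X Y : Scheme.{u}} [IsAffine X] [IsAffine Y] (e : X' ⟶ X) (f : X ⟶ Y) [Flat e]
    [LocallyOfFinitePresentation e] [Surjective e] (h : P (e ≫ f)) : P f := by
  obtain ⟨K, hK, hKsurj⟩ :=
    Groth.Agent.Lib.Helper30.exists_compact_open_surj e e.isOpenMap e.surjective
  have : CompactSpace K := isCompact_iff_compactSpace.mp hK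
  obtain ⟨W, p, hW, hp, hpe, hpP⟩ := exists_affine_cover_of_compact K.toScheme
  have hsurj : Surjective (p ≫ K.ι ≫ e) := by
    refine ⟨fun x => ?_⟩
    obtain ⟨y, hy, rfl⟩ := hKsurj x
    obtain ⟨w, hw⟩ := hp.surj ⟨y, hy⟩
    refine ⟨w, ?_⟩
    rw [Scheme.Hom.comp_apply, Scheme.Hom.comp_apply, hw]
    rfl
  have hflat : Flat (p ≫ K.ι ≫ e) := inferInstance
  have hlfp : LocallyOfFinitePresentation (p ≫ K.ι ≫ e) := inferInstance
  refine of_isAffine H (p ≫ K.ι ≫ e) f ?_
  rw [Category.assoc, Category.assoc]
  exact hpP P _ (IsZariskiLocalAtSource.comp h K.ι)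

set_option backward.isDefEq.respectTransparency false in
/-- Affine target. -/
theorem of_isAffine_target [IsZariskiLocalAtSource P] (H : SpecDescends P)
    {X' X Y : Scheme.{u}} [IsAffine Y] (e : X' ⟶ X) (f : X ⟶ Y) [Flat e]
    [LocallyOfFinitePresentation e] [Surjective e] (h : P (e ≫ f)) : P f := by
  rw [IsZariskiLocalAtSource.iff_of_openCover (P := P) X.affineCover]
  intro i
  refine of_isAffine_of_isAffine H (pullback.snd e (X.affineCover.f i)) _ ?_
  rw [← pullback.condition_assoc]
  exact IsZariskiLocalAtSource.comp h _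

set_option backward.isDefEq.respectTransparency false in
/-- **Descent along fppf surjections of the source**, reduced to the affine statement. -/
theorem of_fppf_surjective_comp [IsZariskiLocalAtTarget P] [IsZariskiLocalAtSource P]
    (H : SpecDescends P) {X' X Y : Scheme.{u}} (e : X' ⟶ X) (f : X ⟶ Y) [Flat e]
    [LocallyOfFinitePresentation e] [Surjective e] (h : P (e ≫ f)) : P f := by
  rw [IsZariskiLocalAtTarget.iff_of_iSup_eq_top (P := P) _ (iSup_affineOpens_eq_top Y)]
  intro U
  have : IsAffine (U : Y.Opens).toScheme := U.2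
  have : Surjective (e ∣_ (f ⁻¹ᵁ U)) :=
    IsZariskiLocalAtTarget.restrict (P := @Surjective) inferInstance _
  have : Flat (e ∣_ (f ⁻¹ᵁ U)) :=
    IsZariskiLocalAtTarget.restrict (P := @Flat) inferInstance _
  have : LocallyOfFinitePresentation (e ∣_ (f ⁻¹ᵁ U)) :=
    IsZariskiLocalAtTarget.restrict (P := @LocallyOfFinitePresentation) inferInstance _
  refine of_isAffine_target H (e ∣_ (f ⁻¹ᵁ U)) (f ∣_ U) ?_
  have := IsZariskiLocalAtTarget.restrict h (U : Y.Opens)
  rwa [morphismRestrict_comp] at this

/-- The ring-level form of descent along fppf surjections of the source. -/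
def RingDescends (Q : ∀ {R S : Type u} [CommRing R] [CommRing S], (R →+* S) → Prop) : Prop :=
  ∀ ⦃A B C : Type u⦄ [CommRing A] [CommRing B] [CommRing C] (φ : A →+* B) (ψ : B →+* C),
    ψ.Flat → ψ.FinitePresentation → Function.Surjective (PrimeSpectrum.comap ψ) →
    Q (ψ.comp φ) → Q φ

set_option backward.isDefEq.respectTransparency false in
theorem specDescends_of_ringDescends
    {Q : ∀ {R S : Type u} [CommRing R] [CommRing S], (R →+* S) → Prop}
    [HasRingHomProperty P Q] (h : RingDescends Q) : SpecDescends P := by
  intro A B C φ ψ hψ hψ' hsurj hP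
  rw [HasRingHomProperty.Spec_iff (P := P)]
  refine h φ.hom ψ.hom ?_ ?_ ?_ ?_
  · exact (HasRingHomProperty.Spec_iff (P := @Flat)).1 hψ
  · exact (HasRingHomProperty.Spec_iff (P := @LocallyOfFinitePresentation)).1 hψ'
  · exact hsurj.surj
  · rw [← Spec.map_comp, HasRingHomProperty.Spec_iff (P := P)] at hP
    exact hP

theorem ringDescends_finiteType : RingDescends.{u} @RingHom.FiniteType := by
  intro A B C _ _ _ φ ψ hψ hψ' hsurj hQ
  let _ := φ.toAlgebra
  let _ := ψ.toAlgebra
  let _ := (ψ.comp φ).toAlgebra
  have : IsScalarTower A B C := IsScalarTower.of_algebraMap_eq' rfl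
  have : Module.Flat B C := hψ
  have : Algebra.FinitePresentation B C := hψ'
  have : Module.FaithfullyFlat B C := Module.FaithfullyFlat.of_comap_surjective hsurj
  have : Algebra.FiniteType A C := hQ
  exact Groth.Agent.Lib.Helper46.FppfModel.finiteType_of_faithfullyFlat (R := A) (A := B) (B := C)

theorem ringDescends_finitePresentation : RingDescends.{u} @RingHom.FinitePresentation := by
  intro A B C _ _ _ φ ψ hψ hψ' hsurj hQ
  let _ := φ.toAlgebra
  let _ := ψ.toAlgebra
  let _ := (ψ.comp φ).toAlgebra
  have : IsScalarTower A B C := IsScalarTower.of_algebraMap_eq' rfl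
  have : Module.Flat B C := hψ
  have : Algebra.FinitePresentation B C := hψ'
  have : Module.FaithfullyFlat B C := Module.FaithfullyFlat.of_comap_surjective hsurj
  have : Algebra.FinitePresentation A C := hQ
  exact Groth.Agent.Lib.Helper46.FppfModel.finitePresentation_of_faithfullyFlat
    (R := A) (A := B) (B := C)

/-- **Locally of finite type descends along fppf surjections of the source** (Stacks 036N). -/
theorem locallyOfFiniteType_of_fppf_surjective_comp {X' X Y : Scheme.{u}} (e : X' ⟶ X)
    (f : X ⟶ Y) [Flat e] [LocallyOfFinitePresentation e] [Surjective e]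
    [LocallyOfFiniteType (e ≫ f)] : LocallyOfFiniteType f :=
  of_fppf_surjective_comp (P := @LocallyOfFiniteType)
    (specDescends_of_ringDescends ringDescends_finiteType) e f inferInstance

/-- **Locally of finite presentation descends along fppf surjections of the source**
(Stacks 036M). -/
theorem locallyOfFinitePresentation_of_fppf_surjective_comp {X' X Y : Scheme.{u}} (e : X' ⟶ X)
    (f : X ⟶ Y) [Flat e] [LocallyOfFinitePresentation e] [Surjective e]
    [LocallyOfFinitePresentation (e ≫ f)] : LocallyOfFinitePresentation f :=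
  of_fppf_surjective_comp (P := @LocallyOfFinitePresentation)
    (specDescends_of_ringDescends ringDescends_finitePresentation) e f inferInstance

/-- A property that is Zariski local at the source and descends along fppf surjections of the
source is local at the source for the fppf precoverage. -/
theorem isLocalAtSource_fppf (P : MorphismProperty Scheme.{u}) [IsZariskiLocalAtSource P]
    (hcomp : ∀ {X' X Y : Scheme.{u}} (e : X' ⟶ X) (f : X ⟶ Y), Flat e →
      LocallyOfFinitePresentation e → P f → P (e ≫ f))
    (hdesc : ∀ {X' X Y : Scheme.{u}} (e : X' ⟶ X) (f : X ⟶ Y), Flat e →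
      LocallyOfFinitePresentation e → Surjective e → P (e ≫ f) → P f) :
    MorphismProperty.IsLocalAtSource P Scheme.fppfPrecoverage := by
  refine MorphismProperty.IsLocalAtSource.mk_of_iff fun {X Y} {f} {R} hR =>
    ⟨fun hf U g hg => ?_, fun H => ?_⟩
  · have hR2 := hR.2 hg
    exact hcomp g f hR2.1 hR2.2 hf
  · have hex : ∀ x : X, ∃ (U : Scheme.{u}) (g : U ⟶ X), R g ∧ x ∈ Set.range g := by
      intro x
      have hR1 := hR.1
      rw [Scheme.jointlySurjectivePrecoverage,
        Presieve.mem_comap_jointlySurjectivePrecoverage_iff] at hR1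
      obtain ⟨U, g, hg, heq⟩ := hR1 x
      exact ⟨U, g, hg, heq⟩
    choose U g hg hx using hex
    have hgfl : ∀ x, Flat (g x) := fun x => (hR.2 (hg x)).1
    have hgfp : ∀ x, LocallyOfFinitePresentation (g x) := fun x => (hR.2 (hg x)).2
    let e : (∐ U) ⟶ X := Sigma.desc g
    have he1 : Flat e := IsZariskiLocalAtSource.sigmaDesc (P := @Flat) hgfl
    have he2 : LocallyOfFinitePresentation e :=
      IsZariskiLocalAtSource.sigmaDesc (P := @LocallyOfFinitePresentation) hgfp
    have hes : Surjective e := by
      refine ⟨fun x => ?_⟩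
      obtain ⟨u, hu⟩ := hx x
      refine ⟨Sigma.ι U x u, ?_⟩
      rw [← Scheme.Hom.comp_apply, Sigma.ι_desc]
      exact hu
    have hef : P (e ≫ f) := by
      have : e ≫ f = Sigma.desc fun x => g x ≫ f := by
        apply Sigma.hom_ext
        intro x
        simp [e]
      rw [this]
      exact IsZariskiLocalAtSource.sigmaDesc (P := P) fun x => H (hg x)
    exact hdesc e f he1 he2 hes hef

theorem isLocalAtSource_fppf_locallyOfFiniteType :
    MorphismProperty.IsLocalAtSource (@LocallyOfFiniteType : MorphismProperty Scheme.{u})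
      Scheme.fppfPrecoverage :=
  isLocalAtSource_fppf _
    (fun e f _ _ hf => by
      have : LocallyOfFiniteType f := hf
      infer_instance)
    (fun e f _ _ _ h => by
      have : LocallyOfFiniteType (e ≫ f) := h
      exact locallyOfFiniteType_of_fppf_surjective_comp e f)

theorem isLocalAtSource_fppf_locallyOfFinitePresentation :
    MorphismProperty.IsLocalAtSource (@LocallyOfFinitePresentation : MorphismProperty Scheme.{u})
      Scheme.fppfPrecoverage :=
  isLocalAtSource_fppf _
    (fun e f _ _ hf => by
      have : LocallyOfFinitePresentation f := hf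
      infer_instance)
    (fun e f _ _ _ h => by
      have : LocallyOfFinitePresentation (e ≫ f) := h
      exact locallyOfFinitePresentation_of_fppf_surjective_comp e f)

end Groth.Agent.Lib.Helper46.FppfSourceSch
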