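import Mathlib.AlgebraicGeometry.Morphisms.Etale
import Mathlib.AlgebraicGeometry.Morphisms.Flat
import Mathlib.AlgebraicGeometry.Morphisms.FlatDescent
import Mathlib.AlgebraicGeometry.Morphisms.LocalFlatDescent
import Mathlib.AlgebraicGeometry.Morphisms.Descent
import Mathlib.CategoryTheory.MorphismProperty.Local
import Mathlib.CategoryTheory.Limits.Shapes.Diagonal
import Groth.Agent.Lib.Helper62.FlatDescent

/-!
# Properties of morphisms of schemes that are etale local on the source-and-target (helper46)

`EtLocal Q` packages what is needed of a property `Q` of morphisms of schemes for the chart-wise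
property `AlgSp.LocP Q` of morphisms of algebraic spaces to be well behaved: stability under base
change, under pre- and postcomposition with etale morphisms, and etale locality on the source.

We prove `EtLocal @Flat`, fpqc descent for flatness (`DescendsAlong @Flat`), and a finite-family
form of fpqc descent (`of_finite_flat_family`).
-/

set_option autoImplicit false
universe u
open CategoryTheory CategoryTheory.Limits AlgebraicGeometry

namespace Groth.Agent.Lib.Helper46

/-- `Q` is etale local on the source-and-target (in the form used for charts of algebraic spaces). -/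
structure EtLocal (Q : MorphismProperty Scheme.{u}) : Prop where
  baseChange : Q.IsStableUnderBaseChange
  precomp : ∀ ⦃U' U V : Scheme.{u}⦄ (g : U' ⟶ U) (q : U ⟶ V), Etale g → Q q → Q (g ≫ q)
  postcomp : ∀ ⦃U V V' : Scheme.{u}⦄ (q : U ⟶ V) (b : V ⟶ V'), Etale b → Q q → Q (q ≫ b)
  of_cover : ∀ ⦃U' U V : Scheme.{u}⦄ (g : U' ⟶ U) (q : U ⟶ V), Etale g → Surjective g →
    Q (g ≫ q) → Q q

namespace EtLocal

variable {Q : MorphismProperty Scheme.{u}}

theorem respectsIso (hQ : EtLocal Q) : Q.RespectsIso :=
  haveI := hQ.baseChange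
  MorphismProperty.IsStableUnderBaseChange.respectsIso

/-- cancellation: if `k ≫ r` has `Q` and `r` is etale then `k` has `Q`. -/
theorem cancel (hQ : EtLocal Q) {A B C : Scheme.{u}} (k : A ⟶ B) (r : B ⟶ C) (hr : Etale r)
    (h : Q (k ≫ r)) : Q k := by
  haveI := hQ.baseChange
  set gr : A ⟶ pullback (k ≫ r) r := pullback.lift (𝟙 A) k (by simp) with hgr
  have hk : k = gr ≫ pullback.snd _ _ := by rw [hgr, pullback.lift_snd]
  have hpb := pullback_lift_diagonal_isPullback k r
  have h1 : Etale (pullback.diagonal r) := inferInstance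
  have h2 : Etale gr := MorphismProperty.of_isPullback (P := @Etale) hpb h1
  rw [hk]
  exact hQ.precomp _ _ h2 (MorphismProperty.pullback_snd _ _ h)

/-- a property that contains etale morphisms, is stable under composition and base change and is
etale local on the source is `EtLocal`. -/
theorem mk' (Q : MorphismProperty Scheme.{u}) [Q.IsStableUnderBaseChange]
    [Q.IsStableUnderComposition] (hle : (@Etale : MorphismProperty Scheme.{u}) ≤ Q)
    (hc : ∀ ⦃U' U V : Scheme.{u}⦄ (g : U' ⟶ U) (q : U ⟶ V), Etale g → Surjective g →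
      Q (g ≫ q) → Q q) : EtLocal Q where
  baseChange := inferInstance
  precomp _ _ _ g q hg hq := Q.comp_mem _ _ (hle _ _ _ hg) hq
  postcomp _ _ _ q b hb hq := Q.comp_mem _ _ hq (hle _ _ _ hb)
  of_cover := hc

end EtLocal

/-- family version of locality of flatness on the source for flat coverings -/
theorem flat_of_family {U V : Scheme.{u}} (q : U ⟶ V)
    (H : ∀ x : U, ∃ (E : Scheme.{u}) (e : E ⟶ U), Flat e ∧ Flat (e ≫ q) ∧ x ∈ Set.range e) :
    Flat q := by
  refine Flat.of_stalkMap _ fun y ↦ ?_
  obtain ⟨E, g, hg, hgq, y', rfl⟩ := H y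
  have h0 : ((g ≫ q).stalkMap y').hom.Flat := Flat.stalkMap (g ≫ q) y'
  rw [Scheme.Hom.stalkMap_comp] at h0
  have h1 : ((g.stalkMap y').hom.comp (q.stalkMap (g y')).hom).Flat := h0
  have h2 : (g.stalkMap y').hom.Flat := Flat.stalkMap g y'
  have hff : (g.stalkMap y').hom.FaithfullyFlat := by
    algebraize [(g.stalkMap y').hom]
    rw [← RingHom.algebraMap_toAlgebra (g.stalkMap y').hom,
      RingHom.faithfullyFlat_algebraMap_iff]
    haveI : IsLocalHom (algebraMap (U.presheaf.stalk (g y')) (E.presheaf.stalk y')) := by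
      rw [RingHom.algebraMap_toAlgebra]; infer_instance
    exact Module.FaithfullyFlat.of_flat_of_isLocalHom
  exact Helper62.ringHom_flat_of_comp_of_faithfullyFlat _ _ hff h1

end Groth.Agent.Lib.Helper46

namespace Groth.Agent.Lib.Helper46

theorem etLocal_flat : EtLocal (@Flat : MorphismProperty Scheme.{u}) := by
  refine EtLocal.mk' _ (fun _ _ f hf => ?_) (fun U' U V g q hg hs h => ?_)
  · haveI : Etale f := hf
    infer_instance
  · refine flat_of_family q fun x => ?_
    obtain ⟨y, rfl⟩ := hs.surj x
    exact ⟨U', g, inferInstance, h, y, rfl⟩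

/-- flatness satisfies fpqc descent -/
instance descendsAlong_flat : MorphismProperty.DescendsAlong (@Flat : MorphismProperty Scheme.{u})
    (@Surjective ⊓ @Flat ⊓ @QuasiCompact) := by
  refine HasRingHomProperty.descendsAlong_flat (Q := RingHom.Flat)
    (RingHom.CodescendsAlong.mk _ RingHom.Flat.respectsIso ?_)
  intro R S T _ _ _ _ _ h h'
  rw [RingHom.flat_algebraMap_iff] at h' ⊢
  rw [RingHom.faithfullyFlat_algebraMap_iff] at h
  exact Module.Flat.of_flat_tensorProduct R T S

/-- fpqc descent along a finite jointly surjective family of flat morphisms from affine schemes to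
an affine scheme. -/
theorem of_finite_flat_family (P : MorphismProperty Scheme.{u}) [P.IsStableUnderBaseChange]
    [IsZariskiLocalAtTarget P] [P.DescendsAlong (@Surjective ⊓ @Flat ⊓ @QuasiCompact)]
    {U Z : Scheme.{u}} (q : U ⟶ Z) [IsAffine Z] {m : ℕ} (W : Fin m → Scheme.{u})
    (c : ∀ j, W j ⟶ Z) (hW : ∀ j, IsAffine (W j)) (hc : ∀ j, Flat (c j))
    (hs : ∀ z : Z, ∃ j, z ∈ Set.range (c j))
    (H : ∀ j, P (pullback.snd q (c j))) : P q := by
  have : P.RespectsIso := MorphismProperty.IsStableUnderBaseChange.respectsIso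
  let φ : (∐ W) ⟶ Z := Sigma.desc c
  have hφ : (@Surjective ⊓ @Flat ⊓ @QuasiCompact : MorphismProperty Scheme.{u}) φ := by
    refine ⟨⟨⟨fun y => ?_⟩, ?_⟩, ?_⟩
    · obtain ⟨j, x, rfl⟩ := hs y
      refine ⟨Sigma.ι W j x, ?_⟩
      rw [← Scheme.Hom.comp_apply, Sigma.ι_desc]
    · rw [IsZariskiLocalAtSource.iff_of_openCover (P := @Flat) (sigmaOpenCover _)]
      intro i
      change Flat (Sigma.ι W i ≫ Sigma.desc c)
      rw [Sigma.ι_desc]
      exact hc i
    · change QuasiCompact φ
      infer_instance
  apply MorphismProperty.of_pullback_snd_of_descendsAlong (P := P) (f := q) (g := φ) hφ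
  rw [IsZariskiLocalAtTarget.iff_of_openCover (P := P) (sigmaOpenCover W)]
  intro i
  change P (pullback.snd (pullback.snd q φ) (Sigma.ι W i))
  have big : IsPullback (pullback.fst (pullback.snd q φ) (Sigma.ι W i) ≫ pullback.fst q φ)
      (pullback.snd (pullback.snd q φ) (Sigma.ι W i)) q (Sigma.ι W i ≫ φ) :=
    (IsPullback.of_hasPullback (pullback.snd q φ) (Sigma.ι W i)).flip.paste_vert
      (IsPullback.of_hasPullback q φ).flip |>.flip
  have e : Sigma.ι W i ≫ φ = c i := Sigma.ι_desc _ _
  rw [e] at big
  rw [← P.cancel_left_of_respectsIso big.isoPullback.inv, big.isoPullback_inv_snd]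
  exact H i

end Groth.Agent.Lib.Helper46
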