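import Groth.Prelude.Def_AlgSpCov
import Groth.Agent.Lib.Helper36.AlgSpCharts
import Groth.Agent.Lib.Helper23.AlgSpMor4
import Groth.Agent.Lib.Helper46.EtLocal

/-!
# Chart-wise properties of morphisms of algebraic spaces (helper46)

For a property `Q` of morphisms of schemes which is etale local on the source-and-target
(`EtLocal Q`), the chart-wise property `AlgSp.LocP Q` can be checked on one chart diagram with
surjective source chart (`locP_of_chart`), is inherited by charts of arbitrary base changes to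
schemes (`locP_fibre`), and is stable under base change (`locP_of_isPullback`).
-/

set_option autoImplicit false
universe u
open CategoryTheory CategoryTheory.Limits AlgebraicGeometry Opposite

namespace Groth.Agent.Lib.Helper46.LocPChart

open AlgSp Groth.Agent.Lib.Helper36.AlgSpCharts Groth.Agent.Lib.Helper23.AlgSpMor
open Groth.Agent.Lib.Helper46

variable {S : Scheme.{u}} {Q : MorphismProperty Scheme.{u}}

/-- **One chart suffices**: if one chart diagram of `f` with surjective etale source chart has top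
arrow in `Q`, then `f` has `Q` on every chart diagram. -/
theorem locP_of_chart (hQ : EtLocal Q) {X Y : Sp S} (f : X ⟶ Y) {U V : Over S}
    (a : (yon S).obj U ⟶ X) (b : (yon S).obj V ⟶ Y) (h : U ⟶ V)
    (ha : RepWith @Etale a) (has : RepWith @Surjective a) (hb : RepWith @Etale b)
    (comm : a ≫ f = (yon S).map h ≫ b) (hh : Q h.left) : LocP Q f := by
  intro U' V' a' b' h' ha' hb' comm'
  obtain ⟨U'', p1, p2, sqU⟩ := exists_isPullback_yon a a' ha'.rep
  have hp1 : Etale p1.left := prop_fst_of_isPullback sqU ha'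
  have hp2e : Etale p2.left := prop_snd_of_isPullback sqU ha
  have hp2s : Surjective p2.left := prop_snd_of_isPullback sqU has
  obtain ⟨V'', r1, r2, sqV⟩ := exists_isPullback_yon b b' hb'.rep
  have hr1 : Etale r1.left := prop_fst_of_isPullback sqV hb'
  have hr2 : Etale r2.left := prop_snd_of_isPullback sqV hb
  obtain ⟨k', hk1, hk2⟩ := sqV.exists_lift ((yon S).map (p1 ≫ h)) ((yon S).map (p2 ≫ h')) (by
    rw [Functor.map_comp, Category.assoc, ← comm, ← Category.assoc, sqU.w, Category.assoc, comm',
      Functor.map_comp, Category.assoc])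
  obtain ⟨k, rfl⟩ := (yon S).map_surjective k'
  have e1 : k ≫ r1 = p1 ≫ h := (yon S).map_injective (by simpa using hk1)
  have e2 : k ≫ r2 = p2 ≫ h' := (yon S).map_injective (by simpa using hk2)
  have q1 : Q (k.left ≫ r1.left) := by
    rw [← Over.comp_left, e1, Over.comp_left]
    exact hQ.precomp _ _ hp1 hh
  have hk : Q k.left := hQ.cancel _ _ hr1 q1
  have q2 : Q (p2.left ≫ h'.left) := by
    rw [← Over.comp_left, ← e2, Over.comp_left]
    exact hQ.postcomp _ _ hr2 hk
  exact hQ.of_cover _ _ hp2e hp2s q2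

/-- **Charts of base changes to schemes**: if `f : X ⟶ Y` has `Q` chart-wise, then for every scheme
`T` with a map `t : h_T ⟶ Y` (not necessarily etale), every pullback square `P = X ×_Y h_T` and every
etale chart `e : h_E ⟶ P`, the morphism of schemes `E ⟶ T` has `Q`. -/
theorem locP_fibre (hQ : EtLocal Q) {X Y : Sp S} (hX : IsAlgSpace X) (hY : IsAlgSpace Y)
    (f : X ⟶ Y) (hf : LocP Q f) {T : Over S} (t : (yon S).obj T ⟶ Y) {P : Sp S}
    (pfst : P ⟶ X) (psnd : P ⟶ (yon S).obj T) (sqP : IsPullback pfst psnd f t)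
    {E : Over S} (e : (yon S).obj E ⟶ P) (he : RepWith @Etale e) (k : E ⟶ T)
    (hk : (yon S).map k = e ≫ psnd) : Q k.left := by
  haveI := hQ.baseChange
  -- atlas of `Y`
  obtain ⟨V, c, hce, hcs⟩ := hY.atlas
  -- atlas of `X ×_Y h_V`
  have hP₀ : IsAlgSpace (pullback f c) :=
    isAlgSpace_of_isPullback hX (IsAlgSpace.yon_obj V) hY.diag (IsPullback.of_hasPullback f c)
  obtain ⟨U, d, hde, hds⟩ := hP₀.atlas
  have hfst_e : RepWith @Etale (pullback.fst f c) :=
    MorphismProperty.pullback_fst (P := RepWith @Etale) f c hce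
  have hfst_s : RepWith @Surjective (pullback.fst f c) :=
    MorphismProperty.pullback_fst (P := RepWith @Surjective) f c hcs
  set a : (yon S).obj U ⟶ X := d ≫ pullback.fst f c with ha_def
  have hae : RepWith @Etale a := (RepWith @Etale).comp_mem _ _ hde hfst_e
  have has : RepWith @Surjective a := (RepWith @Surjective).comp_mem _ _ hds hfst_s
  obtain ⟨h, hh⟩ := (yon S).map_surjective (d ≫ pullback.snd f c)
  have comm : a ≫ f = (yon S).map h ≫ c := by
    rw [hh, ha_def, Category.assoc, Category.assoc, pullback.condition]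
  have hQh : Q h.left := hf a c h hae hce comm
  -- `V'' = T ×_Y V`
  obtain ⟨V'', s1, s2, sqV⟩ := exists_isPullback_yon t c hce.rep
  have hs1 : Etale s1.left := prop_fst_of_isPullback sqV hce
  -- `E'' = E ×_X U`
  obtain ⟨E'', t1, t2, sqE⟩ := exists_isPullback_yon (e ≫ pfst) a hae.rep
  have ht1e : Etale t1.left := prop_fst_of_isPullback sqE hae
  have ht1s : Surjective t1.left := prop_fst_of_isPullback sqE has
  -- `kk : E'' ⟶ V''`
  obtain ⟨kk', hkk1, hkk2⟩ := sqV.exists_lift ((yon S).map (t1 ≫ k)) ((yon S).map (t2 ≫ h)) (by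
    rw [Functor.map_comp, Functor.map_comp, hk, Category.assoc, Category.assoc, ← sqP.w,
      ← Category.assoc e, ← Category.assoc, sqE.w, Category.assoc, comm, Category.assoc])
  obtain ⟨kk, rfl⟩ := (yon S).map_surjective kk'
  have e1 : kk ≫ s1 = t1 ≫ k := (yon S).map_injective (by simpa using hkk1)
  have e2 : kk ≫ s2 = t2 ≫ h := (yon S).map_injective (by simpa using hkk2)
  -- `TT = U ×_V V''`
  have sqT := IsPullback.of_hasPullback h s2
  set τ1 := pullback.fst h s2
  set τ2 := pullback.snd h s2
  have hτ2 : Q τ2.left :=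
    MorphismProperty.of_isPullback (P := Q) (sqT.map (Over.forget S)) hQh
  set m : E'' ⟶ pullback h s2 := pullback.lift t2 kk e2.symm with hm
  have m1 : m ≫ τ1 = t2 := pullback.lift_fst _ _ _
  have m2 : m ≫ τ2 = kk := pullback.lift_snd _ _ _
  -- `h_TT = h_U ×_X P`
  have sqTy : IsPullback ((yon S).map τ1) ((yon S).map τ2) ((yon S).map h) ((yon S).map s2) :=
    sqT.map (yon S)
  have outer : IsPullback ((yon S).map τ1) ((yon S).map (τ2 ≫ s1)) (a ≫ f) t := by
    have := sqTy.paste_vert sqV.flip
    rw [← comm] at this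
    simpa [Functor.map_comp] using this
  obtain ⟨β, hβ1, hβ2⟩ := sqP.exists_lift ((yon S).map τ1 ≫ a) ((yon S).map (τ2 ≫ s1)) (by
    rw [Category.assoc]; exact outer.w)
  have sqβ : IsPullback ((yon S).map τ1) β a pfst := by
    refine (IsPullback.of_right ?_ hβ1 sqP.flip).flip
    rw [hβ2]
    exact outer.flip
  -- `h_E'' = h_E ×_P h_TT`
  have hmβ : (yon S).map m ≫ β = (yon S).map t1 ≫ e := by
    apply sqP.hom_ext
    · rw [Category.assoc, hβ1, ← Category.assoc, ← Functor.map_comp, m1, Category.assoc, sqE.w]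
    · rw [Category.assoc, hβ2, ← Functor.map_comp, ← Category.assoc, m2, e1, Functor.map_comp,
        hk, Category.assoc]
  have sqm : IsPullback ((yon S).map m) ((yon S).map t1) β e := by
    refine IsPullback.of_right ?_ hmβ sqβ
    rw [← Functor.map_comp, m1]
    exact sqE.flip
  have hme : Etale m.left := prop_fst_of_isPullback sqm he
  have hkk : Q kk.left := by
    rw [← m2, Over.comp_left]
    exact hQ.precomp _ _ hme hτ2
  have q2 : Q (t1.left ≫ k.left) := by
    rw [← Over.comp_left, ← e1, Over.comp_left]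
    exact hQ.postcomp _ _ hs1 hkk
  exact hQ.of_cover _ _ ht1e ht1s q2

/-- **Base change**: the chart-wise property `LocP Q` is stable under base change of algebraic
spaces. -/
theorem locP_of_isPullback (hQ : EtLocal Q) {X Y X' Y' : Sp S} (hX : IsAlgSpace X)
    (hY : IsAlgSpace Y) (hX' : IsAlgSpace X') (hY' : IsAlgSpace Y') {f : X ⟶ Y} {g : Y' ⟶ Y}
    {fst : X' ⟶ X} {f' : X' ⟶ Y'} (sq : IsPullback fst f' f g) (hf : LocP Q f) : LocP Q f' := by
  obtain ⟨V', b', hb'e, hb's⟩ := hY'.atlas
  have hP' : IsAlgSpace (pullback f' b') :=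
    isAlgSpace_of_isPullback hX' (IsAlgSpace.yon_obj V') hY'.diag (IsPullback.of_hasPullback f' b')
  obtain ⟨U', d', hd'e, hd's⟩ := hP'.atlas
  have hfst_e : RepWith @Etale (pullback.fst f' b') :=
    MorphismProperty.pullback_fst (P := RepWith @Etale) f' b' hb'e
  have hfst_s : RepWith @Surjective (pullback.fst f' b') :=
    MorphismProperty.pullback_fst (P := RepWith @Surjective) f' b' hb's
  have ha'e : RepWith @Etale (d' ≫ pullback.fst f' b') := (RepWith @Etale).comp_mem _ _ hd'e hfst_e
  have ha's : RepWith @Surjective (d' ≫ pullback.fst f' b') :=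
    (RepWith @Surjective).comp_mem _ _ hd's hfst_s
  obtain ⟨h', hh'⟩ := (yon S).map_surjective (d' ≫ pullback.snd f' b')
  refine locP_of_chart hQ f' (d' ≫ pullback.fst f' b') b' h' ha'e ha's hb'e ?_ ?_
  · rw [hh', Category.assoc, Category.assoc, pullback.condition]
  · have sqP : IsPullback (pullback.fst f' b' ≫ fst) (pullback.snd f' b') f (b' ≫ g) :=
      (IsPullback.of_hasPullback f' b').paste_horiz sq
    exact locP_fibre hQ hX hY f hf (b' ≫ g) _ _ sqP d' hd'e h' hh'

/-- transfer of `Q` from the projection of a pullback in `Over S` to the chosen pullback of the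
underlying schemes -/
theorem prop_pullback_snd_left (hQ : EtLocal Q) {A B C : Over S} (h : A ⟶ C) (j : B ⟶ C)
    (H : Q (pullback.snd h j).left) : Q (pullback.snd h.left j.left) := by
  haveI := hQ.respectsIso
  have sq : IsPullback (pullback.fst h j).left (pullback.snd h j).left h.left j.left :=
    (IsPullback.of_hasPullback h j).map (Over.forget S)
  have e : sq.isoPullback.hom ≫ pullback.snd h.left j.left = (pullback.snd h j).left :=
    sq.isoPullback_hom_snd
  have := (Q.cancel_left_of_respectsIso sq.isoPullback.hom (pullback.snd h.left j.left)).1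
    (by rw [e]; exact H)
  exact this

/-- a chart of `X` restricts to a chart of a base change `X ×_{h_Z} h_W`: for `d : h_U ⟶ X` etale,
`f : X ⟶ h_Z` with `d ≫ f = h_h`, and `c : W ⟶ Z`, the scheme `U ×_Z W` is an etale chart of any
fibre product `X ×_{h_Z} h_W`, and so the projection `U ×_Z W ⟶ W` has `Q` when the base change
of `f` has `Q` chart-wise. -/
theorem prop_of_locP_baseChange {X X' : Sp S} {Z W U : Over S}
    (f : X ⟶ (yon S).obj Z) (c : W ⟶ Z) (fst : X' ⟶ X) (f' : X' ⟶ (yon S).obj W)
    (sq : IsPullback fst f' f ((yon S).map c)) (hf' : LocP Q f')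
    (d : (yon S).obj U ⟶ X) (hd : RepWith @Etale d) (h : U ⟶ Z) (hh : (yon S).map h = d ≫ f) :
    Q (pullback.snd h c).left := by
  have sqE := (IsPullback.of_hasPullback h c).map (yon S)
  set ε1 := pullback.fst h c
  set ε2 := pullback.snd h c
  obtain ⟨e, he1, he2⟩ := sq.exists_lift ((yon S).map ε1 ≫ d) ((yon S).map ε2) (by
    rw [Category.assoc, ← hh]; exact sqE.w)
  have sqe : IsPullback ((yon S).map ε1) e d fst := by
    refine (IsPullback.of_right ?_ he1 sq.flip).flip
    rw [he2, ← hh]
    exact sqE.flip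
  have hee : RepWith @Etale e := MorphismProperty.of_isPullback (P := RepWith @Etale) sqe hd
  exact hf' e (𝟙 _) ε2 hee (repWith_id _ W) (by rw [he2, Category.comp_id])

/-- **fpqc descent over an affine base**: if `f : X ⟶ h_Z` with `Z` affine has `Q` chart-wise after
base change to each member of a finite jointly surjective family of flat morphisms from affine
schemes, then `f` has `Q` chart-wise. -/
theorem locP_of_flat_family (hQ : EtLocal Q) [IsZariskiLocalAtTarget Q]
    [Q.DescendsAlong (@Surjective ⊓ @Flat ⊓ @QuasiCompact)] {X : Sp S} (hX : IsAlgSpace X)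
    {Z : Over S} (hZ : IsAffine Z.left) (f : X ⟶ (yon S).obj Z) {m : ℕ} (W : Fin m → Over S)
    (c : ∀ j, W j ⟶ Z) (hW : ∀ j, IsAffine (W j).left) (hc : ∀ j, Flat (c j).left)
    (hs : ∀ z : ↥Z.left, ∃ j, z ∈ Set.range (c j).left)
    (H : ∀ j, LocP Q (pullback.snd f ((yon S).map (c j)))) : LocP Q f := by
  haveI := hQ.baseChange
  obtain ⟨U, d, hde, hds⟩ := hX.atlas
  obtain ⟨h, hh⟩ := (yon S).map_surjective (d ≫ f)
  refine locP_of_chart hQ f d (𝟙 _) h hde hds (repWith_id _ Z) (by rw [hh, Category.comp_id]) ?_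
  haveI := hZ
  refine of_finite_flat_family Q h.left (fun j => (W j).left) (fun j => (c j).left) hW hc hs
    fun j => ?_
  apply prop_pullback_snd_left hQ
  exact prop_of_locP_baseChange f (c j) _ _ (IsPullback.of_hasPullback _ _) (H j) d hde h hh

/-- **Reduction to affine bases**: `f : X ⟶ Y` has `Q` chart-wise as soon as all its base changes to
affine schemes do. -/
theorem locP_of_affine (hQ : EtLocal Q) [IsZariskiLocalAtTarget Q] {X Y : Sp S}
    (hX : IsAlgSpace X) (hY : IsAlgSpace Y) (f : X ⟶ Y)
    (H : ∀ (Z : Over S), IsAffine Z.left → ∀ gz : (yon S).obj Z ⟶ Y,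
      LocP Q (pullback.snd f gz)) : LocP Q f := by
  obtain ⟨V, c, hce, hcs⟩ := hY.atlas
  have hP₀ : IsAlgSpace (pullback f c) :=
    isAlgSpace_of_isPullback hX (IsAlgSpace.yon_obj V) hY.diag (IsPullback.of_hasPullback f c)
  obtain ⟨U, d, hde, hds⟩ := hP₀.atlas
  have hfst_e : RepWith @Etale (pullback.fst f c) :=
    MorphismProperty.pullback_fst (P := RepWith @Etale) f c hce
  have hfst_s : RepWith @Surjective (pullback.fst f c) :=
    MorphismProperty.pullback_fst (P := RepWith @Surjective) f c hcs
  have hae : RepWith @Etale (d ≫ pullback.fst f c) := (RepWith @Etale).comp_mem _ _ hde hfst_e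
  have has : RepWith @Surjective (d ≫ pullback.fst f c) :=
    (RepWith @Surjective).comp_mem _ _ hds hfst_s
  obtain ⟨h, hh⟩ := (yon S).map_surjective (d ≫ pullback.snd f c)
  refine locP_of_chart hQ f (d ≫ pullback.fst f c) c h hae has hce ?_ ?_
  · rw [hh, Category.assoc, Category.assoc, pullback.condition]
  rw [IsZariskiLocalAtTarget.iff_of_openCover (P := Q) V.left.affineCover]
  intro i
  let Zo : Over S := Over.mk (V.left.affineCover.f i ≫ V.hom)
  let jo : Zo ⟶ V := Over.homMk (V.left.affineCover.f i) rfl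
  change Q (pullback.snd h.left jo.left)
  apply prop_pullback_snd_left hQ
  have hZo : IsAffine Zo.left := by
    change IsAffine (V.left.affineCover.X i)
    infer_instance
  set gz : (yon S).obj Zo ⟶ Y := (yon S).map jo ≫ c with hgz
  set φ : pullback f gz ⟶ pullback f c :=
    pullback.lift (pullback.fst f gz) (pullback.snd f gz ≫ (yon S).map jo) (by
      rw [pullback.condition, Category.assoc]) with hφ
  have sqφ : IsPullback φ (pullback.snd f gz) (pullback.snd f c) ((yon S).map jo) := by
    refine (IsPullback.of_bot ?_ (pullback.lift_snd _ _ _).symm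
      (IsPullback.of_hasPullback f c).flip).flip
    rw [pullback.lift_fst]
    exact (IsPullback.of_hasPullback f gz).flip
  exact prop_of_locP_baseChange (pullback.snd f c) jo φ (pullback.snd f gz) sqφ (H Zo hZo gz)
    d hde h hh

/-- a chart diagram of `f : X ⟶ Y` over a given etale chart `b : h_V ⟶ Y` of the target, whose source
chart is an atlas of `X ×_Y h_V` (so surjective when `b` is). -/
theorem exists_chart {X Y : Sp S} (hX : IsAlgSpace X) (hY : Representable (Limits.diag Y))
    (f : X ⟶ Y) {V : Over S} (b : (yon S).obj V ⟶ Y) (hbe : RepWith @Etale b) :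
    ∃ (U : Over S) (a : (yon S).obj U ⟶ X) (h : U ⟶ V) (d : (yon S).obj U ⟶ pullback f b),
      RepWith @Etale d ∧ RepWith @Surjective d ∧ a = d ≫ pullback.fst f b ∧
      (yon S).map h = d ≫ pullback.snd f b ∧ RepWith @Etale a ∧
      a ≫ f = (yon S).map h ≫ b ∧ (RepWith @Surjective b → RepWith @Surjective a) := by
  have hP : IsAlgSpace (pullback f b) :=
    isAlgSpace_of_isPullback hX (IsAlgSpace.yon_obj V) hY (IsPullback.of_hasPullback f b)
  obtain ⟨U, d, hde, hds⟩ := hP.atlas
  have hfst_e : RepWith @Etale (pullback.fst f b) :=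
    MorphismProperty.pullback_fst (P := RepWith @Etale) f b hbe
  obtain ⟨h, hh⟩ := (yon S).map_surjective (d ≫ pullback.snd f b)
  refine ⟨U, d ≫ pullback.fst f b, h, d, hde, hds, rfl, hh,
    (RepWith @Etale).comp_mem _ _ hde hfst_e, ?_, fun hbs => ?_⟩
  · rw [hh, Category.assoc, Category.assoc, pullback.condition]
  · exact (RepWith @Surjective).comp_mem _ _ hds
      (MorphismProperty.pullback_fst (P := RepWith @Surjective) f b hbs)

/-- **Composition**: the chart-wise property `LocP Q` is stable under composition of morphisms of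
algebraic spaces when `Q` is stable under composition. -/
theorem locP_comp (hQ : EtLocal Q) [Q.IsStableUnderComposition] {X Y Z : Sp S}
    (hX : IsAlgSpace X) (hY : IsAlgSpace Y) (hZ : IsAlgSpace Z) (f : X ⟶ Y) (g : Y ⟶ Z)
    (hf : LocP Q f) (hg : LocP Q g) : LocP Q (f ≫ g) := by
  obtain ⟨W, c, hce, hcs⟩ := hZ.atlas
  obtain ⟨V, b, k, d1, -, -, -, -, hbe, comm1, hbs⟩ := exists_chart hY hZ.diag g c hce
  obtain ⟨U, a, h, d2, -, -, -, -, hae, comm2, has⟩ := exists_chart hX hY.diag f b hbe
  refine locP_of_chart hQ (f ≫ g) a c (h ≫ k) hae (has (hbs hcs)) hce ?_ ?_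
  · rw [← Category.assoc, comm2, Category.assoc, comm1, Functor.map_comp, Category.assoc]
  · rw [Over.comp_left]
    exact Q.comp_mem _ _ (hf a b h hae hbe comm2) (hg b c k hbe hce comm1)

/-- **Etale locality on the source, for one surjective etale chart**: if `φ ≫ f` has `Q` chart-wise for
a surjective etale chart `φ : h_U ⟶ X`, then `f` has `Q` chart-wise. -/
theorem locP_of_precomp_chart (hQ : EtLocal Q) {X Y : Sp S} (hY : IsAlgSpace Y) (f : X ⟶ Y)
    {U : Over S} (φ : (yon S).obj U ⟶ X) (hφe : RepWith @Etale φ) (hφs : RepWith @Surjective φ)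
    (h : LocP Q (φ ≫ f)) : LocP Q f := by
  obtain ⟨V, c, hce, hcs⟩ := hY.atlas
  obtain ⟨U₁, a₁, h₁, d, -, -, -, -, ha₁e, comm, ha₁s⟩ :=
    exists_chart (IsAlgSpace.yon_obj U) hY.diag (φ ≫ f) c hce
  refine locP_of_chart hQ f (a₁ ≫ φ) c h₁ ((RepWith @Etale).comp_mem _ _ ha₁e hφe)
    ((RepWith @Surjective).comp_mem _ _ (ha₁s hcs) hφs) hce ?_ (h a₁ c h₁ ha₁e hce comm)
  rw [Category.assoc, comm]

end Groth.Agent.Lib.Helper46.LocPChart
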