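import Groth.Agent.Lib.Helper46.FpqcBase

/-!
# fpqc coverings of algebraic spaces: submersive families of affine charts

For an fpqc covering `g i : Yi i ⟶ Y` and a morphism `gz : Z ⟶ Y` from an algebraic space, there is a
family of affine schemes `T k` with maps `t k : h_{T k} ⟶ Z`, each `t k ≫ gz` lifting through some
`g i`, which is jointly surjective on points and submersive (a subset of `|Z|` is open as soon as all
its preimages in the `T k` are open).  Topological properties of the map on points of a morphism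
`Z' ⟶ Z` can then be checked after base change to the `T k`; this gives that `UnivSp Q` is fpqc local
on the base for `Q` one of open / closed / injective / submersive / homeomorphism on points.
-/

set_option autoImplicit false
universe u
open CategoryTheory CategoryTheory.Limits AlgebraicGeometry Opposite

namespace Groth.Agent.Lib.Helper46.FpqcTop

open AlgSp Groth.Agent.Lib.Helper37.AlgSpPoints Groth.Agent.Lib.Helper23.AlgSpMor

variable {S : Scheme.{u}}

section SchemeLevel

set_option backward.isDefEq.respectTransparency.types false in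
theorem quasiCompact_of_isAffine_of_compactSpace {X Z : Scheme.{u}} (f : X ⟶ Z) [IsAffine Z]
    [CompactSpace X] : QuasiCompact f := by
  rw [HasAffineProperty.iff_of_isAffine (P := @QuasiCompact)]
  infer_instance

/-- a finite jointly surjective family of flat morphisms between affine schemes is submersive -/
theorem isOpen_of_flat_family {Z : Scheme.{u}} [IsAffine Z] {m : ℕ} (W : Fin m → Scheme.{u})
    [∀ j, IsAffine (W j)] (c : ∀ j, W j ⟶ Z) [∀ j, Flat (c j)]
    (hsurj : ∀ z : Z, ∃ j, z ∈ Set.range (c j)) (B : Set Z)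
    (hB : ∀ j, IsOpen ((c j) ⁻¹' B)) : IsOpen B := by
  let f : ∐ W ⟶ Z := Sigma.desc c
  have : Flat f := inferInstance
  have : Surjective f := ⟨fun z => by
    obtain ⟨j, w, hw⟩ := hsurj z
    exact ⟨Sigma.ι W j w, by rw [← Scheme.Hom.comp_apply, Sigma.ι_desc]; exact hw⟩⟩
  have : QuasiCompact f := quasiCompact_of_isAffine_of_compactSpace f
  have hq := Flat.isQuotientMap_of_surjective f
  rw [← hq.isOpen_preimage]
  rw [isOpen_iff_forall_mem_open]
  intro x hx
  have hx' : ∃ (j : Fin m) (w : W j), Sigma.ι W j w = x := by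
    obtain ⟨j, w, h⟩ := (sigmaOpenCover W).exists_eq x
    exact ⟨j, w, h⟩
  obtain ⟨j, w, rfl⟩ := hx'
  have hcomp : ∀ w' : W j, f (Sigma.ι W j w') = c j w' := by
    intro w'
    show (Sigma.desc c) (Sigma.ι W j w') = c j w'
    rw [← Scheme.Hom.comp_apply, Sigma.ι_desc]
  refine ⟨Sigma.ι W j '' (c j ⁻¹' B), ?_, (Sigma.ι W j).isOpenEmbedding.isOpenMap _ (hB j),
    ⟨w, ?_, rfl⟩⟩
  · rintro _ ⟨w', hw', rfl⟩
    show f (Sigma.ι W j w') ∈ B
    rw [hcomp]
    exact hw'
  · show c j w ∈ B
    rw [← hcomp]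
    exact hx

end SchemeLevel

/-- A family of maps from schemes to a sheaf that is jointly surjective and submersive on points. -/
def IsSubmersiveFamily {Z : Sp S} {K : Type u} (T : K → Over S)
    (t : ∀ k, (yon S).obj (T k) ⟶ Z) : Prop :=
  (∀ z : Points Z, ∃ k, z ∈ Set.range (Points.ofPt (t k))) ∧
    ∀ A : Set (Points Z), (∀ k, IsOpen (Points.ofPt (t k) ⁻¹' A)) → IsOpen A

theorem IsSubmersiveFamily.isClosed {Z : Sp S} {K : Type u} {T : K → Over S}
    {t : ∀ k, (yon S).obj (T k) ⟶ Z} (h : IsSubmersiveFamily T t) (A : Set (Points Z))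
    (hA : ∀ k, IsClosed (Points.ofPt (t k) ⁻¹' A)) : IsClosed A := by
  rw [← isOpen_compl_iff]
  apply h.2
  intro k
  rw [Set.preimage_compl, isOpen_compl_iff]
  exact hA k

/-- the affine family attached to an fpqc covering and a morphism from an algebraic space -/
theorem exists_family {ι : Type u} {Y : Sp S} (Yi : ι → Sp S) (g : ∀ i, Yi i ⟶ Y)
    (hcov : IsFpqcCover Yi g) {Z : Sp S} (hZ : IsAlgSpace Z) (gz : Z ⟶ Y) :
    ∃ (K : Type u) (T : K → Over S) (t : ∀ k, (yon S).obj (T k) ⟶ Z),
      (∀ k, IsAffine (T k).left) ∧ IsSubmersiveFamily T t ∧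
      ∀ k, ∃ (i : ι) (l : (yon S).obj (T k) ⟶ Yi i), l ≫ g i = t k ≫ gz := by
  classical
  obtain ⟨U, a, hae, has⟩ := hZ.atlas
  -- affine opens of the atlas
  let aV : ∀ V : U.left.affineOpens, (yon S).obj (overOpens U V.1) ⟶ Z :=
    fun V => (yon S).map (overOpensι U V.1) ≫ a
  have haff : ∀ V : U.left.affineOpens, IsAffine (overOpens U V.1).left := fun V => V.2
  choose m W c hWaff hcflat hcsurj hlift using
    fun V : U.left.affineOpens => hcov.2 (overOpens U V.1) (haff V) (aV V ≫ gz)
  have hofPt : ∀ (V : U.left.affineOpens) (j : Fin (m V)) (w : ↥(W V j).left),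
      Points.ofPt ((yon S).map (c V j) ≫ aV V) w = Points.ofPt a (V.1.ι ((c V j).left w)) := by
    intro V j w
    rw [ofPt_map_comp]
    exact ofPt_overOpensι_comp U V.1 a _
  refine ⟨Σ V : U.left.affineOpens, Fin (m V), fun k => W k.1 k.2,
    fun k => (yon S).map (c k.1 k.2) ≫ aV k.1, fun k => hWaff k.1 k.2, ⟨?_, ?_⟩, ?_⟩
  · intro z
    obtain ⟨x, rfl⟩ := ofPt_surjective a has z
    obtain ⟨V, hV, hxV, -⟩ := (TopologicalSpace.Opens.isBasis_iff_nbhd.1
      U.left.isBasis_affineOpens) (show x ∈ (⊤ : U.left.Opens) from trivial)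
    let V' : U.left.affineOpens := ⟨V, hV⟩
    obtain ⟨j, w, hw⟩ := hcsurj V' ⟨x, hxV⟩
    refine ⟨⟨V', j⟩, w, ?_⟩
    show Points.ofPt ((yon S).map (c V' j) ≫ aV V') w = Points.ofPt a x
    rw [hofPt, hw]
    rfl
  · intro A hA
    rw [← (isQuotientMap_ofPt a hae has).isOpen_preimage, isOpen_iff_forall_mem_open]
    intro x hx
    obtain ⟨V, hV, hxV, -⟩ := (TopologicalSpace.Opens.isBasis_iff_nbhd.1
      U.left.isBasis_affineOpens) (show x ∈ (⊤ : U.left.Opens) from trivial)
    let V' : U.left.affineOpens := ⟨V, hV⟩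
    have hB : IsOpen (Points.ofPt (aV V') ⁻¹' A) := by
      haveI := haff V'
      haveI := fun j => hWaff V' j
      haveI := fun j => hcflat V' j
      refine isOpen_of_flat_family (Z := (overOpens U V'.1).left) (fun j => (W V' j).left)
        (fun j => (c V' j).left) (hcsurj V') _ (fun j => ?_)
      have e : (c V' j).left ⁻¹' (Points.ofPt (aV V') ⁻¹' A) =
          Points.ofPt ((yon S).map (c V' j) ≫ aV V') ⁻¹' A := by
        ext w
        simp only [Set.mem_preimage]
        rw [ofPt_map_comp (c V' j) (aV V') w]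
      show IsOpen ((c V' j).left ⁻¹' (Points.ofPt (aV V') ⁻¹' A))
      rw [e]
      exact hA ⟨V', j⟩
    refine ⟨(Scheme.Opens.ι V) '' (Points.ofPt (aV V') ⁻¹' A), ?_,
      (Scheme.Opens.ι V).isOpenEmbedding.isOpenMap _ hB, ⟨⟨x, hxV⟩, ?_, rfl⟩⟩
    · rintro _ ⟨y, hy, rfl⟩
      have e : Points.ofPt (aV V') y = Points.ofPt a ((Scheme.Opens.ι V) y) :=
        ofPt_overOpensι_comp U V a y
      show Points.ofPt a ((Scheme.Opens.ι V) y) ∈ A
      rw [← e]
      exact hy
    · have e : Points.ofPt (aV V') ⟨x, hxV⟩ = Points.ofPt a ((Scheme.Opens.ι V) ⟨x, hxV⟩) :=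
        ofPt_overOpensι_comp U V a _
      show Points.ofPt (aV V') ⟨x, hxV⟩ ∈ A
      rw [e]
      exact hx
  · rintro ⟨V, j⟩
    obtain ⟨i, l, hl⟩ := hlift V j
    refine ⟨i, l, ?_⟩
    exact hl.trans (Category.assoc _ _ _).symm

/-- general form of `FpqcBase.isPullback_lift` -/
theorem isPullback_lift' {Y Yi X Xi P Z T : Sp S} {g : Yi ⟶ Y} {f : X ⟶ Y} {p : Xi ⟶ Yi}
    {q : Xi ⟶ X} (hsq : IsPullback q p f g) {gz : Z ⟶ Y} {fst : P ⟶ X} {snd : P ⟶ Z}
    (sqP : IsPullback fst snd f gz) (t : T ⟶ Z) (l : T ⟶ Yi) (hl : l ≫ g = t ≫ gz) :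
    ∃ u : pullback snd t ⟶ Xi,
      IsPullback u (pullback.snd snd t) p l ∧ u ≫ q = pullback.fst snd t ≫ fst := by
  have sq3 : IsPullback (pullback.fst snd t) (pullback.snd snd t) snd t :=
    IsPullback.of_hasPullback _ _
  have big : IsPullback (pullback.fst snd t ≫ fst) (pullback.snd snd t) f (t ≫ gz) :=
    sq3.paste_horiz sqP
  have w : (pullback.fst snd t ≫ fst) ≫ f = (pullback.snd snd t ≫ l) ≫ g := by
    rw [Category.assoc, Category.assoc, hl]
    simpa only [Category.assoc] using big.w
  refine ⟨hsq.lift _ _ w, ?_, hsq.lift_fst _ _ w⟩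
  refine IsPullback.of_right ?_ (hsq.lift_snd _ _ w) hsq
  rw [hsq.lift_fst, hl]
  exact big

/-- A property `Q` of morphisms of sheaves (meant: a property of the map on points) that can be
checked after base change to a submersive family of schemes. -/
def IsSubmersiveLocal (Q : MorphismProperty (Sp S)) : Prop :=
  ∀ ⦃Z' Z : Sp S⦄ (snd : Z' ⟶ Z) ⦃K : Type u⦄ (T : K → Over S)
    (t : ∀ k, (yon S).obj (T k) ⟶ Z), IsSubmersiveFamily T t →
    (∀ k, Q (pullback.snd snd (t k))) → Q snd

/-- `UnivSp Q` is fpqc local on the base whenever `Q` can be checked on submersive families. -/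
theorem isLocalOnBase_univSp (Q : MorphismProperty (Sp S)) (hQ : IsSubmersiveLocal Q) :
    IsLocalOnBase (IsFpqcCover (S := S)) (UnivSp Q) := by
  intro ι Y Yi g hY hYi hcov X f hX Xi p q hXi hsq
  constructor
  · intro hf i Z Z' hZ gz fst snd sqz
    exact hf hZ (gz ≫ g i) (fst ≫ q i) snd (sqz.paste_horiz (hsq i))
  · intro hp Z Z' hZ gz fst snd sqZ
    obtain ⟨K, T, t, -, hsub, hlift⟩ := exists_family Yi g hcov hZ gz
    refine hQ snd T t hsub fun k => ?_
    obtain ⟨i, l, hl⟩ := hlift k
    obtain ⟨u, hu, -⟩ := isPullback_lift' (hsq i) sqZ (t k) l hl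
    exact hp i (IsAlgSpace.yon_obj (T k)) l u _ hu

section PointsLemmas

variable {Z' Z : Sp S} (snd : Z' ⟶ Z) {T : Over S} (t : (yon S).obj T ⟶ Z)

theorem map_snd_map_fst (y : Points (pullback snd t)) :
    Points.map snd (Points.map (pullback.fst snd t) y) =
      Points.map t (Points.map (pullback.snd snd t) y) := by
  rw [← Points.map_comp, ← Points.map_comp, pullback.condition]

theorem exists_point (x : Points Z') (w : ↥T.left) (h : Points.map snd x = Points.ofPt t w) :
    ∃ y : Points (pullback snd t), Points.map (pullback.fst snd t) y = x ∧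
      Points.map (pullback.snd snd t) y = Points.ofScheme T w := by
  have sq3 : IsPullback (pullback.fst snd t) (pullback.snd snd t) snd t :=
    IsPullback.of_hasPullback _ _
  exact points_exists_of_isPullback sq3 x (Points.ofScheme T w)
    (by rw [h, Points.ofPt_eq_map_ofScheme])

/-- the key set-theoretic identity: preimage of the image equals image of the preimage -/
theorem preimage_image_eq (A : Set (Points Z')) :
    Points.ofPt t ⁻¹' (Points.map snd '' A) =
      Points.ofScheme T ⁻¹' (Points.map (pullback.snd snd t) ''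
        (Points.map (pullback.fst snd t) ⁻¹' A)) := by
  ext w
  constructor
  · rintro ⟨x, hxA, hx⟩
    obtain ⟨y, hy1, hy2⟩ := exists_point snd t x w hx
    exact ⟨y, by rw [Set.mem_preimage, hy1]; exact hxA, hy2⟩
  · rintro ⟨y, hyA, hy⟩
    refine ⟨Points.map (pullback.fst snd t) y, hyA, ?_⟩
    rw [map_snd_map_fst, hy, ← Points.ofPt_eq_map_ofScheme]

end PointsLemmas

theorem isSubmersiveLocal_injective :
    IsSubmersiveLocal (S := S) (fun _ _ f => Function.Injective (Points.map f)) := by
  intro Z' Z snd K T t hsub hk x₁ x₂ hx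
  obtain ⟨k, w, hw⟩ := hsub.1 (Points.map snd x₁)
  obtain ⟨y₁, h11, h12⟩ := exists_point snd (t k) x₁ w hw.symm
  obtain ⟨y₂, h21, h22⟩ := exists_point snd (t k) x₂ w (hx ▸ hw.symm)
  have : y₁ = y₂ := hk k (h12.trans h22.symm)
  rw [← h11, ← h21, this]

theorem isSubmersiveLocal_isOpenMap :
    IsSubmersiveLocal (S := S) (fun _ _ f => IsOpenMap (Points.map f)) := by
  intro Z' Z snd K T t hsub hk A hA
  apply hsub.2
  intro k
  rw [preimage_image_eq]
  exact ((hk k) _ (hA.preimage (Points.continuous_map _))).preimage (Points.continuous_ofPt _)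

theorem isSubmersiveLocal_isClosedMap :
    IsSubmersiveLocal (S := S) (fun _ _ f => IsClosedMap (Points.map f)) := by
  intro Z' Z snd K T t hsub hk A hA
  apply hsub.isClosed
  intro k
  rw [preimage_image_eq]
  exact ((hk k) _ (hA.preimage (Points.continuous_map _))).preimage (Points.continuous_ofPt _)

theorem isSubmersiveLocal_surjective :
    IsSubmersiveLocal (S := S) (fun _ _ f => Function.Surjective (Points.map f)) := by
  intro Z' Z snd K T t hsub hk z
  obtain ⟨k, w, hw⟩ := hsub.1 z
  obtain ⟨y, hy⟩ := hk k (Points.ofScheme (T k) w)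
  refine ⟨Points.map (pullback.fst snd (t k)) y, ?_⟩
  rw [map_snd_map_fst, hy, ← Points.ofPt_eq_map_ofScheme, hw]

theorem isSubmersiveLocal_isQuotientMap :
    IsSubmersiveLocal (S := S) (fun _ _ f => Topology.IsQuotientMap (Points.map f)) := by
  intro Z' Z snd K T t hsub hk
  rw [Topology.isQuotientMap_iff]
  refine ⟨.of_isOpen_preimage_iff_isOpen fun A => ⟨fun hA => hsub.2 A fun k => ?_,
    fun hA => hA.preimage (Points.continuous_map _)⟩,
    isSubmersiveLocal_surjective snd T t hsub (fun k => (hk k).surjective)⟩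
  have e : Points.ofPt (t k) ⁻¹' A = Points.ofScheme (T k) ⁻¹' (Points.map (t k) ⁻¹' A) := by
    ext w
    simp only [Set.mem_preimage]
    rw [← Points.ofPt_eq_map_ofScheme]
  rw [e]
  refine IsOpen.preimage (Points.continuous_ofPt _) ?_
  rw [← (hk k).isOpen_preimage]
  have e2 : Points.map (pullback.snd snd (t k)) ⁻¹' (Points.map (t k) ⁻¹' A) =
      Points.map (pullback.fst snd (t k)) ⁻¹' (Points.map snd ⁻¹' A) := by
    ext y
    simp only [Set.mem_preimage]
    rw [map_snd_map_fst]
  rw [e2]
  exact hA.preimage (Points.continuous_map _)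

theorem isSubmersiveLocal_isHomeomorph :
    IsSubmersiveLocal (S := S) (fun _ _ f => IsHomeomorph (Points.map f)) := by
  intro Z' Z snd K T t hsub hk
  exact ⟨Points.continuous_map _,
    isSubmersiveLocal_isOpenMap snd T t hsub (fun k => (hk k).isOpenMap),
    isSubmersiveLocal_injective snd T t hsub (fun k => (hk k).injective),
    isSubmersiveLocal_surjective snd T t hsub (fun k => (hk k).surjective)⟩

end Groth.Agent.Lib.Helper46.FpqcTop
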