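import Groth.Prelude.Def_AlgSpCov
import Groth.Agent.Lib.Helper23.AlgSpMor6

/-!
# fpqc coverings of algebraic spaces: the refinement squares

For an fpqc covering `g i : Yi i ⟶ Y`, a morphism `f : X ⟶ Y` with base changes `p i : Xi i ⟶ Yi i`,
an affine scheme `Z` with `gz : h_Z ⟶ Y` and `P = X ×_Y h_Z`, the definition of `IsFpqcCover` gives
finitely many flat affine `c j : W j ⟶ Z`, jointly surjective, lifting to the `Yi i`.  We package the
resulting pullback squares `P ×_{h_Z} h_{W j} = Xi i ×_{Yi i} h_{W j}` and the joint surjectivity on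
points.
-/

set_option autoImplicit false
universe u
open CategoryTheory CategoryTheory.Limits AlgebraicGeometry Opposite

namespace Groth.Agent.Lib.Helper46.FpqcBase

open AlgSp Groth.Agent.Lib.Helper37.AlgSpPoints Groth.Agent.Lib.Helper23.AlgSpMor

variable {S : Scheme.{u}}

/-- the base change square of `P ⟶ h_Z` along `h_{W} ⟶ h_Z` is also a base change of `p i`. -/
theorem isPullback_lift {Y Yi X Xi P : Sp S} {g : Yi ⟶ Y} {f : X ⟶ Y} {p : Xi ⟶ Yi} {q : Xi ⟶ X}
    (hsq : IsPullback q p f g) {Z W : Over S} {gz : (yon S).obj Z ⟶ Y} {fst : P ⟶ X}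
    {snd : P ⟶ (yon S).obj Z} (sqP : IsPullback fst snd f gz) (c : W ⟶ Z)
    (l : (yon S).obj W ⟶ Yi) (hl : l ≫ g = (yon S).map c ≫ gz) :
    ∃ u : pullback snd ((yon S).map c) ⟶ Xi,
      IsPullback u (pullback.snd snd ((yon S).map c)) p l ∧
        u ≫ q = pullback.fst snd ((yon S).map c) ≫ fst := by
  have sq3 : IsPullback (pullback.fst snd ((yon S).map c)) (pullback.snd snd ((yon S).map c)) snd
      ((yon S).map c) := IsPullback.of_hasPullback _ _
  have big : IsPullback (pullback.fst snd ((yon S).map c) ≫ fst)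
      (pullback.snd snd ((yon S).map c)) f ((yon S).map c ≫ gz) := sq3.paste_horiz sqP
  have w : (pullback.fst snd ((yon S).map c) ≫ fst) ≫ f =
      (pullback.snd snd ((yon S).map c) ≫ l) ≫ g := by
    rw [Category.assoc, Category.assoc, hl]
    simpa only [Category.assoc] using big.w
  refine ⟨hsq.lift _ _ w, ?_, hsq.lift_fst _ _ w⟩
  refine IsPullback.of_right ?_ (hsq.lift_snd _ _ w) hsq
  rw [hsq.lift_fst, hl]
  exact big

/-- the refinement squares over an affine scheme, from the refinement clause of `IsFpqcCover` alone -/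
theorem exists_refinement' {ι : Type u} {Y : Sp S} (Yi : ι → Sp S) (g : ∀ i, Yi i ⟶ Y)
    (href : ∀ (Z : Over S), IsAffine Z.left → ∀ (h : (yon S).obj Z ⟶ Y),
      ∃ (m : ℕ) (W : Fin m → Over S) (c : ∀ j, W j ⟶ Z),
        (∀ j, IsAffine (W j).left) ∧ (∀ j, Flat (c j).left) ∧
        (∀ z : ↥Z.left, ∃ j, z ∈ Set.range (c j).left) ∧
        ∀ j, ∃ (i : _) (l : (yon S).obj (W j) ⟶ Yi i), l ≫ g i = (yon S).map (c j) ≫ h)
    {X : Sp S} (f : X ⟶ Y) (Xi : ι → Sp S) (p : ∀ i, Xi i ⟶ Yi i)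
    (q : ∀ i, Xi i ⟶ X) (hsq : ∀ i, IsPullback (q i) (p i) f (g i))
    (Z : Over S) (hZ : IsAffine Z.left) (gz : (yon S).obj Z ⟶ Y) {P : Sp S} (fst : P ⟶ X)
    (snd : P ⟶ (yon S).obj Z) (sqP : IsPullback fst snd f gz) :
    ∃ (m : ℕ) (W : Fin m → Over S) (c : ∀ j, W j ⟶ Z),
      (∀ j, IsAffine (W j).left) ∧ (∀ j, Flat (c j).left) ∧
      (∀ z : ↥Z.left, ∃ j, z ∈ Set.range (c j).left) ∧
      (∀ j, ∃ (i : ι) (l : (yon S).obj (W j) ⟶ Yi i)
        (u : pullback snd ((yon S).map (c j)) ⟶ Xi i),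
        IsPullback u (pullback.snd snd ((yon S).map (c j))) (p i) l ∧
          u ≫ q i = pullback.fst snd ((yon S).map (c j)) ≫ fst ∧
          l ≫ g i = (yon S).map (c j) ≫ gz) ∧
      ∀ x : Points P, ∃ j, x ∈ Set.range (Points.map (pullback.fst snd ((yon S).map (c j)))) := by
  obtain ⟨m, W, c, hWaff, hcflat, hcsurj, hlift⟩ := href Z hZ gz
  refine ⟨m, W, c, hWaff, hcflat, hcsurj, ?_, ?_⟩
  · intro j
    obtain ⟨i, l, hl⟩ := hlift j
    obtain ⟨u, hu1, hu2⟩ := isPullback_lift (hsq i) sqP (c j) l hl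
    exact ⟨i, l, u, hu1, hu2, hl⟩
  · intro x
    obtain ⟨j, w, hw⟩ := hcsurj ((Points.schemeHomeo Z).symm (Points.map snd x))
    refine ⟨j, ?_⟩
    have sq3 : IsPullback (pullback.fst snd ((yon S).map (c j)))
        (pullback.snd snd ((yon S).map (c j))) snd ((yon S).map (c j)) :=
      IsPullback.of_hasPullback _ _
    have e : Points.map snd x = Points.map ((yon S).map (c j)) (Points.schemeHomeo (W j) w) := by
      rw [Points.map_yon_map_apply, hw, Homeomorph.apply_symm_apply]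
    obtain ⟨y, hy, -⟩ := points_exists_of_isPullback sq3 x _ e
    exact ⟨y, hy⟩

/-- the refinement squares of an fpqc covering over an affine scheme -/
theorem exists_refinement {ι : Type u} {Y : Sp S} (Yi : ι → Sp S) (g : ∀ i, Yi i ⟶ Y)
    (hcov : IsFpqcCover Yi g) {X : Sp S} (f : X ⟶ Y) (Xi : ι → Sp S) (p : ∀ i, Xi i ⟶ Yi i)
    (q : ∀ i, Xi i ⟶ X) (hsq : ∀ i, IsPullback (q i) (p i) f (g i))
    (Z : Over S) (hZ : IsAffine Z.left) (gz : (yon S).obj Z ⟶ Y) {P : Sp S} (fst : P ⟶ X)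
    (snd : P ⟶ (yon S).obj Z) (sqP : IsPullback fst snd f gz) :
    ∃ (m : ℕ) (W : Fin m → Over S) (c : ∀ j, W j ⟶ Z),
      (∀ j, IsAffine (W j).left) ∧ (∀ j, Flat (c j).left) ∧
      (∀ z : ↥Z.left, ∃ j, z ∈ Set.range (c j).left) ∧
      (∀ j, ∃ (i : ι) (l : (yon S).obj (W j) ⟶ Yi i)
        (u : pullback snd ((yon S).map (c j)) ⟶ Xi i),
        IsPullback u (pullback.snd snd ((yon S).map (c j))) (p i) l ∧
          u ≫ q i = pullback.fst snd ((yon S).map (c j)) ≫ fst ∧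
          l ≫ g i = (yon S).map (c j) ≫ gz) ∧
      ∀ x : Points P, ∃ j, x ∈ Set.range (Points.map (pullback.fst snd ((yon S).map (c j)))) :=
  exists_refinement' Yi g hcov.2 f Xi p q hsq Z hZ gz fst snd sqP

/-- quasi-compactness of a morphism of algebraic spaces descends along a family with the refinement
property -/
theorem isQuasiCompactMor_of_refinement {ι : Type u} {Y : Sp S} (Yi : ι → Sp S)
    (g : ∀ i, Yi i ⟶ Y)
    (href : ∀ (Z : Over S), IsAffine Z.left → ∀ (h : (yon S).obj Z ⟶ Y),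
      ∃ (m : ℕ) (W : Fin m → Over S) (c : ∀ j, W j ⟶ Z),
        (∀ j, IsAffine (W j).left) ∧ (∀ j, Flat (c j).left) ∧
        (∀ z : ↥Z.left, ∃ j, z ∈ Set.range (c j).left) ∧
        ∀ j, ∃ (i : _) (l : (yon S).obj (W j) ⟶ Yi i), l ≫ g i = (yon S).map (c j) ≫ h)
    (hY : IsAlgSpace Y) {X : Sp S} (hX : IsAlgSpace X) (f : X ⟶ Y) (Xi : ι → Sp S)
    (p : ∀ i, Xi i ⟶ Yi i) (q : ∀ i, Xi i ⟶ X) (hsq : ∀ i, IsPullback (q i) (p i) f (g i))
    (hp : ∀ i, IsQuasiCompactMor (p i)) : IsQuasiCompactMor f := by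
  rw [isQuasiCompactMor_iff_affine hX hY f]
  intro Z hZ gz P fst snd sqP
  have hP : IsAlgSpace P :=
    isAlgSpace_of_isPullback hX (IsAlgSpace.yon_obj Z) hY.diag sqP
  obtain ⟨m, W, c, hWaff, -, -, hlift, hcover⟩ :=
    exists_refinement' Yi g href f Xi p q hsq Z hZ gz fst snd sqP
  rw [isQuasiCompactSp_iff_compactSpace hP]
  have key : ∀ j, IsCompact (Set.range (Points.map (pullback.fst snd ((yon S).map (c j))))) := by
    intro j
    obtain ⟨i, l, u, hu, -, -⟩ := hlift j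
    haveI := hWaff j
    have hqc : IsQuasiCompactSp (pullback snd ((yon S).map (c j))) :=
      hp i (IsAlgSpace.yon_obj (W j)) (isQuasiCompactSp_yon_of_isAffine (W j)) l u _ hu
    haveI := compactSpace_points_of_isQuasiCompactSp hqc
    exact isCompact_range (Points.continuous_map _)
  refine ⟨(isCompact_iUnion key).of_isClosed_subset isClosed_univ ?_⟩
  intro x _
  obtain ⟨j, hj⟩ := hcover x
  exact Set.mem_iUnion.2 ⟨j, hj⟩

end Groth.Agent.Lib.Helper46.FpqcBase
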