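import Groth.Agent.Lib.Helper46.FpqcTop
import Groth.Agent.Lib.Helper23.AlgSpMor7
import Groth.Agent.Lib.Helper36.AlgSpCharts

/-!
# fpqc coverings of algebraic spaces: refinement property alone, and diagonals

`HasRefinement Yi g` is the second clause of `AlgSp.IsFpqcCover` (no flatness of the `g i`).  It is
stable under base change, and the topological descent results only need it.  We use this to treat
properties of the diagonal.
-/

set_option autoImplicit false
universe u
open CategoryTheory CategoryTheory.Limits AlgebraicGeometry Opposite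

namespace Groth.Agent.Lib.Helper46.FpqcDiag

open AlgSp Groth.Agent.Lib.Helper37.AlgSpPoints Groth.Agent.Lib.Helper23.AlgSpMor
open Groth.Agent.Lib.Helper46.FpqcTop

variable {S : Scheme.{u}}

/-- the refinement clause of `IsFpqcCover` -/
def HasRefinement {ι : Type u} {X : Sp S} (Y : ι → Sp S) (g : ∀ i, Y i ⟶ X) : Prop :=
  ∀ (Z : Over S), IsAffine Z.left → ∀ (h : (yon S).obj Z ⟶ X),
    ∃ (m : ℕ) (W : Fin m → Over S) (c : ∀ j, W j ⟶ Z),
      (∀ j, IsAffine (W j).left) ∧ (∀ j, Flat (c j).left) ∧
      (∀ z : ↥Z.left, ∃ j, z ∈ Set.range (c j).left) ∧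
      ∀ j, ∃ (i : _) (l : (yon S).obj (W j) ⟶ Y i), l ≫ g i = (yon S).map (c j) ≫ h

theorem hasRefinement_of_isFpqcCover {ι : Type u} {X : Sp S} {Y : ι → Sp S} {g : ∀ i, Y i ⟶ X}
    (h : IsFpqcCover Y g) : HasRefinement Y g := h.2

/-- the refinement clause is stable under base change -/
theorem HasRefinement.baseChange {ι : Type u} {Y : Sp S} {Yi : ι → Sp S} {g : ∀ i, Yi i ⟶ Y}
    (href : HasRefinement Yi g) {D : Sp S} (π : D ⟶ Y) (Di : ι → Sp S) (d : ∀ i, Di i ⟶ D)
    (πi : ∀ i, Di i ⟶ Yi i) (hsq : ∀ i, IsPullback (d i) (πi i) π (g i)) :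
    HasRefinement Di d := by
  intro Z hZ h
  obtain ⟨m, W, c, hW, hc, hsurj, hlift⟩ := href Z hZ (h ≫ π)
  refine ⟨m, W, c, hW, hc, hsurj, fun j => ?_⟩
  obtain ⟨i, l, hl⟩ := hlift j
  have w : ((yon S).map (c j) ≫ h) ≫ π = l ≫ g i := by rw [hl, Category.assoc]
  exact ⟨i, (hsq i).lift _ _ w, (hsq i).lift_fst _ _ w⟩

section Cat
universe v₁ u₁
variable {C : Type u₁} [Category.{v₁} C] [HasPullbacks C]

/-- the diagonal of a base change is the base change of the diagonal -/
theorem isPullback_diagonal {X Y Xi Yi : C} {f : X ⟶ Y} {g : Yi ⟶ Y} {p : Xi ⟶ Yi} {q : Xi ⟶ X}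
    (hsq : IsPullback q p f g) :
    IsPullback q (pullback.diagonal p) (pullback.diagonal f)
      (pullback.map p p f f q q g hsq.w.symm hsq.w.symm) := by
  have w : q ≫ pullback.diagonal f =
      pullback.diagonal p ≫ pullback.map p p f f q q g hsq.w.symm hsq.w.symm := by
    apply pullback.hom_ext
    · rw [Category.assoc, Category.assoc, pullback.diagonal_fst, Category.comp_id,
        pullback.lift_fst, ← Category.assoc, pullback.diagonal_fst, Category.id_comp]
    · rw [Category.assoc, Category.assoc, pullback.diagonal_snd, Category.comp_id,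
        pullback.lift_snd, ← Category.assoc, pullback.diagonal_snd, Category.id_comp]
  have key : ∀ s : PullbackCone (pullback.diagonal f) (pullback.map p p f f q q g hsq.w.symm hsq.w.symm),
      s.snd ≫ pullback.fst p p = s.snd ≫ pullback.snd p p ∧
        (s.snd ≫ pullback.fst p p) ≫ q = s.fst := by
    intro s
    have e1 : (s.snd ≫ pullback.fst p p) ≫ q = s.fst := by
      have := congrArg (· ≫ pullback.fst f f) s.condition
      simp only [Category.assoc, pullback.diagonal_fst, Category.comp_id, pullback.lift_fst] at this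
      rw [Category.assoc]
      exact this.symm
    have e2 : (s.snd ≫ pullback.snd p p) ≫ q = s.fst := by
      have := congrArg (· ≫ pullback.snd f f) s.condition
      simp only [Category.assoc, pullback.diagonal_snd, Category.comp_id, pullback.lift_snd] at this
      rw [Category.assoc]
      exact this.symm
    refine ⟨?_, e1⟩
    apply hsq.hom_ext
    · rw [e1, e2]
    · rw [Category.assoc, Category.assoc, pullback.condition]
  refine ⟨⟨w⟩, ⟨PullbackCone.IsLimit.mk w (fun s => s.snd ≫ pullback.fst p p)
    (fun s => (key s).2) (fun s => ?_) ?_⟩⟩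
  · apply pullback.hom_ext
    · simp
    · rw [Category.assoc, pullback.diagonal_snd, Category.comp_id]
      exact (key s).1
  · intro s l h1 h2
    rw [← h2, Category.assoc, pullback.diagonal_fst, Category.comp_id]

end Cat

/-- the base change to the relative diagonal objects of a family with the refinement property -/
theorem hasRefinement_diagonal {ι : Type u} {Y : Sp S} {Yi : ι → Sp S} {g : ∀ i, Yi i ⟶ Y}
    (href : HasRefinement Yi g) {X : Sp S} (f : X ⟶ Y) (Xi : ι → Sp S) (p : ∀ i, Xi i ⟶ Yi i)
    (q : ∀ i, Xi i ⟶ X) (hsq : ∀ i, IsPullback (q i) (p i) f (g i)) :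
    HasRefinement (fun i => pullback (p i) (p i))
      (fun i => pullback.map (p i) (p i) f f (q i) (q i) (g i) (hsq i).w.symm (hsq i).w.symm) := by
  intro Z hZ h
  obtain ⟨m, W, c, hW, hc, hsurj, hlift⟩ := href Z hZ (h ≫ pullback.fst f f ≫ f)
  refine ⟨m, W, c, hW, hc, hsurj, fun j => ?_⟩
  obtain ⟨i, l, hl⟩ := hlift j
  have w1 : ((yon S).map (c j) ≫ h ≫ pullback.fst f f) ≫ f = l ≫ g i := by
    rw [hl]; simp only [Category.assoc]
  have w2 : ((yon S).map (c j) ≫ h ≫ pullback.snd f f) ≫ f = l ≫ g i := by
    rw [hl]; simp only [Category.assoc]; rw [pullback.condition]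
  refine ⟨i, pullback.lift ((hsq i).lift _ _ w1) ((hsq i).lift _ _ w2)
    (by rw [(hsq i).lift_snd, (hsq i).lift_snd]), ?_⟩
  apply pullback.hom_ext
  · rw [Category.assoc, pullback.lift_fst, ← Category.assoc, pullback.lift_fst,
      (hsq i).lift_fst, Category.assoc]
  · rw [Category.assoc, pullback.lift_snd, ← Category.assoc, pullback.lift_snd,
      (hsq i).lift_fst, Category.assoc]

/-- quasi-separatedness is fpqc local on the base -/
theorem isLocalOnBase_isQuasiSeparatedMor :
    IsLocalOnBase (IsFpqcCover (S := S)) IsQuasiSeparatedMor := by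
  intro ι Y Yi g hY hYi hcov X f hX Xi p q hXi hsq
  constructor
  · intro hf i
    have : (RepWith (S := S) @QuasiCompact).diagonal f := hf
    exact (RepWith (S := S) @QuasiCompact).diagonal.of_isPullback (hsq i) this
  · intro hp
    have hD : IsAlgSpace (pullback f f) :=
      isAlgSpace_of_isPullback hX hX hY.diag (IsPullback.of_hasPullback f f)
    have hrep : Representable (pullback.diagonal f) :=
      Groth.Agent.Lib.Helper36.AlgSpCharts.representable_diagonal f hX.diag
    refine repWith_quasiCompact_of_isQuasiCompactMor _ hrep ?_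
    refine Groth.Agent.Lib.Helper46.FpqcBase.isQuasiCompactMor_of_refinement
      (fun i => pullback (p i) (p i))
      (fun i => pullback.map (p i) (p i) f f (q i) (q i) (g i) (hsq i).w.symm (hsq i).w.symm)
      (hasRefinement_diagonal (hasRefinement_of_isFpqcCover hcov) f Xi p q hsq) hD hX
      (pullback.diagonal f) Xi (fun i => pullback.diagonal (p i)) q
      (fun i => isPullback_diagonal (hsq i)) (fun i => ?_)
    exact isQuasiCompactMor_of_repWith _ (hp i)

end Groth.Agent.Lib.Helper46.FpqcDiag
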