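import Mathlib
import Groth.Agent.Lib.Helper46.EtLocal

/-!
# Locally of finite type is etale local on the source (helper46)

If `g : U' ⟶ U` is etale and surjective and `g ≫ q` is locally of finite type, then so is `q`.
The algebraic input is `Algebra.Etale.exists_subalgebra_fg` (an etale algebra descends to a
finitely generated subalgebra of the base) together with fppf descent of "locally of finite type".
-/

set_option autoImplicit false
universe u
open CategoryTheory CategoryTheory.Limits AlgebraicGeometry TensorProduct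

namespace Groth.Agent.Lib.Helper46

/-- the open range of a flat locally finitely presented morphism -/
noncomputable def openRange {E Y : Scheme.{u}} (ε : E ⟶ Y) [Flat ε] [LocallyOfFinitePresentation ε] :
    Y.Opens := ⟨Set.range ε, ε.isOpenMap.isOpen_range⟩

theorem of_postcomp_openImmersion (P : MorphismProperty Scheme.{u}) [IsZariskiLocalAtTarget P]
    {X Y Z : Scheme.{u}} (f : X ⟶ Y) (g : Y ⟶ Z) [IsOpenImmersion g] (h : P (f ≫ g)) : P f :=
  (hasOfPostcompProperty_isOpenImmersion_of_morphismRestrict P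
    (fun f U hf => IsZariskiLocalAtTarget.restrict hf U)).of_postcomp f g inferInstance h

theorem descent_over_range (P : MorphismProperty Scheme.{u})
    [P.DescendsAlong (@Surjective ⊓ @Flat ⊓ @LocallyOfFinitePresentation)]
    {X Y E : Scheme.{u}} (p : X ⟶ Y) (ε : E ⟶ Y) [Flat ε] [LocallyOfFinitePresentation ε]
    (h : P (pullback.snd p ε)) : P (p ∣_ openRange ε) := by
  set W := openRange ε with hW
  have hr : Set.range ε ⊆ Set.range W.ι := by
    rw [Scheme.Opens.range_ι]; exact subset_rfl
  set ε' : E ⟶ W.toScheme := IsOpenImmersion.lift W.ι ε hr with hε'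
  have fac : ε' ≫ W.ι = ε := IsOpenImmersion.lift_fac _ _ _
  have hs : Surjective ε' := by
    refine ⟨fun w => ?_⟩
    obtain ⟨e, he⟩ : W.ι w ∈ Set.range ε := by
      have : W.ι w ∈ Set.range W.ι := Set.mem_range_self w
      rw [Scheme.Opens.range_ι] at this
      exact this
    refine ⟨e, ?_⟩
    apply W.ι.injective
    rw [← Scheme.Hom.comp_apply, fac, he]
  have hfl : Flat ε' := by
    have : Flat (ε' ≫ W.ι) := by rw [fac]; infer_instance
    exact of_postcomp_openImmersion @Flat ε' W.ι this
  have hfp : LocallyOfFinitePresentation ε' := by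
    have : LocallyOfFinitePresentation (ε' ≫ W.ι) := by rw [fac]; infer_instance
    exact of_postcomp_openImmersion @LocallyOfFinitePresentation ε' W.ι this
  have bot := isPullback_morphismRestrict p W
  obtain ⟨k, hk1, hk2⟩ := bot.exists_lift (pullback.snd p ε ≫ ε') (pullback.fst p ε) (by
    rw [Category.assoc, fac, pullback.condition])
  have sq : IsPullback (pullback.snd p ε) k ε' (p ∣_ W) := by
    refine IsPullback.of_bot ?_ hk1.symm bot
    rw [hk2, fac]
    exact (IsPullback.of_hasPullback p ε).flip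
  exact MorphismProperty.of_isPullback_of_descendsAlong (P := P)
    (Q := @Surjective ⊓ @Flat ⊓ @LocallyOfFinitePresentation) sq ⟨⟨hs, hfl⟩, hfp⟩ h

attribute [local instance] Algebra.TensorProduct.rightAlgebra in
theorem lft_nhd_of_etale (R A B : Type u) [CommRing R] [CommRing A] [CommRing B] [Algebra R A] [Algebra A B]
    [Algebra R B] [IsScalarTower R A B] [Algebra.Etale A B] [Algebra.FiniteType R B] :
    ∃ N : (Spec (.of A)).Opens,
      (∀ y : Spec (.of B), Spec.map (CommRingCat.ofHom (algebraMap A B)) y ∈ N) ∧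
      LocallyOfFiniteType (N.ι ≫ Spec.map (CommRingCat.ofHom (algebraMap R A))) := by
  obtain ⟨A₀, B₀, _, _, hfg, hét, ⟨e⟩⟩ := Algebra.Etale.exists_subalgebra_fg R A B
  -- `A ⊗[A₀] B₀` is of finite type over `B₀`
  have h1 : Algebra.FiniteType A₀ B := Algebra.FiniteType.of_restrictScalars_finiteType R A₀ B
  have h2 : Algebra.FiniteType A₀ (A ⊗[A₀] B₀) :=
    Algebra.FiniteType.equiv h1 (e.restrictScalars A₀)
  haveI : IsScalarTower A₀ B₀ (A ⊗[A₀] B₀) := Algebra.TensorProduct.right_isScalarTower
  have h3 : Algebra.FiniteType B₀ (A ⊗[A₀] B₀) :=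
    Algebra.FiniteType.of_restrictScalars_finiteType A₀ B₀ (A ⊗[A₀] B₀)
  set p : Spec (.of A) ⟶ Spec (.of A₀) := Spec.map (CommRingCat.ofHom (algebraMap A₀ A)) with hp
  set ε : Spec (.of B₀) ⟶ Spec (.of A₀) := Spec.map (CommRingCat.ofHom (algebraMap A₀ B₀)) with hε
  have hεe : Etale ε := by
    rw [hε, HasRingHomProperty.Spec_iff (P := @Etale)]
    exact RingHom.etale_algebraMap.2 hét
  have hsnd : LocallyOfFiniteType (pullback.snd p ε) := by
    rw [← pullbackSpecIso_hom_snd A₀ A B₀,
      MorphismProperty.cancel_left_of_respectsIso (P := @LocallyOfFiniteType),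
      HasRingHomProperty.Spec_iff (P := @LocallyOfFiniteType)]
    exact RingHom.finiteType_algebraMap.2 h3
  have hW := descent_over_range @LocallyOfFiniteType p ε hsnd
  refine ⟨p ⁻¹ᵁ openRange ε, fun y => ?_, ?_⟩
  · let ι₀ : B₀ →+* B :=
      (e.symm : A ⊗[A₀] B₀ →+* B).comp (Algebra.TensorProduct.includeRight.toRingHom)
    have hring : (algebraMap A B).comp (algebraMap A₀ A) = ι₀.comp (algebraMap A₀ B₀) := by
      ext a₀
      simp only [RingHom.coe_comp, Function.comp_apply, ι₀]
      have : (Algebra.TensorProduct.includeRight.toRingHom : B₀ →+* A ⊗[A₀] B₀)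
          (algebraMap A₀ B₀ a₀) = algebraMap A (A ⊗[A₀] B₀) (algebraMap A₀ A a₀) := by
        simp [Algebra.algebraMap_eq_smul_one, Algebra.TensorProduct.one_def]
      rw [this]
      simp
    have key : Spec.map (CommRingCat.ofHom (algebraMap A B)) ≫ p =
        Spec.map (CommRingCat.ofHom ι₀) ≫ ε := by
      rw [hp, hε, ← Spec.map_comp, ← Spec.map_comp, ← CommRingCat.ofHom_comp,
        ← CommRingCat.ofHom_comp, hring]
    change p (Spec.map (CommRingCat.ofHom (algebraMap A B)) y) ∈ Set.range ε
    rw [← Scheme.Hom.comp_apply, key, Scheme.Hom.comp_apply]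
    exact Set.mem_range_self _
  · have hA₀ : Algebra.FiniteType R A₀ := (Subalgebra.fg_iff_finiteType A₀).mp hfg
    have e1 : Spec.map (CommRingCat.ofHom (algebraMap R A)) =
        p ≫ Spec.map (CommRingCat.ofHom (algebraMap R A₀)) := by
      rw [hp, ← Spec.map_comp, ← CommRingCat.ofHom_comp, ← IsScalarTower.algebraMap_eq]
    have e2 : (p ⁻¹ᵁ openRange ε).ι ≫ p = p ∣_ openRange ε ≫ (openRange ε).ι :=
      (morphismRestrict_ι p (openRange ε)).symm
    rw [e1, ← Category.assoc, e2, Category.assoc]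
    have h4 : LocallyOfFiniteType (Spec.map (CommRingCat.ofHom (algebraMap R A₀))) := by
      rw [HasRingHomProperty.Spec_iff (P := @LocallyOfFiniteType)]
      exact RingHom.finiteType_algebraMap.2 hA₀
    infer_instance

theorem lft_of_etale_cover_affine {R A : CommRingCat.{u}} (φ : R ⟶ A) {U' : Scheme.{u}} (g : U' ⟶ Spec A) [Etale g]
    [Surjective g] (h : LocallyOfFiniteType (g ≫ Spec.map φ)) :
    LocallyOfFiniteType (Spec.map φ) := by
  have key : ∀ x : Spec A, ∃ N : (Spec A).Opens,
      x ∈ N ∧ LocallyOfFiniteType (N.ι ≫ Spec.map φ) := by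
    intro x
    obtain ⟨y, rfl⟩ := g.surjective x
    obtain ⟨i, y₀, hy₀⟩ := U'.affineCover.exists_eq y
    let B : CommRingCat := Γ(U'.affineCover.X i, ⊤)
    let j : Spec B ⟶ U' := (U'.affineCover.X i).isoSpec.inv ≫ U'.affineCover.f i
    obtain ⟨ψ, hψ⟩ : ∃ ψ : A ⟶ B, Spec.map ψ = j ≫ g :=
      ⟨Spec.preimage (j ≫ g), Spec.map_preimage _⟩
    have hψe : Etale (Spec.map ψ) := by rw [hψ]; infer_instance
    have hφψ : LocallyOfFiniteType (Spec.map (φ ≫ ψ)) := by
      rw [Spec.map_comp, hψ, Category.assoc]; infer_instance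
    rw [HasRingHomProperty.Spec_iff (P := @Etale)] at hψe
    rw [HasRingHomProperty.Spec_iff (P := @LocallyOfFiniteType)] at hφψ
    have hφψ' : (ψ.hom.comp φ.hom).FiniteType := hφψ
    algebraize [φ.hom, ψ.hom, ψ.hom.comp φ.hom]
    obtain ⟨N, hN1, hN2⟩ := lft_nhd_of_etale R A B
    refine ⟨N, ?_, ?_⟩
    · have := hN1 ((U'.affineCover.X i).isoSpec.hom y₀)
      have e : Spec.map (CommRingCat.ofHom (algebraMap A B)) = j ≫ g := hψ
      rw [e] at this
      simpa [j, ← Scheme.Hom.comp_apply, hy₀] using this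
    · exact hN2
  choose N hN1 hN2 using key
  refine IsZariskiLocalAtSource.of_iSup_eq_top (P := @LocallyOfFiniteType) N ?_ hN2
  rw [eq_top_iff]
  intro x _
  exact TopologicalSpace.Opens.mem_iSup.2 ⟨x, hN1 x⟩

theorem lft_of_etale_cover_affine' {U' Z₁ Z₂ : Scheme.{u}} [IsAffine Z₁] [IsAffine Z₂] (m : Z₁ ⟶ Z₂) (g : U' ⟶ Z₁)
    [Etale g] [Surjective g] (h : LocallyOfFiniteType (g ≫ m)) : LocallyOfFiniteType m := by
  obtain ⟨φ, hφ⟩ : ∃ φ : Γ(Z₂, ⊤) ⟶ Γ(Z₁, ⊤), Spec.map φ = Z₁.isoSpec.inv ≫ m ≫ Z₂.isoSpec.hom :=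
    ⟨Spec.preimage _, Spec.map_preimage _⟩
  have h1 : LocallyOfFiniteType ((g ≫ Z₁.isoSpec.hom) ≫ Spec.map φ) := by
    rw [hφ]
    simp only [Category.assoc, Iso.hom_inv_id_assoc]
    rw [← Category.assoc]
    infer_instance
  have h2 := lft_of_etale_cover_affine φ (g ≫ Z₁.isoSpec.hom) h1
  rw [hφ] at h2
  have h3 : LocallyOfFiniteType (Z₁.isoSpec.hom ≫ (Z₁.isoSpec.inv ≫ m ≫ Z₂.isoSpec.hom) ≫
      Z₂.isoSpec.inv) := inferInstance
  simpa using h3

theorem lft_of_etale_cover {U' U V : Scheme.{u}} (g : U' ⟶ U) (q : U ⟶ V) (hg : Etale g)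
    (hs : Surjective g) (h : LocallyOfFiniteType (g ≫ q)) : LocallyOfFiniteType q := by
  rw [IsZariskiLocalAtTarget.iff_of_openCover (P := @LocallyOfFiniteType) V.affineCover]
  intro i
  change LocallyOfFiniteType (pullback.snd q (V.affineCover.f i))
  rw [IsZariskiLocalAtSource.iff_of_openCover (P := @LocallyOfFiniteType)
    (pullback q (V.affineCover.f i)).affineCover]
  intro k
  set c := (pullback q (V.affineCover.f i)).affineCover.f k with hc
  set s := c ≫ pullback.fst q (V.affineCover.f i) with hs_def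
  change LocallyOfFiniteType (c ≫ pullback.snd q (V.affineCover.f i))
  have h1 : LocallyOfFiniteType (pullback.snd g s ≫ c ≫ pullback.snd q (V.affineCover.f i)) := by
    apply of_postcomp_openImmersion @LocallyOfFiniteType _ (V.affineCover.f i)
    have e : (pullback.snd g s ≫ c ≫ pullback.snd q (V.affineCover.f i)) ≫ V.affineCover.f i =
        pullback.fst g s ≫ g ≫ q := by
      have e1 : pullback.snd q (V.affineCover.f i) ≫ V.affineCover.f i =
          pullback.fst q (V.affineCover.f i) ≫ q := pullback.condition.symm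
      have e2 : pullback.snd g s ≫ s = pullback.fst g s ≫ g := pullback.condition.symm
      rw [Category.assoc, Category.assoc, e1, ← Category.assoc c, ← hs_def, ← Category.assoc, e2,
        Category.assoc]
    rw [e]
    infer_instance
  exact lft_of_etale_cover_affine' _ (pullback.snd g s) h1

theorem etLocal_lft : EtLocal (@LocallyOfFiniteType : MorphismProperty Scheme.{u}) := by
  refine EtLocal.mk' _ (fun _ _ f hf => ?_) (fun U' U V g q hg hs h => ?_)
  · haveI : Etale f := hf
    infer_instance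
  · exact lft_of_etale_cover g q hg hs h

end Groth.Agent.Lib.Helper46
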