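import Groth.Agent.Lib.Helper46.LocPChart
import Groth.Agent.Lib.Helper46.FpqcBase

/-!
# fpqc locality on the base of chart-wise properties of morphisms of algebraic spaces (helper46)

For `Q` etale local on the source-and-target (`EtLocal Q`), Zariski local on the target and
satisfying fpqc descent, the chart-wise property `AlgSp.LocP Q` is fpqc local on the base.
-/

set_option autoImplicit false
universe u
open CategoryTheory CategoryTheory.Limits AlgebraicGeometry Opposite

namespace Groth.Agent.Lib.Helper46.LocPFpqc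

open AlgSp Groth.Agent.Lib.Helper23.AlgSpMor Groth.Agent.Lib.Helper46
open Groth.Agent.Lib.Helper46.LocPChart Groth.Agent.Lib.Helper46.FpqcBase

variable {S : Scheme.{u}} {Q : MorphismProperty Scheme.{u}}

theorem isLocalOnBase_fpqc_locP (hQ : EtLocal Q) [IsZariskiLocalAtTarget Q]
    [Q.DescendsAlong (@Surjective ⊓ @Flat ⊓ @QuasiCompact)] :
    IsLocalOnBase (IsFpqcCover (S := S)) (LocP Q) := by
  intro ι Y Yi g hY hYi hcov X f hX Xi p q hXi hsq
  constructor
  · intro hf i
    exact locP_of_isPullback hQ hX hY (hXi i) (hYi i) (hsq i) hf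
  · intro hp
    refine locP_of_affine hQ hX hY f fun Z hZ gz => ?_
    have sqP := IsPullback.of_hasPullback f gz
    have hP : IsAlgSpace (pullback f gz) :=
      isAlgSpace_of_isPullback hX (IsAlgSpace.yon_obj Z) hY.diag sqP
    obtain ⟨m, W, c, hWaff, hcflat, hcsurj, hlift, -⟩ :=
      exists_refinement Yi g hcov f Xi p q hsq Z hZ gz _ _ sqP
    refine locP_of_flat_family hQ hP hZ _ W c hWaff hcflat hcsurj fun j => ?_
    obtain ⟨i, l, u, hu, -, -⟩ := hlift j
    have hPj : IsAlgSpace (pullback (pullback.snd f gz) ((yon S).map (c j))) :=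
      isAlgSpace_of_isPullback hP (IsAlgSpace.yon_obj (W j)) (IsAlgSpace.yon_obj Z).diag
        (IsPullback.of_hasPullback _ _)
    exact locP_of_isPullback hQ (hXi i) (hYi i) hPj (IsAlgSpace.yon_obj (W j)) hu (hp i)

end Groth.Agent.Lib.Helper46.LocPFpqc
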