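import Groth.Agent.Lib.Helper46.FpqcDiag
import Groth.Agent.Lib.Helper46.EtLocal

/-!
# fpqc descent of `RepWith P` for representable morphisms (helper46)

For a property `P` of morphisms of schemes that is stable under base change, Zariski local on the
target and satisfies fpqc descent, a *representable* morphism `f : X ⟶ Y` of sheaves has `RepWith P`
as soon as its base changes along a family with the refinement property of `IsFpqcCover` do.  This
applies to diagonals of morphisms of algebraic spaces (always representable).
-/

set_option autoImplicit false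
universe u
open CategoryTheory CategoryTheory.Limits AlgebraicGeometry Opposite

namespace Groth.Agent.Lib.Helper46.RepFpqc

open AlgSp Groth.Agent.Lib.Helper46 Groth.Agent.Lib.Helper46.FpqcDiag

variable {S : Scheme.{u}}

/-- transfer of `P` from the projection of a pullback in `Over S` to the chosen pullback of the
underlying schemes -/
theorem prop_pullback_snd_left (P : MorphismProperty Scheme.{u}) [P.RespectsIso] {A B C : Over S}
    (h : A ⟶ C) (j : B ⟶ C) (H : P (pullback.snd h j).left) : P (pullback.snd h.left j.left) := by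
  have sq : IsPullback (pullback.fst h j).left (pullback.snd h j).left h.left j.left :=
    (IsPullback.of_hasPullback h j).map (Over.forget S)
  have e : sq.isoPullback.hom ≫ pullback.snd h.left j.left = (pullback.snd h j).left :=
    sq.isoPullback_hom_snd
  exact (P.cancel_left_of_respectsIso sq.isoPullback.hom (pullback.snd h.left j.left)).1
    (by rw [e]; exact H)

/-- general form of `FpqcBase.isPullback_lift`, with an arbitrary pullback square on the left -/
theorem isPullback_lift {Y Yi X Xi P P' Z T : Sp S} {g : Yi ⟶ Y} {f : X ⟶ Y} {p : Xi ⟶ Yi}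
    {q : Xi ⟶ X} (hsq : IsPullback q p f g) {gz : Z ⟶ Y} {fst : P ⟶ X} {snd : P ⟶ Z}
    (sqP : IsPullback fst snd f gz) {t : T ⟶ Z} {fst' : P' ⟶ P} {snd' : P' ⟶ T}
    (sq' : IsPullback fst' snd' snd t) (l : T ⟶ Yi) (hl : l ≫ g = t ≫ gz) :
    ∃ u : P' ⟶ Xi, IsPullback u snd' p l ∧ u ≫ q = fst' ≫ fst := by
  have big : IsPullback (fst' ≫ fst) snd' f (t ≫ gz) := sq'.paste_horiz sqP
  have w : (fst' ≫ fst) ≫ f = (snd' ≫ l) ≫ g := by
    rw [Category.assoc, Category.assoc, hl]
    simpa only [Category.assoc] using big.w
  refine ⟨hsq.lift _ _ w, ?_, hsq.lift_fst _ _ w⟩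
  refine IsPullback.of_right ?_ (hsq.lift_snd _ _ w) hsq
  rw [hsq.lift_fst, hl]
  exact big

/-- **fpqc descent for representable morphisms**: a representable morphism has `RepWith P` as soon
as its base changes along a family with the refinement property do. -/
theorem repWith_of_refinement (P : MorphismProperty Scheme.{u}) [P.IsStableUnderBaseChange]
    [IsZariskiLocalAtTarget P] [P.DescendsAlong (@Surjective ⊓ @Flat ⊓ @QuasiCompact)]
    {ι : Type u} {Y : Sp S} {Yi : ι → Sp S} {g : ∀ i, Yi i ⟶ Y} (href : HasRefinement Yi g)
    {X : Sp S} (f : X ⟶ Y) (hrep : Representable f) (Xi : ι → Sp S) (p : ∀ i, Xi i ⟶ Yi i)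
    (q : ∀ i, Xi i ⟶ X) (hsq : ∀ i, IsPullback (q i) (p i) f (g i))
    (hp : ∀ i, RepWith P (p i)) : RepWith P f := by
  have : P.RespectsIso := MorphismProperty.IsStableUnderBaseChange.respectsIso
  refine (repWith_iff P f).2 ⟨hrep, fun U V gU fst snd sq => ?_⟩
  rw [IsZariskiLocalAtTarget.iff_of_openCover (P := P) U.left.affineCover]
  intro a
  let Zo : Over S := Over.mk (U.left.affineCover.f a ≫ U.hom)
  let jo : Zo ⟶ U := Over.homMk (U.left.affineCover.f a) rfl
  change P (pullback.snd snd.left jo.left)
  apply prop_pullback_snd_left P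
  have hZo : IsAffine Zo.left := by
    change IsAffine (U.left.affineCover.X a)
    infer_instance
  -- the base change to the affine scheme `Zo`
  have sq1 := (IsPullback.of_hasPullback snd jo).map (yon S)
  have sqP : IsPullback ((yon S).map (pullback.fst snd jo) ≫ fst)
      ((yon S).map (pullback.snd snd jo)) f ((yon S).map jo ≫ gU) := sq1.paste_horiz sq
  obtain ⟨m, W, c, hW, hc, hs, hlift⟩ := href Zo hZo ((yon S).map jo ≫ gU)
  haveI := hZo
  refine of_finite_flat_family P (pullback.snd snd jo).left (fun j => (W j).left)
    (fun j => (c j).left) hW hc hs fun j => ?_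
  apply prop_pullback_snd_left P
  obtain ⟨i, l, hl⟩ := hlift j
  have sq2 := (IsPullback.of_hasPullback (pullback.snd snd jo) (c j)).map (yon S)
  obtain ⟨u, hu, -⟩ := isPullback_lift (hsq i) sqP sq2 l hl
  exact ((repWith_iff P (p i)).1 (hp i)).2 l u _ hu

end Groth.Agent.Lib.Helper46.RepFpqc

namespace Groth.Agent.Lib.Helper46.RepFpqc

open AlgSp Groth.Agent.Lib.Helper46 Groth.Agent.Lib.Helper46.FpqcDiag
open Groth.Agent.Lib.Helper23.AlgSpMor

variable {S : Scheme.{u}}

/-- properties of the diagonal (`RepWith P` of the diagonal, for `P` satisfying fpqc descent) are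
fpqc local on the base -/
theorem isLocalOnBase_diagonal_repWith (P : MorphismProperty Scheme.{u})
    [P.IsStableUnderBaseChange] [IsZariskiLocalAtTarget P]
    [P.DescendsAlong (@Surjective ⊓ @Flat ⊓ @QuasiCompact)] :
    IsLocalOnBase (IsFpqcCover (S := S)) (fun _ _ f => RepWith P (pullback.diagonal f)) := by
  intro ι Y Yi g hY hYi hcov X f hX Xi p q hXi hsq
  constructor
  · intro hf i
    have : (RepWith (S := S) P).diagonal f := hf
    exact (RepWith (S := S) P).diagonal.of_isPullback (hsq i) this
  · intro hp
    have hrep : Representable (pullback.diagonal f) :=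
      Groth.Agent.Lib.Helper36.AlgSpCharts.representable_diagonal f hX.diag
    exact repWith_of_refinement P
      (hasRefinement_diagonal (hasRefinement_of_isFpqcCover hcov) f Xi p q hsq)
      (pullback.diagonal f) hrep Xi (fun i => pullback.diagonal (p i)) q
      (fun i => isPullback_diagonal (hsq i)) hp

end Groth.Agent.Lib.Helper46.RepFpqc
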