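import Mathlib
import Groth.Agent.Lib.Helper46.EtLocalLFT

/-!
# Locally quasi-finite (and locally of finite type) is etale local on the source (helper46)
-/

set_option autoImplicit false
universe u
open CategoryTheory CategoryTheory.Limits AlgebraicGeometry TensorProduct

namespace Groth.Agent.Lib.Helper46

theorem isDiscrete_of_preimage {X' X : Type*} [TopologicalSpace X'] [TopologicalSpace X]
    (g : X' → X) (hg : IsOpenMap g) (hs : Function.Surjective g) (s : Set X)
    (h : IsDiscrete (g ⁻¹' s)) : IsDiscrete s := by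
  rw [isDiscrete_iff_forall_mem_exists_isOpen] at h ⊢
  intro y hy
  obtain ⟨y', rfl⟩ := hs y
  obtain ⟨O', hO', e⟩ := h y' hy
  refine ⟨g '' O', hg _ hO', ?_⟩
  ext z
  constructor
  · rintro ⟨⟨z', hz', rfl⟩, hz⟩
    have : z' ∈ O' ∩ g ⁻¹' s := ⟨hz', hz⟩
    rw [e] at this
    rw [Set.mem_singleton_iff] at this ⊢
    rw [this]
  · rintro rfl
    have : y' ∈ O' ∩ g ⁻¹' s := by rw [e]; rfl
    exact ⟨⟨y', this.1, rfl⟩, hy⟩

theorem lqf_of_etale_cover {U' U V : Scheme.{u}} (g : U' ⟶ U) (q : U ⟶ V) (hg : Etale g)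
    (hs : Surjective g) (hq : LocallyOfFiniteType q)
    (h2 : LocallyQuasiFinite (g ≫ q)) :
    LocallyQuasiFinite q := by
  rw [locallyQuasiFinite_iff_isDiscrete_preimage_singleton]
  intro v
  have := (g ≫ q).isDiscrete_preimage_singleton v
  refine isDiscrete_of_preimage g g.isOpenMap g.surjective _ ?_
  convert this using 1
  ext x
  simp

theorem lqf_of_etale {X Y : Scheme.{u}} (f : X ⟶ Y) [Etale f] : LocallyQuasiFinite f := by
  rw [HasRingHomProperty.iff_appLE (P := @LocallyQuasiFinite)]
  intro U V e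
  have h := f.etale_appLE U.2 V.2 e
  algebraize [(f.appLE U V e).hom]
  have : Algebra.QuasiFinite Γ(Y, U) Γ(X, V) := inferInstance
  exact RingHom.quasiFinite_algebraMap.mpr this

theorem etLocal_lqf :
    EtLocal (@LocallyQuasiFinite ⊓ @LocallyOfFiniteType : MorphismProperty Scheme.{u}) := by
  refine EtLocal.mk' _ (fun _ _ f hf => ?_) (fun U' U V g q hg hs h => ?_)
  · haveI : Etale f := hf
    exact ⟨lqf_of_etale f, inferInstance⟩
  · have h1 : LocallyOfFiniteType q := lft_of_etale_cover g q hg hs h.2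
    exact ⟨lqf_of_etale_cover g q hg hs h1 h.1, h1⟩

theorem quasiFinite_of_faithfullyFlat_baseChange (R A T : Type u) [CommRing R] [CommRing A]
    [CommRing T] [Algebra R A] [Algebra R T] [Module.FaithfullyFlat R A]
    [Algebra.QuasiFinite A (A ⊗[R] T)] : Algebra.QuasiFinite R T := by
  refine ⟨fun p hp ↦ ?_⟩
  obtain ⟨⟨P, hP⟩, hPp⟩ := PrimeSpectrum.comap_surjective_of_faithfullyFlat (A := R) (B := A) ⟨p, hp⟩
  have hpP : p = P.under R := by
    have := congrArg PrimeSpectrum.asIdeal hPp
    exact this.symm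
  subst hpP
  let := Localization.AtPrime.algebraOfLiesOver (P.under R) P
  let e : P.Fiber (A ⊗[R] T) ≃ₐ[P.ResidueField]
      P.ResidueField ⊗[(P.under R).ResidueField] ((P.under R).Fiber T) :=
    (Algebra.TensorProduct.cancelBaseChange _ _ _ _ _).trans
      (Algebra.TensorProduct.cancelBaseChange _ _ _ _ _).symm
  have h1 : Module.Finite P.ResidueField (P.Fiber (A ⊗[R] T)) := inferInstance
  have h2 : Module.Finite P.ResidueField
      (P.ResidueField ⊗[(P.under R).ResidueField] ((P.under R).Fiber T)) :=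
    .of_surjective e.toLinearMap e.surjective
  exact Module.Finite.of_finite_tensorProduct_of_faithfullyFlat P.ResidueField

theorem quasiFinite_codescendsAlong_faithfullyFlat :
    RingHom.CodescendsAlong RingHom.QuasiFinite RingHom.FaithfullyFlat := by
  refine .mk _ RingHom.QuasiFinite.respectsIso fun R S T _ _ _ _ _ h h' ↦ ?_
  rw [RingHom.quasiFinite_algebraMap] at h' ⊢
  rw [RingHom.faithfullyFlat_algebraMap_iff] at h
  exact quasiFinite_of_faithfullyFlat_baseChange R S T

/-- locally quasi-finite morphisms satisfy fpqc descent -/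
instance descendsAlong_locallyQuasiFinite :
    MorphismProperty.DescendsAlong (@LocallyQuasiFinite : MorphismProperty Scheme.{u})
      (@Surjective ⊓ @Flat ⊓ @QuasiCompact) :=
  HasRingHomProperty.descendsAlong_flat quasiFinite_codescendsAlong_faithfullyFlat

end Groth.Agent.Lib.Helper46
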