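import Mathlib
import Groth.Agent.Lib.Helper46.EtLocalLFT

/-!
# Unramified (locally of finite type and formally unramified) is etale local on the source (helper46)

If `g : U' ⟶ U` is etale and surjective and `g ≫ q` is locally of finite type and formally unramified,
then so is `q`: the diagonal of `q` becomes an open immersion after the etale surjective base change
`U' ×_V U' ⟶ U ×_V U` (an etale monomorphism is an open immersion), and open immersions satisfy fppf
descent.
-/

set_option autoImplicit false
universe u
open CategoryTheory CategoryTheory.Limits AlgebraicGeometry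

namespace Groth.Agent.Lib.Helper46

theorem fu_of_etale_cover {U' U V : Scheme.{u}} (g : U' ⟶ U) (q : U ⟶ V) (hg : Etale g)
    (hs : Surjective g) (h1 : LocallyOfFiniteType (g ≫ q)) (h2 : FormallyUnramified (g ≫ q)) :
    FormallyUnramified q := by
  have sq := pullback_map_diagonal_isPullback g g q
  set G := pullback.map (g ≫ q) (g ≫ q) q q g g (𝟙 _) (Category.comp_id _) (Category.comp_id _)
    with hG
  set m := pullback.map g g (g ≫ q) (g ≫ q) (𝟙 _) (𝟙 _) q (Category.id_comp _).symm
    (Category.id_comp _).symm with hm
  have hGe : Etale G := MorphismProperty.pullbackMap (P := @Etale) hg hg rfl rfl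
  have hGs : Surjective G := MorphismProperty.pullbackMap (P := @Surjective) hs hs rfl rfl
  have hm1 : m ≫ pullback.fst (g ≫ q) (g ≫ q) = pullback.fst g g := by
    rw [hm, pullback.lift_fst, Category.comp_id]
  have : Etale (m ≫ pullback.fst (g ≫ q) (g ≫ q)) := by rw [hm1]; infer_instance
  have hfu : FormallyUnramified (pullback.fst (g ≫ q) (g ≫ q)) :=
    MorphismProperty.pullback_fst (P := @FormallyUnramified) _ _ h2
  have hft : LocallyOfFiniteType (pullback.fst (g ≫ q) (g ≫ q)) :=
    MorphismProperty.pullback_fst (P := @LocallyOfFiniteType) _ _ h1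
  have hme : Etale m := Etale.of_comp m (pullback.fst (g ≫ q) (g ≫ q))
  have hmm : Mono m := by
    have : Mono (pullback.diagonal q) := inferInstance
    exact PullbackCone.mono_snd_of_is_pullback_of_mono sq.isLimit
  have hmo : IsOpenImmersion m := IsOpenImmersion.of_flat_of_mono m
  have : IsOpenImmersion (pullback.diagonal q) :=
    MorphismProperty.of_isPullback_of_descendsAlong (P := @IsOpenImmersion)
      (Q := @Surjective ⊓ @Flat ⊓ @LocallyOfFinitePresentation) sq.flip
      ⟨⟨hGs, inferInstance⟩, inferInstance⟩ hmo
  infer_instance

theorem etLocal_unramified :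
    EtLocal (@LocallyOfFiniteType ⊓ @FormallyUnramified : MorphismProperty Scheme.{u}) := by
  refine EtLocal.mk' _ (fun _ _ f hf => ?_) (fun U' U V g q hg hs h => ?_)
  · haveI : Etale f := hf
    exact ⟨inferInstance, inferInstance⟩
  · have h1 : LocallyOfFiniteType q := lft_of_etale_cover g q hg hs h.1
    exact ⟨h1, fu_of_etale_cover g q hg hs h.1 h.2⟩

end Groth.Agent.Lib.Helper46
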