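import Mathlib
import Groth.Agent.Lib.Helper46.LocPChart
import Groth.Agent.Lib.Helper30.EtaleSourceSmooth
import Groth.Agent.Lib.Helper30.AlgSpEtaleMor
import Groth.Agent.Lib.Helper37.AlgSpPoints
import Groth.Agent.Lib.Helper23.AlgSpMor4

/-!
# Properties local on the source-and-target for algebraic spaces: formal lemmas (helper46)

Generic lemmas used for the rows on smooth local / etale-smooth local on source-and-target
properties of morphisms of algebraic spaces: the two-member coverings `{a, 𝟙}`, stability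
properties of `LocP @Smooth` and `IsEtaleMor` (identity, composition, base change).
-/

set_option autoImplicit false
universe u
open CategoryTheory CategoryTheory.Limits AlgebraicGeometry Opposite

namespace Groth.Agent.Lib.Helper46.STLocal

open AlgSp Groth.Agent.Lib.Helper46 Groth.Agent.Lib.Helper46.LocPChart

variable {S : Scheme.{u}}

/-! ### the two-member family `{a, 𝟙}` -/

/-- objects of the family `{X' ⟶ X, X ⟶ X}` -/
def augObj (X' X : Sp S) : ULift.{u} Bool → Sp S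
  | ⟨true⟩ => X'
  | ⟨false⟩ => X

/-- morphisms of the family `{a, 𝟙}` -/
def augHom {X' X : Sp S} (a : X' ⟶ X) : ∀ i, augObj X' X i ⟶ X
  | ⟨true⟩ => a
  | ⟨false⟩ => 𝟙 X

/-- a pair of morphisms as a morphism of two-member families -/
def augMap {X' X Y' Y : Sp S} (f' : X' ⟶ Y') (f : X ⟶ Y) : ∀ i, augObj X' X i ⟶ augObj Y' Y i
  | ⟨true⟩ => f'
  | ⟨false⟩ => f

theorem augObj_isAlgSpace {X' X : Sp S} (hX' : IsAlgSpace X') (hX : IsAlgSpace X) :
    ∀ i, IsAlgSpace (augObj X' X i)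
  | ⟨true⟩ => hX'
  | ⟨false⟩ => hX

theorem isCover_aug (Q : MorphismProperty (Sp S)) {X' X : Sp S} (a : X' ⟶ X) (ha : Q a)
    (hid : Q (𝟙 X)) : IsCover Q (augObj X' X) (augHom a) := by
  refine ⟨?_, fun x => ⟨⟨false⟩, x, Points.map_id x⟩⟩
  rintro ⟨_ | _⟩
  · exact hid
  · exact ha

/-- a property local on the source for `Q`-coverings is stable under precomposition with `Q` -/
theorem precomp_of_localOnSource {Q P : MorphismProperty (Sp S)}
    (h1 : IsLocalOnSource (fun _ _ Y g => IsCover Q Y g) P) {X' X Y : Sp S}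
    (hX' : IsAlgSpace X') (hX : IsAlgSpace X) (hY : IsAlgSpace Y) (a : X' ⟶ X) (ha : Q a)
    (hid : Q (𝟙 X)) (f : X ⟶ Y) (hf : P f) : P (a ≫ f) :=
  (h1 (augObj X' X) (augHom a) hX (augObj_isAlgSpace hX' hX) (isCover_aug Q a ha hid) f hY).mp hf
    ⟨true⟩

/-- a property local on the base for `Q`-coverings is stable under base change along `Q` -/
theorem baseChange_of_localOnBase {Q P : MorphismProperty (Sp S)}
    (h2 : IsLocalOnBase (fun _ _ Y g => IsCover Q Y g) P) {X Y X' Y' : Sp S}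
    (hX : IsAlgSpace X) (hY : IsAlgSpace Y) (hX' : IsAlgSpace X') (hY' : IsAlgSpace Y')
    {f : X ⟶ Y} {g : Y' ⟶ Y} {f' : X' ⟶ Y'} {g' : X' ⟶ X} (sq : IsPullback g' f' f g)
    (hg : Q g) (hid : Q (𝟙 Y)) (hf : P f) : P f' := by
  have key := (h2 (augObj Y' Y) (augHom g) hY (augObj_isAlgSpace hY' hY) (isCover_aug Q g hg hid)
    f hX (augObj X' X) (augMap f' f) (augHom g') (augObj_isAlgSpace hX' hX) ?_).mp hf ⟨true⟩
  · exact key
  · rintro ⟨_ | _⟩
    · change IsPullback (𝟙 X) f f (𝟙 Y)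
      exact IsPullback.of_horiz_isIso ⟨by rw [Category.id_comp, Category.comp_id]⟩
    · exact sq

/-! ### smooth and etale morphisms of algebraic spaces -/

theorem hSm : EtLocal (@Smooth : MorphismProperty Scheme.{u}) :=
  Groth.Agent.Lib.Helper30.EtLocalInst.etLocal_smooth

theorem isEtaleMor_id (X : Sp S) : IsEtaleMor (𝟙 X) := fun U φ hφ => by
  rw [Category.comp_id]; exact hφ

theorem isEtaleMor_comp {X Y Z : Sp S} (f : X ⟶ Y) (g : Y ⟶ Z) (hf : IsEtaleMor f)
    (hg : IsEtaleMor g) : IsEtaleMor (f ≫ g) := fun U φ hφ => by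
  rw [← Category.assoc]; exact hg _ (hf φ hφ)

theorem sm_of_isEtaleMor {X Y : Sp S} (f : X ⟶ Y) (hf : IsEtaleMor f) : LocP @Smooth f :=
  fun _ _ a b h ha hb w =>
    haveI : Etale h.left :=
      Groth.Agent.Lib.Helper30.AlgSpEtaleMor.locP_etale_of_isEtaleMor f hf a b h ha hb w
    inferInstance

theorem sm_id (X : Sp S) : LocP @Smooth (𝟙 X) := sm_of_isEtaleMor _ (isEtaleMor_id X)

theorem sm_comp {X Y Z : Sp S} (hX : IsAlgSpace X) (hY : IsAlgSpace Y) (hZ : IsAlgSpace Z)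
    (f : X ⟶ Y) (g : Y ⟶ Z) (hf : LocP @Smooth f) (hg : LocP @Smooth g) : LocP @Smooth (f ≫ g) :=
  locP_comp hSm hX hY hZ f g hf hg

theorem sm_baseChange {X Y X' Y' : Sp S} (hX : IsAlgSpace X) (hY : IsAlgSpace Y)
    (hX' : IsAlgSpace X') (hY' : IsAlgSpace Y') {f : X ⟶ Y} {g : Y' ⟶ Y} {fst : X' ⟶ X}
    {f' : X' ⟶ Y'} (sq : IsPullback fst f' f g) (hf : LocP @Smooth f) : LocP @Smooth f' :=
  locP_of_isPullback hSm hX hY hX' hY' sq hf

theorem isEtaleMor_baseChange {X Y X' Y' : Sp S} (hX : IsAlgSpace X) (hY : IsAlgSpace Y)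
    (hX' : IsAlgSpace X') (hY' : IsAlgSpace Y') {f : X ⟶ Y} {g : Y' ⟶ Y} {fst : X' ⟶ X}
    {f' : X' ⟶ Y'} (sq : IsPullback fst f' f g) (hf : IsEtaleMor f) : IsEtaleMor f' := by
  rw [Groth.Agent.Lib.Helper30.AlgSpEtaleMor.isEtaleMor_iff_locP_etale hY'] 
  rw [Groth.Agent.Lib.Helper30.AlgSpEtaleMor.isEtaleMor_iff_locP_etale hY] at hf
  exact locP_of_isPullback Groth.Agent.Lib.Helper30.EtLocalInst.etLocal_etale hX hY hX' hY' sq hf

/-- the graph `X ⟶ X ×_Z Y` of `f : X ⟶ Y` over an etale `g : Y ⟶ Z` is etale -/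
theorem isEtaleMor_graph {X Y Z : Sp S} (hX : IsAlgSpace X) (hY : IsAlgSpace Y) (hZ : IsAlgSpace Z)
    (f : X ⟶ Y) (g : Y ⟶ Z) (hg : IsEtaleMor g) :
    IsAlgSpace (pullback (f ≫ g) g) ∧
    IsEtaleMor (pullback.lift (𝟙 X) f (by rw [Category.id_comp]) : X ⟶ pullback (f ≫ g) g) := by
  have hW : IsAlgSpace (pullback (f ≫ g) g) :=
    Groth.Agent.Lib.Helper23.AlgSpMor.isAlgSpace_of_isPullback hX hY hZ.diag
      (IsPullback.of_hasPullback _ _)
  refine ⟨hW, ?_⟩
  have hfst : IsEtaleMor (pullback.fst (f ≫ g) g) :=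
    isEtaleMor_baseChange hY hZ hW hX (IsPullback.of_hasPullback (f ≫ g) g).flip hg
  rw [Groth.Agent.Lib.Helper30.AlgSpEtaleMor.isEtaleMor_iff_locP_etale hW]
  refine Groth.Agent.Lib.Helper30.AlgSpEtaleMor.locP_cancel
    Groth.Agent.Lib.Helper30.EtLocalInst.etLocal_etale hX _ (pullback.fst (f ≫ g) g) ?_
    (Groth.Agent.Lib.Helper30.AlgSpEtaleMor.locP_etale_of_isEtaleMor _ hfst)
  rw [pullback.lift_fst]
  exact Groth.Agent.Lib.Helper30.AlgSpEtaleMor.locP_etale_of_isEtaleMor _ (isEtaleMor_id X)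

end Groth.Agent.Lib.Helper46.STLocal
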