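import Mathlib
import Groth.Agent.Lib.Helper46.STLocal
import Groth.Agent.Lib.Helper36.OpenSubspace
import Groth.Agent.Lib.Helper30.LocPNbhd
import Groth.Agent.Lib.Helper5.FppfSource
import Groth.Agent.S10194

/-!
# The largest open of the base over which a morphism has a property local on the base (helper46)

For a class `Q` of morphisms of algebraic spaces usable as coverings (containing open immersions,
stable under base change and composition, open on points) and a property `P` local on the base for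
`Q`-coverings, every morphism `f : X ⟶ Y` of algebraic spaces has a largest open `W(f) ⊆ |Y|` over
which `f` has `P`, and its formation commutes with base change along morphisms in `Q`.
-/

set_option autoImplicit false
universe u
open CategoryTheory CategoryTheory.Limits AlgebraicGeometry Opposite

namespace Groth.Agent.Lib.Helper46.LargestOpen

open AlgSp Groth.Agent.Lib.Helper46 Groth.Agent.Lib.Helper46.STLocal
open Groth.Agent.Lib.Helper37.AlgSpPoints Groth.Agent.Lib.Helper36.OpenSubspace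
open Groth.Agent.Lib.Helper30.LocPNbhd

variable {S : Scheme.{u}}

/-- a class of morphisms of algebraic spaces usable as coverings -/
structure CovClass (Q : MorphismProperty (Sp S)) : Prop where
  ofOpenImm : ∀ ⦃X Y : Sp S⦄, IsAlgSpace X → IsAlgSpace Y → ∀ (j : X ⟶ Y),
    RepWith @IsOpenImmersion j → Q j
  id : ∀ ⦃X : Sp S⦄, IsAlgSpace X → Q (𝟙 X)
  baseChange : ∀ ⦃X Y X' Y' : Sp S⦄, IsAlgSpace X → IsAlgSpace Y → IsAlgSpace X' →
    IsAlgSpace Y' → ∀ {f : X ⟶ Y} {g : Y' ⟶ Y} {fst : X' ⟶ X} {f' : X' ⟶ Y'},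
    IsPullback fst f' f g → Q f → Q f'
  comp : ∀ ⦃X Y Z : Sp S⦄, IsAlgSpace X → IsAlgSpace Y → IsAlgSpace Z →
    ∀ (f : X ⟶ Y) (g : Y ⟶ Z), Q f → Q g → Q (f ≫ g)
  isOpenMap : ∀ ⦃X Y : Sp S⦄, IsAlgSpace X → IsAlgSpace Y → ∀ (f : X ⟶ Y), Q f →
    IsOpenMap (Points.map f)

/-- `f` has `P` over the open `V` of `|Y|` -/
def GoodSp (P : MorphismProperty (Sp S)) {X Y : Sp S} (f : X ⟶ Y) (V : Set (Points Y)) : Prop :=
  ∀ (W₁ X₁ : Sp S) (j₁ : W₁ ⟶ Y) (j₁' : X₁ ⟶ X) (f₁ : X₁ ⟶ W₁), IsAlgSpace W₁ → IsAlgSpace X₁ →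
    RepWith @IsOpenImmersion j₁ → Set.range (Points.map j₁) = V → IsPullback j₁' f₁ f j₁ → P f₁

variable {Q P : MorphismProperty (Sp S)}

/-- cancellation of an open immersion on the right -/
theorem CovClass.cancel (hQ : CovClass Q) {Y' W₁ Y : Sp S} (hY' : IsAlgSpace Y')
    (hW₁ : IsAlgSpace W₁) (hY : IsAlgSpace Y) (g₁ : Y' ⟶ W₁) (j : W₁ ⟶ Y)
    (hj : RepWith @IsOpenImmersion j) (h : Q (g₁ ≫ j)) : Q g₁ := by
  haveI := mono_of_isOpenImmersion hj
  have sq : IsPullback (𝟙 Y') g₁ (g₁ ≫ j) j :=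
    IsPullback.of_horiz_isIso_mono ⟨by rw [Category.id_comp]⟩
  exact hQ.baseChange hY' hY hY' hW₁ sq h

/-- lifting a pullback square through another one -/
theorem exists_isPullback_lift {X Y X' Y' X₁ W₁ : Sp S} {f : X ⟶ Y} {g' : X' ⟶ X} {f' : X' ⟶ Y'}
    {g₁ : Y' ⟶ W₁} {j₁ : W₁ ⟶ Y} {j₁' : X₁ ⟶ X} {f₁ : X₁ ⟶ W₁}
    (big : IsPullback g' f' f (g₁ ≫ j₁)) (right : IsPullback j₁' f₁ f j₁) :
    ∃ k : X' ⟶ X₁, k ≫ j₁' = g' ∧ IsPullback k f' f₁ g₁ := by
  let k := right.lift g' (f' ≫ g₁) (by rw [Category.assoc]; exact big.w)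
  have hk1 : k ≫ j₁' = g' := right.lift_fst _ _ _
  have hk2 : k ≫ f₁ = f' ≫ g₁ := right.lift_snd _ _ _
  refine ⟨k, hk1, ?_⟩
  rw [← hk1] at big
  exact IsPullback.of_right big hk2 right

/-- a one-member covering -/
theorem iff_of_single (hP : IsLocalOnBase (fun _ _ Y g => IsCover Q Y g) P) {X Y X' Y' : Sp S}
    (hX : IsAlgSpace X) (hY : IsAlgSpace Y) (hX' : IsAlgSpace X') (hY' : IsAlgSpace Y')
    {f : X ⟶ Y} {g : Y' ⟶ Y} {g' : X' ⟶ X} {f' : X' ⟶ Y'} (sq : IsPullback g' f' f g)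
    (hg : Q g) (hs : Function.Surjective (Points.map g)) : P f ↔ P f' := by
  have := hP (ι := PUnit.{u + 1}) (fun _ => Y') (fun _ => g) hY (fun _ => hY')
    ⟨fun _ => hg, fun y => ⟨⟨⟩, hs y⟩⟩ f hX (fun _ => X') (fun _ => f') (fun _ => g')
    (fun _ => hX') (fun _ => sq)
  rw [this]
  exact ⟨fun h => h ⟨⟩, fun h _ => h⟩

/-- the largest open over which `f` has `P` -/
def largest (P : MorphismProperty (Sp S)) {X Y : Sp S} (f : X ⟶ Y) : Set (Points Y) :=
  ⋃₀ {V | IsOpen V ∧ GoodSp P f V}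

theorem isOpen_largest {X Y : Sp S} (f : X ⟶ Y) : IsOpen (largest P f) :=
  isOpen_sUnion fun _ hV => hV.1

theorem subset_largest {X Y : Sp S} (f : X ⟶ Y) {V : Set (Points Y)} (hV : IsOpen V)
    (hg : GoodSp P f V) : V ⊆ largest P f :=
  Set.subset_sUnion_of_mem ⟨hV, hg⟩

theorem goodSp_largest (hQ : CovClass Q) (hP : IsLocalOnBase (fun _ _ Y g => IsCover Q Y g) P)
    {X Y : Sp S} (hX : IsAlgSpace X) (hY : IsAlgSpace Y) (f : X ⟶ Y) :
    GoodSp P f (largest P f) := by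
  intro W₀ X₀ j₀ j₀' f₀ hW₀ hX₀ hj₀ hr sq₀
  haveI := mono_of_isOpenImmersion hj₀
  have hinj := points_map_injective_of_mono j₀
  obtain ⟨T, a, hae, has⟩ := hW₀.atlas
  have hmem : ∀ t : ↥T.left, ∃ V, (IsOpen V ∧ GoodSp P f V) ∧
      Points.map j₀ (Points.ofPt a t) ∈ V := by
    intro t
    have : Points.map j₀ (Points.ofPt a t) ∈ largest P f := by
      rw [← hr]; exact ⟨_, rfl⟩
    obtain ⟨V, hV, hVm⟩ := this
    exact ⟨V, hV, hVm⟩
  choose V hV hVm using hmem
  have hjV : ∀ t, RepWith @IsOpenImmersion (openSubι Y (V t)) := fun t =>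
    repWith_isOpenImmersion_openSubι Y (V t) (hV t).1
  have hWV : ∀ t, IsAlgSpace (openSub Y (V t)) := fun t => isAlgSpace_openSub Y hY (V t) (hV t).1
  have hfac : ∀ t, ∃ i : openSub Y (V t) ⟶ W₀, i ≫ j₀ = openSubι Y (V t) := by
    intro t
    refine Groth.Agent.S10194.exists_factor j₀ hj₀ (openSubι Y (V t)) ?_
    rw [range_map_openSubι, hr]
    exact subset_largest f (hV t).1 (hV t).2
  choose i hi using hfac
  have hQi : ∀ t, Q (i t) := fun t =>
    hQ.cancel (hWV t) hW₀ hY (i t) j₀ hj₀ (by rw [hi t]; exact hQ.ofOpenImm (hWV t) hY _ (hjV t))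
  have hXt : ∀ t, IsAlgSpace (pullback f₀ (i t)) := fun t =>
    Groth.Agent.Lib.Helper23.AlgSpMor.isAlgSpace_of_isPullback hX₀ (hWV t) hW₀.diag
      (IsPullback.of_hasPullback _ _)
  have hPt : ∀ t, P (pullback.snd f₀ (i t)) := by
    intro t
    have big : IsPullback (pullback.fst f₀ (i t) ≫ j₀') (pullback.snd f₀ (i t)) f (i t ≫ j₀) :=
      (IsPullback.of_hasPullback f₀ (i t)).paste_horiz sq₀
    rw [hi t] at big
    exact (hV t).2 _ _ _ _ _ (hWV t) (hXt t) (hjV t) (range_map_openSubι Y (V t)) big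
  refine (hP (fun t => openSub Y (V t)) i hW₀ hWV ⟨hQi, fun w₀ => ?_⟩ f₀ hX₀
    (fun t => pullback f₀ (i t)) (fun t => pullback.snd _ _) (fun t => pullback.fst _ _) hXt
    (fun t => IsPullback.of_hasPullback _ _)).mpr hPt
  obtain ⟨t, rfl⟩ := ofPt_surjective a has w₀
  have : Points.map j₀ (Points.ofPt a t) ∈ Set.range (Points.map (openSubι Y (V t))) := by
    rw [range_map_openSubι]; exact hVm t
  obtain ⟨w, hw⟩ := this
  refine ⟨t, w, hinj ?_⟩
  rw [← Points.map_comp, hi t, hw]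

theorem range_subset_largest (hQ : CovClass Q)
    (hP : IsLocalOnBase (fun _ _ Y g => IsCover Q Y g) P)
    {X Y X' Y' : Sp S} (hX : IsAlgSpace X) (hY : IsAlgSpace Y) (hX' : IsAlgSpace X')
    (hY' : IsAlgSpace Y') {f : X ⟶ Y} {g : Y' ⟶ Y} {g' : X' ⟶ X} {f' : X' ⟶ Y'}
    (hg : Q g) (sq : IsPullback g' f' f g) (hf' : P f') :
    Set.range (Points.map g) ⊆ largest P f := by
  have hopen : IsOpen (Set.range (Points.map g)) := by
    rw [← Set.image_univ]
    exact hQ.isOpenMap hY' hY g hg _ isOpen_univ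
  refine subset_largest f hopen ?_
  intro W₁ X₁ j₁ j₁' f₁ hW₁ hX₁ hj₁ hr sq₁
  haveI := mono_of_isOpenImmersion hj₁
  have hinj := points_map_injective_of_mono j₁
  obtain ⟨g₁, hg₁⟩ := Groth.Agent.S10194.exists_factor j₁ hj₁ g (by rw [hr])
  have hQg₁ : Q g₁ := hQ.cancel hY' hW₁ hY g₁ j₁ hj₁ (by rw [hg₁]; exact hg)
  have hs : Function.Surjective (Points.map g₁) := by
    intro w
    have : Points.map j₁ w ∈ Set.range (Points.map g) := by rw [← hr]; exact ⟨w, rfl⟩
    obtain ⟨y', hy'⟩ := this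
    refine ⟨y', hinj ?_⟩
    rw [← Points.map_comp, hg₁, hy']
  rw [← hg₁] at sq
  obtain ⟨k, -, sqk⟩ := exists_isPullback_lift sq sq₁
  exact (iff_of_single hP hX₁ hW₁ hX' hY' sqk hQg₁ hs).mpr hf'

theorem largest_baseChange (hQ : CovClass Q)
    (hP : IsLocalOnBase (fun _ _ Y g => IsCover Q Y g) P)
    {X Y X' Y' : Sp S} (hX : IsAlgSpace X) (hY : IsAlgSpace Y) (hX' : IsAlgSpace X')
    (hY' : IsAlgSpace Y') {f : X ⟶ Y} {g : Y' ⟶ Y} {g' : X' ⟶ X} {f' : X' ⟶ Y'}
    (hg : Q g) (sq : IsPullback g' f' f g) (W' : Set (Points Y')) (hW'o : IsOpen W')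
    (hW'g : GoodSp P f' W') (hW'm : ∀ V', IsOpen V' → GoodSp P f' V' → V' ⊆ W') :
    W' = Points.map g ⁻¹' largest P f := by
  apply Set.Subset.antisymm
  · -- `g(W') ⊆ W(f)`
    have hj₂ := repWith_isOpenImmersion_openSubι Y' W' hW'o
    have hW₂ := isAlgSpace_openSub Y' hY' W' hW'o
    have hX₂ : IsAlgSpace (pullback f' (openSubι Y' W')) :=
      Groth.Agent.Lib.Helper23.AlgSpMor.isAlgSpace_of_isPullback hX' hW₂ hY'.diag
        (IsPullback.of_hasPullback _ _)
    have hP₂ : P (pullback.snd f' (openSubι Y' W')) :=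
      hW'g _ _ _ _ _ hW₂ hX₂ hj₂ (range_map_openSubι Y' W') (IsPullback.of_hasPullback _ _)
    have hQ₂ : Q (openSubι Y' W' ≫ g) :=
      hQ.comp hW₂ hY' hY _ _ (hQ.ofOpenImm hW₂ hY' _ hj₂) hg
    have big := (IsPullback.of_hasPullback f' (openSubι Y' W')).paste_horiz sq
    have hsub := range_subset_largest hQ hP hX hY hX₂ hW₂ hQ₂ big hP₂
    intro y' hy'
    rw [← range_map_openSubι Y' W'] at hy'
    obtain ⟨w, rfl⟩ := hy'
    exact hsub ⟨w, Points.map_comp _ _ w⟩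
  · -- `g⁻¹(W(f))` is good for `f'`
    refine hW'm _ ((isOpen_largest f).preimage (Points.continuous_map g)) ?_
    intro W₂ X₂ j₂ j₂' f₂ hW₂ hX₂ hj₂ hr sq₂
    have hj₀ := repWith_isOpenImmersion_openSubι Y (largest P f) (isOpen_largest f)
    have hW₀ := isAlgSpace_openSub Y hY (largest P f) (isOpen_largest f)
    have hX₀ : IsAlgSpace (pullback f (openSubι Y (largest P f))) :=
      Groth.Agent.Lib.Helper23.AlgSpMor.isAlgSpace_of_isPullback hX hW₀ hY.diag
        (IsPullback.of_hasPullback _ _)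
    have hP₀ : P (pullback.snd f (openSubι Y (largest P f))) :=
      goodSp_largest hQ hP hX hY f _ _ _ _ _ hW₀ hX₀ hj₀ (range_map_openSubι Y _)
        (IsPullback.of_hasPullback _ _)
    obtain ⟨g₂, hg₂⟩ := Groth.Agent.S10194.exists_factor (openSubι Y (largest P f)) hj₀ (j₂ ≫ g) (by
      rintro _ ⟨w, rfl⟩
      rw [range_map_openSubι, Points.map_comp]
      have : Points.map j₂ w ∈ Points.map g ⁻¹' largest P f := by rw [← hr]; exact ⟨w, rfl⟩
      exact this)
    have hQg₂ : Q g₂ := hQ.cancel hW₂ hW₀ hY g₂ _ hj₀ (by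
      rw [hg₂]; exact hQ.comp hW₂ hY' hY _ _ (hQ.ofOpenImm hW₂ hY' _ hj₂) hg)
    have big := sq₂.paste_horiz sq
    rw [← hg₂] at big
    obtain ⟨k, -, sqk⟩ := exists_isPullback_lift big (IsPullback.of_hasPullback f _)
    exact baseChange_of_localOnBase hP hX₀ hW₀ hX₂ hW₂ sqk hQg₂ (hQ.id hW₀) hP₀

/-! ### the statement for bundled algebraic spaces -/

/-- `f` has `P` over the open `V`, for bundled algebraic spaces -/
def GoodSpace (P : MorphismProperty (Sp S)) {X Y : Space S} (f : X ⟶ Y)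
    (V : TopologicalSpace.Opens (Points Y.obj)) : Prop :=
  ∀ (W₁ X₁ : Space S) (j₁ : W₁ ⟶ Y) (j₁' : X₁ ⟶ X) (f₁ : X₁ ⟶ W₁),
    RepWith @IsOpenImmersion j₁.hom → Set.range (Points.map j₁.hom) = (V : Set (Points Y.obj)) →
    IsPullback j₁'.hom f₁.hom f.hom j₁.hom → P f₁.hom

theorem goodSpace_iff {X Y : Space S} (f : X ⟶ Y) (V : TopologicalSpace.Opens (Points Y.obj)) :
    GoodSpace P f V ↔ GoodSp P f.hom (V : Set (Points Y.obj)) := by
  constructor
  · intro h W₁ X₁ j₁ j₁' f₁ hW₁ hX₁ hj hr sq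
    exact h ⟨W₁, hW₁⟩ ⟨X₁, hX₁⟩ (ObjectProperty.homMk j₁) (ObjectProperty.homMk j₁')
      (ObjectProperty.homMk f₁) hj hr sq
  · intro h W₁ X₁ j₁ j₁' f₁ hj hr sq
    exact h _ _ _ _ _ W₁.property X₁.property hj hr sq

theorem exists_largest (hQ : CovClass Q) (hP : IsLocalOnBase (fun _ _ Y g => IsCover Q Y g) P)
    {X Y : Space S} (f : X ⟶ Y) :
    ∃ W : TopologicalSpace.Opens (Points Y.obj),
      GoodSpace P f W ∧ (∀ V, GoodSpace P f V → V ≤ W) ∧
      (∀ (Y' X' : Space S) (g : Y' ⟶ Y) (g' : X' ⟶ X) (f' : X' ⟶ Y'), Q g.hom →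
        IsPullback g'.hom f'.hom f.hom g.hom → P f'.hom →
        Set.range (Points.map g.hom) ⊆ (W : Set (Points Y.obj))) ∧
      (∀ (Y' X' : Space S) (g : Y' ⟶ Y) (g' : X' ⟶ X) (f' : X' ⟶ Y'), Q g.hom →
        IsPullback g'.hom f'.hom f.hom g.hom →
        ∀ W' : TopologicalSpace.Opens (Points Y'.obj), GoodSpace P f' W' →
          (∀ V', GoodSpace P f' V' → V' ≤ W') →
          (W' : Set (Points Y'.obj)) = Points.map g.hom ⁻¹' (W : Set (Points Y.obj))) := by
  refine ⟨⟨largest P f.hom, isOpen_largest f.hom⟩, ?_, ?_, ?_, ?_⟩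
  · exact (goodSpace_iff f _).mpr (goodSp_largest hQ hP X.property Y.property f.hom)
  · intro V hV
    exact subset_largest f.hom V.isOpen ((goodSpace_iff f V).mp hV)
  · intro Y' X' g g' f' hg sq hf'
    exact range_subset_largest hQ hP X.property Y.property X'.property Y'.property hg sq hf'
  · intro Y' X' g g' f' hg sq W' hW'g hW'm
    exact largest_baseChange hQ hP X.property Y.property X'.property Y'.property hg sq
      (W' : Set (Points Y'.obj)) W'.isOpen ((goodSpace_iff f' W').mp hW'g)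
      (fun V' hV'o hV'g => hW'm ⟨V', hV'o⟩ ((goodSpace_iff f' ⟨V', hV'o⟩).mpr hV'g))

/-! ### the covering classes -/

theorem isEtaleMor_of_isOpenImmersion {X Y : Sp S} (j : X ⟶ Y) (hj : RepWith @IsOpenImmersion j) :
    IsEtaleMor j := fun _ φ hφ =>
  (RepWith @Etale).comp_mem _ _ hφ (repWith_etale_of_isOpenImmersion hj)

theorem covClass_smooth : CovClass (LocP @Smooth : MorphismProperty (Sp S)) where
  ofOpenImm _ _ _ _ j hj := sm_of_isEtaleMor j (isEtaleMor_of_isOpenImmersion j hj)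
  id X _ := sm_id X
  baseChange _ _ _ _ hX hY hX' hY' _ _ _ _ sq hf := sm_baseChange hX hY hX' hY' sq hf
  comp _ _ _ hX hY hZ f g hf hg := sm_comp hX hY hZ f g hf hg
  isOpenMap _ _ hX hY f hf :=
    Groth.Agent.Lib.Helper5.FppfSource.isOpenMap_points_of_locP
      (fun _ _ h hh => by haveI : Smooth h := hh; exact h.isOpenMap) hX hY f hf

theorem covClass_etale : CovClass (IsEtaleMor : MorphismProperty (Sp S)) where
  ofOpenImm _ _ _ _ j hj := isEtaleMor_of_isOpenImmersion j hj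
  id X _ := isEtaleMor_id X
  baseChange _ _ _ _ hX hY hX' hY' _ _ _ _ sq hf := isEtaleMor_baseChange hX hY hX' hY' sq hf
  comp _ _ _ _ _ _ f g hf hg := isEtaleMor_comp f g hf hg
  isOpenMap _ _ hX hY f hf :=
    Groth.Agent.Lib.Helper5.FppfSource.isOpenMap_points_of_locP
      (fun _ _ h hh => by haveI : Etale h := hh; exact h.isOpenMap) hX hY f
      (Groth.Agent.Lib.Helper30.AlgSpEtaleMor.locP_etale_of_isEtaleMor f hf)

theorem covClass_fppf : CovClass (fun _ _ f => LocP @Flat f ∧ LocP @LocallyOfFinitePresentation f :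
    MorphismProperty (Sp S)) where
  ofOpenImm _ _ _ _ j hj := by
    have h := Groth.Agent.Lib.Helper30.AlgSpEtaleMor.locP_etale_of_isEtaleMor j
      (isEtaleMor_of_isOpenImmersion j hj)
    exact ⟨fun _ _ a b k ha hb w => by haveI : Etale k.left := h a b k ha hb w; infer_instance,
      fun _ _ a b k ha hb w => by haveI : Etale k.left := h a b k ha hb w; infer_instance⟩
  id X _ := by
    have h := Groth.Agent.Lib.Helper30.AlgSpEtaleMor.locP_etale_of_isEtaleMor _ (isEtaleMor_id X)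
    exact ⟨fun _ _ a b k ha hb w => by haveI : Etale k.left := h a b k ha hb w; infer_instance,
      fun _ _ a b k ha hb w => by haveI : Etale k.left := h a b k ha hb w; infer_instance⟩
  baseChange _ _ _ _ hX hY hX' hY' _ _ _ _ sq hf :=
    ⟨LocPChart.locP_of_isPullback etLocal_flat hX hY hX' hY' sq hf.1,
      LocPChart.locP_of_isPullback Groth.Agent.Lib.Helper30.EtLocalInst.etLocal_lfp hX hY hX' hY' sq
        hf.2⟩
  comp _ _ _ hX hY hZ f g hf hg :=
    ⟨LocPChart.locP_comp etLocal_flat hX hY hZ f g hf.1 hg.1,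
      LocPChart.locP_comp Groth.Agent.Lib.Helper30.EtLocalInst.etLocal_lfp hX hY hZ f g hf.2 hg.2⟩
  isOpenMap _ _ hX hY f hf :=
    Groth.Agent.Lib.Helper5.FppfSource.isOpenMap_points_of_flat_lfp hX hY f hf.1 hf.2

end Groth.Agent.Lib.Helper46.LargestOpen
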