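import Groth.Agent.Lib.Helper46.IsoFpqc
import Groth.Agent.Lib.Helper46.LargestOpen
import Groth.Agent.Lib.Helper36.OpenSubspace
import Groth.Agent.S10194

/-!
# Open immersions of algebraic spaces are fpqc local on the base (helper46)

If all base changes `p i : Xi i ⟶ Yi i` of `f : X ⟶ Y` along an fpqc covering are open immersions,
then `f` is etale (by descent), so its image `W ⊆ |Y|` is open; `f` factors through the open subspace
`Y' ⊆ Y` with points `W`, and `X ⟶ Y'` is an isomorphism because it is so after base change to the
fpqc covering `Yi i ×_Y Y'` of `Y'`.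
-/

set_option autoImplicit false
universe u
open CategoryTheory CategoryTheory.Limits AlgebraicGeometry Opposite

namespace Groth.Agent.Lib.Helper46.OpenImmFpqc

open AlgSp Groth.Agent.Lib.Helper46 Groth.Agent.Lib.Helper46.FpqcDiag
open Groth.Agent.Lib.Helper46.RepFpqc Groth.Agent.Lib.Helper46.RepIso
open Groth.Agent.Lib.Helper46.IsoFpqc
open Groth.Agent.Lib.Helper23.AlgSpMor Groth.Agent.Lib.Helper37.AlgSpPoints
open Groth.Agent.Lib.Helper36.OpenSubspace

variable {S : Scheme.{u}}

/-- a surjective open immersion of sheaves is an isomorphism -/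
theorem isIso_of_isOpenImmersion_of_surjective {F G : Sp S} (h : F ⟶ G)
    (hh : RepWith @IsOpenImmersion h) (hs : IsSurjectiveMor h) : IsIso h := by
  apply isIso_of_repWith_isomorphisms
  have hs' := repWith_surjective_of_isSurjectiveMor h hh.rep hs
  refine ⟨hh.rep, fun U V g fst snd sq => ?_⟩
  have h1 : IsOpenImmersion snd.left := hh.property g fst snd sq
  have h2 : Surjective snd.left := hs'.property g fst snd sq
  change IsIso snd.left
  exact (isIso_iff_isOpenImmersion_and_surjective _).2 ⟨h1, h2⟩

theorem locP_etale_of_isOpenImmersion {X Y : Sp S} (j : X ⟶ Y) (hj : RepWith @IsOpenImmersion j) :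
    LocP @Etale j :=
  Groth.Agent.Lib.Helper30.AlgSpEtaleMor.locP_etale_of_isEtaleMor j
    (LargestOpen.isEtaleMor_of_isOpenImmersion j hj)

/-- open immersions of algebraic spaces are fpqc local on the base -/
theorem isLocalOnBase_isOpenImmersion :
    IsLocalOnBase (IsFpqcCover (S := S)) (RepWith @IsOpenImmersion) := by
  intro ι Y Yi g hY hYi hcov X f hX Xi p q hXi hsq
  constructor
  · intro hf i
    exact (RepWith (S := S) @IsOpenImmersion).of_isPullback (hsq i) hf
  · intro hp
    -- `f` is etale, so open on points
    have hfe : LocP @Etale f :=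
      (LocPFpqc.isLocalOnBase_fpqc_locP Groth.Agent.Lib.Helper30.EtLocalInst.etLocal_etale
        Yi g hY hYi hcov f hX Xi p q hXi hsq).2
        (fun i => locP_etale_of_isOpenImmersion (p i) (hp i))
    have hopen : IsOpenMap (Points.map f) :=
      Groth.Agent.Lib.Helper5.FppfSource.isOpenMap_points_of_locP
        (fun _ _ h hh => by haveI : Etale h := hh; exact h.isOpenMap) hX hY f hfe
    have hW : IsOpen (Set.range (Points.map f)) := hopen.isOpen_range
    set W := Set.range (Points.map f) with hWdef
    -- the open subspace
    have hι : RepWith @IsOpenImmersion (openSubι Y W) := repWith_isOpenImmersion_openSubι Y W hW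
    have hY' : IsAlgSpace (openSub Y W) := isAlgSpace_openSub Y hY W hW
    have hrange : Set.range (Points.map (openSubι Y W)) = W := range_map_openSubι Y W
    haveI hιmono : Mono (openSubι Y W) :=
      Groth.Agent.Lib.Helper30.LocPNbhd.mono_of_isOpenImmersion hι
    obtain ⟨f', hf'⟩ := Groth.Agent.S10194.exists_factor (openSubι Y W) hι f (by rw [hrange])
    -- the covering of the open subspace
    have sqY : ∀ i, IsPullback (pullback.fst (openSubι Y W) (g i))
        (pullback.snd (openSubι Y W) (g i)) (openSubι Y W) (g i) :=
      fun i => IsPullback.of_hasPullback _ _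
    have hY'i : ∀ i, IsAlgSpace (pullback (openSubι Y W) (g i)) := fun i =>
      isAlgSpace_of_isPullback hY' (hYi i) hY.diag (sqY i)
    have hcov' : IsFpqcCover (fun i => pullback (openSubι Y W) (g i))
        (fun i => pullback.fst (openSubι Y W) (g i)) := by
      refine ⟨fun i => ?_, ?_⟩
      · exact LocPChart.locP_of_isPullback etLocal_flat (hYi i) hY (hY'i i) hY' (sqY i).flip
          (hcov.1 i)
      · exact HasRefinement.baseChange (hasRefinement_of_isFpqcCover hcov) (openSubι Y W) _ _ _
          (fun i => sqY i)
    -- the base changes of `f'`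
    have w : ∀ i, (q i ≫ f') ≫ openSubι Y W = p i ≫ g i := fun i => by
      rw [Category.assoc, hf', (hsq i).w]
    let r : ∀ i, Xi i ⟶ pullback (openSubι Y W) (g i) := fun i =>
      pullback.lift (q i ≫ f') (p i) (w i)
    have hr1 : ∀ i, r i ≫ pullback.fst (openSubι Y W) (g i) = q i ≫ f' :=
      fun i => pullback.lift_fst _ _ _
    have hr2 : ∀ i, r i ≫ pullback.snd (openSubι Y W) (g i) = p i :=
      fun i => pullback.lift_snd _ _ _
    have sqX : ∀ i, IsPullback (q i) (r i) f' (pullback.fst (openSubι Y W) (g i)) := by
      intro i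
      refine IsPullback.of_bot ?_ (hr1 i).symm (sqY i)
      rw [hr2, hf']
      exact hsq i
    have hriso : ∀ i, IsIso (r i) := by
      intro i
      haveI : Mono (pullback.snd (openSubι Y W) (g i)) := inferInstance
      have hro : RepWith @IsOpenImmersion (r i) := by
        refine repWith_of_comp_mono _ (r i) (pullback.snd (openSubι Y W) (g i)) ?_
        rw [hr2]
        exact hp i
      refine isIso_of_isOpenImmersion_of_surjective (r i) hro fun y' => ?_
      -- the point of `Yi i` under `y'` lies over `W`
      have hy'W : Points.map (g i) (Points.map (pullback.snd (openSubι Y W) (g i)) y') ∈ W := by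
        have h0 : Points.map (openSubι Y W)
            (Points.map (pullback.fst (openSubι Y W) (g i)) y') ∈
            Set.range (Points.map (openSubι Y W)) := ⟨_, rfl⟩
        rw [hrange, ← Points.map_comp, pullback.condition, Points.map_comp] at h0
        exact h0
      obtain ⟨x, hx⟩ := hy'W
      obtain ⟨xi, -, hxi⟩ := points_exists_of_isPullback (hsq i) x
        (Points.map (pullback.snd (openSubι Y W) (g i)) y') hx
      refine ⟨xi, ?_⟩
      apply Groth.Agent.Lib.Helper30.LocPNbhd.points_map_injective_of_mono
        (pullback.snd (openSubι Y W) (g i))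
      rw [← Points.map_comp, hr2, hxi]
    have hiso : IsIso f' :=
      (isLocalOnBase_isomorphisms _ _ hY' hY'i hcov' f' hX Xi r q hXi sqX).2 hriso
    rw [← hf']
    exact ((RepWith (S := S) @IsOpenImmersion).cancel_left_of_respectsIso f' (openSubι Y W)).2 hι

end Groth.Agent.Lib.Helper46.OpenImmFpqc
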