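import Groth.Agent.Lib.Helper46.RepFpqc
import Groth.Agent.Lib.Helper62.AlgSpMono

/-!
# Morphisms of sheaves representable by isomorphisms, and fpqc descent of monomorphisms (helper46)
-/

set_option autoImplicit false
universe u
open CategoryTheory CategoryTheory.Limits AlgebraicGeometry Opposite

namespace Groth.Agent.Lib.Helper46.RepIso

open AlgSp Groth.Agent.Lib.Helper46 Groth.Agent.Lib.Helper46.FpqcDiag
open Groth.Agent.Lib.Helper46.RepFpqc

variable {S : Scheme.{u}}

/-- an isomorphism of sheaves is representable with any property satisfied by isomorphisms -/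
theorem repWith_of_isIso (P : MorphismProperty Scheme.{u}) [P.ContainsIdentities] [P.RespectsIso]
    {F G : Sp S} (h : F ⟶ G) [IsIso h] : RepWith P h := by
  refine (repWith_iff P h).2 ⟨Functor.relativelyRepresentable.of_isIso _ h, ?_⟩
  intro U V g fst snd sq
  have h1 : IsIso ((yon S).map snd) := sq.isIso_snd_of_isIso
  have h2 : IsIso snd := isIso_of_fully_faithful (yon S) snd
  have h3 : IsIso snd.left := (Over.forget S).map_isIso snd
  exact P.of_isIso snd.left

/-- a morphism of sheaves representable by isomorphisms of schemes is an isomorphism -/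
theorem isIso_of_repWith_isomorphisms {F G : Sp S} (h : F ⟶ G)
    (hh : RepWith (MorphismProperty.isomorphisms Scheme.{u}) h) : IsIso h := by
  have hmono : Mono h := Groth.Agent.Lib.Helper62.mono_of_repWith _
    (fun f hf => by have : IsIso f := hf; infer_instance) h hh
  have hepi : Epi h := by
    suffices hE : Epi h.hom from Sheaf.Hom.epi_of_presheaf_epi _ _ h
    rw [NatTrans.epi_iff_epi_app]
    intro T
    rw [epi_iff_surjective]
    intro y
    obtain ⟨T⟩ := T
    let t : (yon S).obj T ⟶ G := (J S).uliftYonedaEquiv.symm y
    obtain ⟨V, snd, fst, sq⟩ := hh.rep t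
    have h3 : IsIso snd.left := hh.property t fst snd sq
    have h2 : IsIso snd := by
      have : IsIso ((Over.forget S).map snd) := h3
      exact isIso_of_reflects_iso snd (Over.forget S)
    refine ⟨(J S).uliftYonedaEquiv ((yon S).map (inv snd) ≫ fst), ?_⟩
    have e : ((yon S).map (inv snd) ≫ fst) ≫ h = t := by
      rw [Category.assoc, sq.w, ← Category.assoc, ← Functor.map_comp, IsIso.inv_hom_id,
        CategoryTheory.Functor.map_id, Category.id_comp]
    have := (J S).uliftYonedaEquiv_comp ((yon S).map (inv snd) ≫ fst) h
    rw [e] at this
    rw [← this]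
    exact Equiv.apply_symm_apply _ y
  exact isIso_of_mono_of_epi h

/-- monomorphisms of algebraic spaces are fpqc local on the base -/
theorem isLocalOnBase_monomorphisms :
    IsLocalOnBase (IsFpqcCover (S := S)) (MorphismProperty.monomorphisms (Sp S)) := by
  intro ι Y Yi g hY hYi hcov X f hX Xi p q hXi hsq
  have key := isLocalOnBase_diagonal_repWith (S := S) (MorphismProperty.isomorphisms Scheme.{u})
    Yi g hY hYi hcov f hX Xi p q hXi hsq
  constructor
  · intro hf i
    exact (MorphismProperty.monomorphisms (Sp S)).of_isPullback (hsq i) hf
  · intro hp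
    have h1 : ∀ i, RepWith (MorphismProperty.isomorphisms Scheme.{u}) (pullback.diagonal (p i)) := by
      intro i
      have : Mono (p i) := hp i
      exact repWith_of_isIso _ _
    have h2 : IsIso (pullback.diagonal f) := isIso_of_repWith_isomorphisms _ (key.2 h1)
    change Mono f
    constructor
    intro Z a b hab
    set k := pullback.lift a b hab with hk
    have e : k = (k ≫ inv (pullback.diagonal f)) ≫ pullback.diagonal f := by
      rw [Category.assoc, IsIso.inv_hom_id, Category.comp_id]
    have ea : a = k ≫ inv (pullback.diagonal f) := by
      have := congrArg (· ≫ pullback.fst f f) e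
      simpa only [hk, Category.assoc, pullback.lift_fst, pullback.diagonal_fst,
        Category.comp_id] using this
    have eb : b = k ≫ inv (pullback.diagonal f) := by
      have := congrArg (· ≫ pullback.snd f f) e
      simpa only [hk, Category.assoc, pullback.lift_snd, pullback.diagonal_snd,
        Category.comp_id] using this
    rw [ea, ← eb]

end Groth.Agent.Lib.Helper46.RepIso
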