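import Mathlib

set_option autoImplicit false
universe u
open CategoryTheory Limits AlgebraicGeometry

namespace Groth.Agent.Lib.Helper46

/-- The closed immersion defined by an ideal sheaf of finite type is locally of finite
presentation. -/
theorem locallyOfFinitePresentation_subschemeι {X : Scheme.{u}} (J : X.IdealSheafData)
    (hJ : ∀ U : X.affineOpens, (J.ideal U).FG) : LocallyOfFinitePresentation J.subschemeι := by
  rw [HasRingHomProperty.iff_appLE (P := @LocallyOfFinitePresentation)]
  intro U V e
  have hW : IsAffineOpen (J.subschemeι ⁻¹ᵁ U.1) := U.2.preimage J.subschemeι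
  have h1 : (J.subschemeι.app U.1).hom.FinitePresentation := by
    refine RingHom.FinitePresentation.of_surjective _ (J.subschemeι_app_surjective U) ?_
    rw [J.ker_subschemeι_app U]
    exact hJ U
  have h2 : ((𝟙 J.subscheme : J.subscheme ⟶ J.subscheme).appLE (J.subschemeι ⁻¹ᵁ U.1) V.1
      (by simpa using e)).hom.FinitePresentation :=
    HasRingHomProperty.appLE (P := @LocallyOfFinitePresentation) (𝟙 J.subscheme) inferInstance
      ⟨_, hW⟩ V _
  have h3 : J.subschemeι.appLE U.1 V.1 e = J.subschemeι.app U.1 ≫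
      (𝟙 J.subscheme : J.subscheme ⟶ J.subscheme).appLE (J.subschemeι ⁻¹ᵁ U.1) V.1
        (by simpa using e) := by
    simp only [Scheme.Hom.appLE, Scheme.Hom.id_app, Category.id_comp]
    rfl
  rw [h3, CommRingCat.hom_comp]
  exact h2.comp h1

/-- The ideal sheaf of a closed immersion locally of finite presentation is of finite type. -/
theorem ker_ideal_fg_of_locallyOfFinitePresentation {Z X : Scheme.{u}} (i : Z ⟶ X)
    [IsClosedImmersion i] [LocallyOfFinitePresentation i] (U : X.affineOpens) :
    (i.ker.ideal U).FG := by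
  rw [Scheme.Hom.ker_apply]
  have hW : IsAffineOpen (i ⁻¹ᵁ U.1) := U.2.preimage i
  have h1 : (i.appLE U.1 (i ⁻¹ᵁ U.1) le_rfl).hom.FinitePresentation :=
    HasRingHomProperty.appLE (P := @LocallyOfFinitePresentation) i inferInstance U ⟨_, hW⟩ le_rfl
  rw [Scheme.Hom.appLE_eq_app] at h1
  have hs : Function.Surjective (i.app U.1).hom := i.app_surjective U.1 U.2
  generalize (i.app U.1).hom = φ at h1 hs
  letI := φ.toAlgebra
  have hfp : Algebra.FinitePresentation Γ(X, U.1) Γ(Z, i ⁻¹ᵁ U.1) := h1
  have := Algebra.FinitePresentation.ker_fG_of_surjective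
    (Algebra.ofId Γ(X, U.1) Γ(Z, i ⁻¹ᵁ U.1)) hs
  exact this

end Groth.Agent.Lib.Helper46
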