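import Mathlib
import Groth.Agent.Lib.Helper46.FppfModel
import Groth.Agent.S1128

/-!
# Unramified / étale descend along fppf covers of the source (ring level)
-/

set_option autoImplicit false
set_option linter.style.haveILetI false
set_option linter.unusedSimpArgs false
universe u

namespace Groth.Agent.Lib.Helper46.FppfEtale

open TensorProduct IsLocalRing

/-- Local form: unramifiedness descends along a flat local homomorphism of the source. -/
theorem formallyUnramified_of_flat_local (R A B : Type u) [CommRing R] [CommRing A] [CommRing B]
    [Algebra R A] [Algebra A B] [Algebra R B] [IsScalarTower R A B]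
    [IsLocalRing R] [IsLocalRing A] [IsLocalRing B]
    [IsLocalHom (algebraMap R A)] [IsLocalHom (algebraMap A B)] [IsLocalHom (algebraMap R B)]
    [Algebra.EssFiniteType R A] [Algebra.EssFiniteType R B] [Module.Flat A B]
    [Algebra.FormallyUnramified R B] : Algebra.FormallyUnramified R A := by
  haveI : Module.FaithfullyFlat A B := Module.FaithfullyFlat.of_flat_of_isLocalHom
  obtain ⟨hsep, hm⟩ := (Algebra.FormallyUnramified.iff_map_maximalIdeal_eq (R := R) (S := B)).1
    inferInstance
  rw [Algebra.FormallyUnramified.iff_map_maximalIdeal_eq]
  constructor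
  · haveI : IsScalarTower (ResidueField R) (ResidueField A) (ResidueField B) := by
      refine .of_algebraMap_eq' ?_
      ext x
      obtain ⟨x, rfl⟩ := IsLocalRing.residue_surjective x
      simp [IsLocalRing.ResidueField.algebraMap_eq, ← IsScalarTower.algebraMap_apply]
    exact Algebra.isSeparable_tower_bot_of_isSeparable (ResidueField R) (ResidueField A)
      (ResidueField B)
  · have h1 : ((maximalIdeal R).map (algebraMap R A)).map (algebraMap A B) = maximalIdeal B := by
      rw [Ideal.map_map, ← IsScalarTower.algebraMap_eq, hm]
    have h2 := Ideal.comap_map_eq_self_of_faithfullyFlat (B := B)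
      ((maximalIdeal R).map (algebraMap R A))
    rw [h1, IsLocalRing.maximalIdeal_comap] at h2
    exact h2.symm

/-- Unramifiedness descends along faithfully flat maps of the source (finite type case). -/
theorem formallyUnramified_of_faithfullyFlat (R A B : Type u) [CommRing R] [CommRing A]
    [CommRing B] [Algebra R A] [Algebra A B] [Algebra R B] [IsScalarTower R A B]
    [Algebra.FormallyUnramified R B] [Algebra.FiniteType R A] [Algebra.FiniteType R B]
    [Module.FaithfullyFlat A B] : Algebra.FormallyUnramified R A := by
  rw [Algebra.formallyUnramified_iff_forall]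
  intro q
  obtain ⟨Q, hQ⟩ := PrimeSpectrum.comap_surjective_of_faithfullyFlat (A := A) (B := B) q
  haveI : Q.asIdeal.LiesOver q.asIdeal := ⟨by rw [← hQ]; rfl⟩
  haveI : Q.asIdeal.LiesOver (q.asIdeal.under R) := .trans _ q.asIdeal _
  letI := Localization.AtPrime.algebraOfLiesOver (q.asIdeal.under R) q.asIdeal
  letI := Localization.AtPrime.algebraOfLiesOver q.asIdeal Q.asIdeal
  letI := Localization.AtPrime.algebraOfLiesOver (q.asIdeal.under R) Q.asIdeal
  haveI : IsLocalHom (algebraMap (Localization.AtPrime (q.asIdeal.under R))
      (Localization.AtPrime q.asIdeal)) := by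
    rw [Localization.AtPrime.IsLiesOverAlgebra.algebraMap_eq]; infer_instance
  haveI : IsLocalHom (algebraMap (Localization.AtPrime q.asIdeal)
      (Localization.AtPrime Q.asIdeal)) := by
    rw [Localization.AtPrime.IsLiesOverAlgebra.algebraMap_eq]; infer_instance
  haveI : IsLocalHom (algebraMap (Localization.AtPrime (q.asIdeal.under R))
      (Localization.AtPrime Q.asIdeal)) := by
    rw [Localization.AtPrime.IsLiesOverAlgebra.algebraMap_eq]; infer_instance
  haveI : Algebra.EssFiniteType (Localization.AtPrime (q.asIdeal.under R))
      (Localization.AtPrime q.asIdeal) := .of_comp R _ _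
  haveI : Algebra.EssFiniteType (Localization.AtPrime (q.asIdeal.under R))
      (Localization.AtPrime Q.asIdeal) := .of_comp R _ _
  haveI : Algebra.FormallyUnramified R (Localization.AtPrime Q.asIdeal) :=
    Algebra.FormallyUnramified.comp R B _
  haveI : Algebra.FormallyUnramified (Localization.AtPrime (q.asIdeal.under R))
      (Localization.AtPrime Q.asIdeal) := .of_restrictScalars R _ _
  haveI := formallyUnramified_of_flat_local (Localization.AtPrime (q.asIdeal.under R))
    (Localization.AtPrime q.asIdeal) (Localization.AtPrime Q.asIdeal)
  exact Algebra.FormallyUnramified.comp R (Localization.AtPrime (q.asIdeal.under R)) _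

/-- **Étaleness descends along fppf covers of the source** (ring level). -/
theorem etale_of_faithfullyFlat (R A B : Type u) [CommRing R] [CommRing A]
    [CommRing B] [Algebra R A] [Algebra A B] [Algebra R B] [IsScalarTower R A B]
    [Algebra.Etale R B] [Module.FaithfullyFlat A B] [Algebra.FinitePresentation A B] :
    Algebra.Etale R A := by
  haveI : Algebra.FinitePresentation R B := inferInstance
  haveI : Algebra.FinitePresentation R A :=
    Groth.Agent.Lib.Helper46.FppfModel.finitePresentation_of_faithfullyFlat (R := R) (A := A)
      (B := B)
  haveI : Module.Flat R B := Algebra.Smooth.flat R B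
  haveI : Module.Flat R A := Groth.Agent.S1128.flat_of_flat_of_faithfullyFlat R A B
  haveI : Algebra.FormallyUnramified R A := formallyUnramified_of_faithfullyFlat R A B
  exact Algebra.Etale.of_formallyUnramified_of_flat

end Groth.Agent.Lib.Helper46.FppfEtale
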