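import Mathlib
import Groth.Agent.Lib.Helper46.FppfModel
import Groth.Agent.Lib.Helper65.RegularSmooth
import Groth.Agent.S0565
import Groth.Agent.S1128

/-!
# Smoothness descends along fppf covers of the source (Stacks 05B5), ring level

`smooth_of_faithfullyFlat` : `R → A → B`, `A → B` faithfully flat of finite presentation and
`R → B` smooth imply `R → A` smooth.  Proof: finite presentation and flatness descend; smoothness of
the fibres is checked over the algebraic closure of the residue fields, where smooth = regular
(helper65 `RegularSmooth`) and regularity descends along flat local homomorphisms (`S0565`).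
-/

set_option autoImplicit false
set_option linter.style.haveILetI false
universe u

namespace Groth.Agent.Lib.Helper46.FppfSmooth

open TensorProduct IsLocalRing

/-- Smoothness descends along fppf covers of the source over a perfect field. -/
theorem smooth_of_perfectField (k A B : Type u) [Field k] [PerfectField k] [CommRing A]
    [CommRing B] [Algebra k A] [Algebra A B] [Algebra k B] [IsScalarTower k A B]
    [Algebra.Smooth k B] [Module.FaithfullyFlat A B] [Algebra.FinitePresentation A B] :
    Algebra.Smooth k A := by
  haveI : Algebra.FinitePresentation k B := inferInstance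
  haveI : Algebra.FinitePresentation k A :=
    Groth.Agent.Lib.Helper46.FppfModel.finitePresentation_of_faithfullyFlat (R := k) (A := A)
      (B := B)
  haveI : IsNoetherianRing A := Algebra.FiniteType.isNoetherianRing k A
  refine ⟨Algebra.smoothLocus_eq_univ_iff.mp (Set.eq_univ_iff_forall.mpr fun q => ?_), inferInstance⟩
  obtain ⟨Q, hQ⟩ := PrimeSpectrum.comap_surjective_of_faithfullyFlat (A := A) (B := B) q
  haveI : Q.asIdeal.LiesOver q.asIdeal := ⟨by rw [← hQ]; rfl⟩
  letI := Localization.AtPrime.algebraOfLiesOver q.asIdeal Q.asIdeal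
  -- `B_Q` is regular
  haveI : Algebra.FormallySmooth k (Localization.AtPrime Q.asIdeal) :=
    Algebra.FormallySmooth.comp k B (Localization.AtPrime Q.asIdeal)
  haveI : IsRegularLocalRing (Localization.AtPrime Q.asIdeal) :=
    Groth.Agent.Lib.Helper65.RegularSmooth.isRegularLocalRing_of_formallySmooth k _
  -- hence so is `A_q`
  haveI : IsLocalHom (algebraMap (Localization.AtPrime q.asIdeal)
      (Localization.AtPrime Q.asIdeal)) := by
    rw [Localization.AtPrime.IsLiesOverAlgebra.algebraMap_eq]
    infer_instance
  haveI : IsRegularLocalRing (Localization.AtPrime q.asIdeal) :=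
    Groth.Agent.S0565.result (Localization.AtPrime q.asIdeal) (Localization.AtPrime Q.asIdeal)
  haveI : Algebra.FiniteType (Localization.AtPrime q.asIdeal)
      (ResidueField (Localization.AtPrime q.asIdeal)) :=
    Algebra.FiniteType.of_surjective (Algebra.ofId _ _) IsLocalRing.residue_surjective
  haveI : Algebra.EssFiniteType k (ResidueField (Localization.AtPrime q.asIdeal)) :=
    Algebra.EssFiniteType.comp k (Localization.AtPrime q.asIdeal) _
  haveI : Algebra.FormallySmooth k (ResidueField (Localization.AtPrime q.asIdeal)) :=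
    inferInstance
  exact Groth.Agent.Lib.Helper65.RegularSmooth.formallySmooth_of_isRegularLocalRing k
    (Localization.AtPrime q.asIdeal)


section BC

variable (R A B T : Type u) [CommRing R] [CommRing A] [CommRing B] [CommRing T]
  [Algebra R A] [Algebra A B] [Algebra R B] [IsScalarTower R A B] [Algebra R T]

/-- The algebra structure of `B ⊗[R] T` over `A ⊗[R] T`. -/
@[instance_reducible]
noncomputable def algTT : Algebra (A ⊗[R] T) (B ⊗[R] T) :=
  (Algebra.TensorProduct.map (IsScalarTower.toAlgHom R A B) (AlgHom.id R T)).toRingHom.toAlgebra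

attribute [local instance] Algebra.TensorProduct.rightAlgebra algTT

theorem algebraMap_TT_tmul (a : A) (t : T) :
    algebraMap (A ⊗[R] T) (B ⊗[R] T) (a ⊗ₜ[R] t) = (algebraMap A B a) ⊗ₜ[R] t := by
  show Algebra.TensorProduct.map (IsScalarTower.toAlgHom R A B) (AlgHom.id R T) (a ⊗ₜ[R] t) = _
  simp

instance isScalarTower_T_TT : IsScalarTower T (A ⊗[R] T) (B ⊗[R] T) := by
  refine .of_algebraMap_eq fun t => ?_
  show (1 : B) ⊗ₜ[R] t = algebraMap (A ⊗[R] T) (B ⊗[R] T) ((1 : A) ⊗ₜ[R] t)
  rw [algebraMap_TT_tmul, map_one]

instance isScalarTower_A_TT : IsScalarTower A (A ⊗[R] T) (B ⊗[R] T) := by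
  refine .of_algebraMap_eq fun a => ?_
  show (algebraMap A B a) ⊗ₜ[R] (1 : T) = algebraMap (A ⊗[R] T) (B ⊗[R] T) (a ⊗ₜ[R] (1 : T))
  rw [algebraMap_TT_tmul]

instance isPushout_TT : Algebra.IsPushout A B (A ⊗[R] T) (B ⊗[R] T) :=
  Algebra.IsPushout.tensorProduct_tensorProduct R T A B (by
    ext t
    show algebraMap (A ⊗[R] T) (B ⊗[R] T) ((1 : A) ⊗ₜ[R] t) = (1 : B) ⊗ₜ[R] t
    rw [algebraMap_TT_tmul, map_one])

theorem faithfullyFlat_TT [Module.FaithfullyFlat A B] :
    Module.FaithfullyFlat (A ⊗[R] T) (B ⊗[R] T) := by
  have h := RingHom.FaithfullyFlat.isStableUnderBaseChange A B (A ⊗[R] T) (B ⊗[R] T)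
    ((RingHom.faithfullyFlat_algebraMap_iff).2 inferInstance)
  exact (RingHom.faithfullyFlat_algebraMap_iff).1 h

theorem finitePresentation_TT [Algebra.FinitePresentation A B] :
    Algebra.FinitePresentation (A ⊗[R] T) (B ⊗[R] T) := by
  have h := RingHom.finitePresentation_isStableUnderBaseChange A B (A ⊗[R] T) (B ⊗[R] T)
    ((RingHom.finitePresentation_algebraMap).2 inferInstance)
  exact (RingHom.finitePresentation_algebraMap).1 h

theorem smooth_TT [Algebra.Smooth R B] : Algebra.Smooth T (B ⊗[R] T) := by
  have h := RingHom.Smooth.isStableUnderBaseChange R B T (B ⊗[R] T)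
    ((RingHom.smooth_algebraMap).2 inferInstance)
  exact (RingHom.smooth_algebraMap).1 h

/-- `A ⊗[R] T ≃ T ⊗[R] A` as `T`-algebras. -/
noncomputable def commT : A ⊗[R] T ≃ₐ[T] T ⊗[R] A :=
  { Algebra.TensorProduct.comm R A T with commutes' := fun _ => rfl }


variable {R A B T}

/-- Smoothness descends along fppf covers of the source over any field. -/
theorem smooth_of_field (k A B : Type u) [Field k] [CommRing A]
    [CommRing B] [Algebra k A] [Algebra A B] [Algebra k B] [IsScalarTower k A B]
    [Algebra.Smooth k B] [Module.FaithfullyFlat A B] [Algebra.FinitePresentation A B] :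
    Algebra.Smooth k A := by
  haveI := faithfullyFlat_TT k A B (AlgebraicClosure k)
  haveI := finitePresentation_TT k A B (AlgebraicClosure k)
  haveI := smooth_TT k B (AlgebraicClosure k)
  haveI : Algebra.Smooth (AlgebraicClosure k) (A ⊗[k] AlgebraicClosure k) :=
    smooth_of_perfectField (AlgebraicClosure k) (A ⊗[k] AlgebraicClosure k)
      (B ⊗[k] AlgebraicClosure k)
  haveI : Algebra.Smooth (AlgebraicClosure k) (AlgebraicClosure k ⊗[k] A) :=
    Algebra.Smooth.of_equiv (commT k A (AlgebraicClosure k))
  exact Algebra.Smooth.of_smooth_tensorProduct_of_faithfullyFlat (AlgebraicClosure k)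

/-- **Smoothness descends along fppf covers of the source** (ring level, Stacks 05B5). -/
theorem smooth_of_faithfullyFlat (R A B : Type u) [CommRing R] [CommRing A]
    [CommRing B] [Algebra R A] [Algebra A B] [Algebra R B] [IsScalarTower R A B]
    [Algebra.Smooth R B] [Module.FaithfullyFlat A B] [Algebra.FinitePresentation A B] :
    Algebra.Smooth R A := by
  haveI : Algebra.FinitePresentation R B := inferInstance
  haveI : Algebra.FinitePresentation R A :=
    Groth.Agent.Lib.Helper46.FppfModel.finitePresentation_of_faithfullyFlat (R := R) (A := A)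
      (B := B)
  haveI : Module.Flat R B := Algebra.Smooth.flat R B
  haveI : Module.Flat R A := Groth.Agent.S1128.flat_of_flat_of_faithfullyFlat R A B
  refine Algebra.Smooth.of_formallySmooth_fiber fun p _ => ?_
  haveI := faithfullyFlat_TT R A B p.ResidueField
  haveI := finitePresentation_TT R A B p.ResidueField
  haveI := smooth_TT R B p.ResidueField
  haveI : Algebra.Smooth p.ResidueField (A ⊗[R] p.ResidueField) :=
    smooth_of_field p.ResidueField (A ⊗[R] p.ResidueField) (B ⊗[R] p.ResidueField)
  haveI : Algebra.Smooth p.ResidueField (p.ResidueField ⊗[R] A) :=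
    Algebra.Smooth.of_equiv (commT R A p.ResidueField)
  infer_instance

end BC

end Groth.Agent.Lib.Helper46.FppfSmooth
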