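import Mathlib
import Groth.Agent.Lib.Helper46.FppfSourceSch
import Groth.Agent.Lib.Helper46.FppfSmooth
import Groth.Agent.Lib.Helper46.FppfEtale

/-!
# Smooth / étale descend along fppf covers of the SOURCE (schemes; Stacks 05B5)
-/

set_option autoImplicit false
universe u
open CategoryTheory CategoryTheory.Limits AlgebraicGeometry Opposite TopologicalSpace

namespace Groth.Agent.Lib.Helper46.FppfSourceSch

theorem ringDescends_smooth : RingDescends.{u} @RingHom.Smooth := by
  intro A B C _ _ _ φ ψ hψ hψ' hsurj hQ
  let _ := φ.toAlgebra
  let _ := ψ.toAlgebra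
  let _ := (ψ.comp φ).toAlgebra
  have : IsScalarTower A B C := IsScalarTower.of_algebraMap_eq' rfl
  have : Module.Flat B C := hψ
  have : Algebra.FinitePresentation B C := hψ'
  have : Module.FaithfullyFlat B C := Module.FaithfullyFlat.of_comap_surjective hsurj
  have : Algebra.Smooth A C := hQ
  exact Groth.Agent.Lib.Helper46.FppfSmooth.smooth_of_faithfullyFlat A B C

theorem ringDescends_etale : RingDescends.{u} @RingHom.Etale := by
  intro A B C _ _ _ φ ψ hψ hψ' hsurj hQ
  let _ := φ.toAlgebra
  let _ := ψ.toAlgebra
  let _ := (ψ.comp φ).toAlgebra
  have : IsScalarTower A B C := IsScalarTower.of_algebraMap_eq' rfl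
  have : Module.Flat B C := hψ
  have : Algebra.FinitePresentation B C := hψ'
  have : Module.FaithfullyFlat B C := Module.FaithfullyFlat.of_comap_surjective hsurj
  have : Algebra.Etale A C := hQ
  exact Groth.Agent.Lib.Helper46.FppfEtale.etale_of_faithfullyFlat A B C

/-- **Smoothness descends along fppf surjections of the source** (Stacks 05B5). -/
theorem smooth_of_fppf_surjective_comp {X' X Y : Scheme.{u}} (e : X' ⟶ X)
    (f : X ⟶ Y) [Flat e] [LocallyOfFinitePresentation e] [Surjective e]
    [Smooth (e ≫ f)] : Smooth f :=
  of_fppf_surjective_comp (P := @Smooth)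
    (specDescends_of_ringDescends ringDescends_smooth) e f inferInstance

/-- **Étaleness descends along fppf surjections of the source.** -/
theorem etale_of_fppf_surjective_comp {X' X Y : Scheme.{u}} (e : X' ⟶ X)
    (f : X ⟶ Y) [Flat e] [LocallyOfFinitePresentation e] [Surjective e]
    [Etale (e ≫ f)] : Etale f :=
  of_fppf_surjective_comp (P := @Etale)
    (specDescends_of_ringDescends ringDescends_etale) e f inferInstance

/-- A property that is Zariski local at the source, stable under precomposition with `Q`-morphisms
and descends along surjective `Q`-morphisms of the source is local at the source for the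
`Q`-precoverage. -/
theorem isLocalAtSource_precoverage (Q P : MorphismProperty Scheme.{u})
    [IsZariskiLocalAtSource P] [IsZariskiLocalAtSource Q]
    (hcomp : ∀ {X' X Y : Scheme.{u}} (e : X' ⟶ X) (f : X ⟶ Y), Q e → P f → P (e ≫ f))
    (hdesc : ∀ {X' X Y : Scheme.{u}} (e : X' ⟶ X) (f : X ⟶ Y), Q e → Surjective e →
      P (e ≫ f) → P f) :
    MorphismProperty.IsLocalAtSource P (Scheme.precoverage Q) := by
  refine MorphismProperty.IsLocalAtSource.mk_of_iff fun {X Y} {f} {R} hR =>
    ⟨fun hf U g hg => ?_, fun H => ?_⟩
  · exact hcomp g f (hR.2 hg) hf
  · have hex : ∀ x : X, ∃ (U : Scheme.{u}) (g : U ⟶ X), R g ∧ x ∈ Set.range g := by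
      intro x
      have hR1 := hR.1
      rw [Scheme.jointlySurjectivePrecoverage,
        Presieve.mem_comap_jointlySurjectivePrecoverage_iff] at hR1
      obtain ⟨U, g, hg, heq⟩ := hR1 x
      exact ⟨U, g, hg, heq⟩
    choose U g hg hx using hex
    have hgQ : ∀ x, Q (g x) := fun x => hR.2 (hg x)
    let e : (∐ U) ⟶ X := Sigma.desc g
    have he1 : Q e := IsZariskiLocalAtSource.sigmaDesc (P := Q) hgQ
    have hes : Surjective e := by
      refine ⟨fun x => ?_⟩
      obtain ⟨u, hu⟩ := hx x
      refine ⟨Sigma.ι U x u, ?_⟩
      rw [← Scheme.Hom.comp_apply, Sigma.ι_desc]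
      exact hu
    have hef : P (e ≫ f) := by
      have : e ≫ f = Sigma.desc fun x => g x ≫ f := by
        apply Sigma.hom_ext
        intro x
        simp [e]
      rw [this]
      exact IsZariskiLocalAtSource.sigmaDesc (P := P) fun x => H (hg x)
    exact hdesc e f he1 hes hef

/-- **Smoothness is smooth-local on the source.** -/
theorem isLocalAtSource_smooth_smooth :
    MorphismProperty.IsLocalAtSource (@Smooth : MorphismProperty Scheme.{u})
      (Scheme.precoverage @Smooth) :=
  isLocalAtSource_precoverage _ _
    (fun e f he hf => by
      have : Smooth e := he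
      have : Smooth f := hf
      infer_instance)
    (fun e f he hs h => by
      have : Smooth e := he
      have : Surjective e := hs
      have : Smooth (e ≫ f) := h
      exact smooth_of_fppf_surjective_comp e f)

/-- **Étaleness is étale-local on the source.** -/
theorem isLocalAtSource_etale_etale :
    MorphismProperty.IsLocalAtSource (@Etale : MorphismProperty Scheme.{u})
      (Scheme.precoverage @Etale) :=
  isLocalAtSource_precoverage _ _
    (fun e f he hf => by
      have : Etale e := he
      have : Etale f := hf
      infer_instance)
    (fun e f he hs h => by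
      have : Etale e := he
      have : Surjective e := hs
      have : Etale (e ≫ f) := h
      exact etale_of_fppf_surjective_comp e f)

/-- **Étaleness is smooth-local on the source?** No (a smooth morphism is not étale); but
smoothness is étale-local on the source. -/
theorem isLocalAtSource_smooth_etale :
    MorphismProperty.IsLocalAtSource (@Smooth : MorphismProperty Scheme.{u})
      (Scheme.precoverage @Etale) :=
  isLocalAtSource_precoverage _ _
    (fun e f he hf => by
      have : Etale e := he
      have : Smooth f := hf
      infer_instance)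
    (fun e f he hs h => by
      have : Etale e := he
      have : Surjective e := hs
      have : Smooth (e ≫ f) := h
      exact smooth_of_fppf_surjective_comp e f)

end Groth.Agent.Lib.Helper46.FppfSourceSch
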