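import Groth.Agent.Lib.Helper46.RepIso
import Groth.Agent.Lib.Helper46.LocPFpqc
import Groth.Agent.Lib.Helper23.AlgSpFlatMono
import Groth.Agent.S10519

/-!
# Isomorphisms of algebraic spaces are fpqc local on the base (helper46)
-/

set_option autoImplicit false
universe u
open CategoryTheory CategoryTheory.Limits AlgebraicGeometry Opposite

namespace Groth.Agent.Lib.Helper46.IsoFpqc

open AlgSp Groth.Agent.Lib.Helper46 Groth.Agent.Lib.Helper46.FpqcDiag
open Groth.Agent.Lib.Helper46.RepFpqc Groth.Agent.Lib.Helper46.RepIso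
open Groth.Agent.Lib.Helper23.AlgSpMor

variable {S : Scheme.{u}}

/-- an isomorphism has every chart-wise property satisfied by etale morphisms -/
theorem locP_of_isIso (Q : MorphismProperty Scheme.{u})
    (hQ : ∀ {A B : Scheme.{u}} (h : A ⟶ B), Etale h → Q h) {X Y : Sp S} (f : X ⟶ Y) [IsIso f] :
    LocP Q f := by
  intro U V a b h ha hb w
  have hf : RepWith @Etale f := repWith_of_isIso _ f
  have haf : RepWith @Etale (a ≫ f) := (RepWith (S := S) @Etale).comp_mem _ _ ha hf
  exact hQ _ (Groth.Agent.Lib.Helper36.AlgSpCharts.etale_of_comp_eq (a ≫ f) b h haf hb w.symm)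

/-- an isomorphism of algebraic spaces is quasi-compact -/
theorem isQuasiCompactMor_of_isIso {X Y : Sp S} (hX : IsAlgSpace X) (hY : IsAlgSpace Y)
    (f : X ⟶ Y) [IsIso f] : IsQuasiCompactMor f := by
  intro Z Z' hZ hZq gz fst snd sq
  have : IsIso snd := sq.isIso_snd_of_isIso
  have hZ' : IsAlgSpace Z' := isAlgSpace_of_isPullback hX hZ hY.diag sq
  exact isQuasiCompactSp_of_isSurjectiveMor (inv snd) hZ' (isSurjectiveMor_of_isIso _) hZq

/-- isomorphisms of algebraic spaces are fpqc local on the base -/
theorem isLocalOnBase_isomorphisms :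
    IsLocalOnBase (IsFpqcCover (S := S)) (MorphismProperty.isomorphisms (Sp S)) := by
  intro ι Y Yi g hY hYi hcov X f hX Xi p q hXi hsq
  constructor
  · intro hf i
    have : IsIso f := hf
    exact (hsq i).isIso_snd_of_isIso
  · intro hp
    have hiso : ∀ i, IsIso (p i) := hp
    have hmono : Mono f :=
      (isLocalOnBase_monomorphisms Yi g hY hYi hcov f hX Xi p q hXi hsq).2
        (fun i => (inferInstance : Mono (p i)))
    have hqc : IsQuasiCompactMor f :=
      (Groth.Agent.S10519.result S Yi g hY hYi hcov f hX Xi p q hXi hsq).2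
        (fun i => isQuasiCompactMor_of_isIso (hXi i) (hYi i) (p i))
    have hflat : LocP @Flat f :=
      (LocPFpqc.isLocalOnBase_fpqc_locP etLocal_flat Yi g hY hYi hcov f hX Xi p q hXi hsq).2
        (fun i => locP_of_isIso @Flat (fun h hh => by haveI := hh; infer_instance) (p i))
    have hsurj : IsSurjectiveMor f := by
      have key := FpqcTop.isLocalOnBase_univSp (S := S) _ FpqcTop.isSubmersiveLocal_surjective
        Yi g hY hYi hcov f hX Xi p q hXi hsq
      have h1 : UnivSp (fun _ _ f => Function.Surjective (Points.map f)) f := by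
        refine key.2 fun i Z Z' hZ gz fst snd sq => ?_
        have : IsIso snd := sq.isIso_snd_of_isIso
        exact isSurjectiveMor_of_isIso snd
      exact h1 hY (𝟙 Y) (𝟙 X) f IsPullback.of_id_fst
    exact isIso_of_qc_flat_surjective_mono hX hY f hqc hflat hsurj

end Groth.Agent.Lib.Helper46.IsoFpqc
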