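import Mathlib
import Groth.Agent.Lib.Helper25.SmoothReduced
import Groth.Agent.Lib.Helper46.LocPChart
import Groth.Agent.Lib.Helper36.AlgSpCharts
import Groth.Agent.Lib.Helper23.AlgSpQc2
import Groth.Prelude.Def_AlgSpSub

/-!
# Reducedness of algebraic spaces along smooth / flat surjective morphisms (helper46)

* `isReduced_of_smooth` : a scheme smooth over a reduced scheme is reduced
  (uses helper25's ring-level `isReduced_of_smooth`).
* `isReduced_of_flat_of_surjective` : reducedness descends along flat surjective morphisms.
* `isReduced_of_etale_chart` : every etale chart of a reduced algebraic space is reduced.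
* `isReducedSp_of_smooth`, `isReducedSp_of_flat_surjective` : the versions for spaces.
-/

set_option autoImplicit false
universe u
open CategoryTheory CategoryTheory.Limits AlgebraicGeometry Opposite

namespace Groth.Agent.Lib.Helper46.RedDescent

/-- an affine scheme smooth over a reduced affine scheme is reduced -/
theorem isReduced_of_smooth_of_isAffine {W V : Scheme.{u}} [IsAffine W] [IsAffine V] (s : W ⟶ V)
    [hs : Smooth s] [IsReduced V] : IsReduced W := by
  rw [HasRingHomProperty.iff_of_isAffine (P := @Smooth)] at hs
  algebraize [s.appTop.hom]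
  have : _root_.IsReduced Γ(W, ⊤) := Groth.Agent.Lib.Helper25.isReduced_of_smooth Γ(V, ⊤) _
  exact isReduced_of_isAffine_isReduced W

/-- a scheme smooth over a reduced scheme is reduced -/
theorem isReduced_of_smooth {U V : Scheme.{u}} (g : U ⟶ V) [Smooth g] [IsReduced V] :
    IsReduced U := by
  have hV : ∀ j, IsReduced (V.affineCover.X j) := fun j =>
    isReduced_of_isOpenImmersion (V.affineCover.f j)
  have : ∀ j, IsReduced ((V.affineCover.pullback₁ g).X j) := by
    intro j
    have : ∀ k, IsReduced (((V.affineCover.pullback₁ g).X j).affineCover.X k) := by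
      intro k
      have := hV j
      let p : (V.affineCover.pullback₁ g).X j ⟶ V.affineCover.X j :=
        pullback.snd g (V.affineCover.f j)
      have h1 : Smooth p :=
        MorphismProperty.pullback_snd (P := @Smooth) _ _ inferInstance
      have h2 : Smooth (((V.affineCover.pullback₁ g).X j).affineCover.f k ≫ p) := inferInstance
      exact isReduced_of_smooth_of_isAffine
        (((V.affineCover.pullback₁ g).X j).affineCover.f k ≫ p)
    exact IsReduced.of_openCover _ ((V.affineCover.pullback₁ g).X j).affineCover
  exact IsReduced.of_openCover U (V.affineCover.pullback₁ g)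

/-- reducedness descends along flat surjective morphisms -/
theorem isReduced_of_flat_of_surjective {U V : Scheme.{u}} (g : U ⟶ V) [Flat g] [Surjective g]
    [IsReduced U] : IsReduced V := by
  have : ∀ v : V, _root_.IsReduced (V.presheaf.stalk v) := by
    intro v
    obtain ⟨u, rfl⟩ := g.surjective v
    algebraize [(g.stalkMap u).hom]
    have : Module.FaithfullyFlat (V.presheaf.stalk (g u)) (U.presheaf.stalk u) :=
      @Module.FaithfullyFlat.of_flat_of_isLocalHom _ _ _ _ _ _ _
        (Flat.stalkMap g u) (g.toLRSHom.prop u)
    exact isReduced_of_injective (g.stalkMap u).hom ‹RingHom.FaithfullyFlat _›.injective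
  exact isReduced_of_isReduced_stalk V

open AlgSp Groth.Agent.Lib.Helper46 Groth.Agent.Lib.Helper46.LocPChart
open Groth.Agent.Lib.Helper36.AlgSpCharts Groth.Agent.Lib.Helper23.AlgSpMor

variable {S : Scheme.{u}}

/-- every etale chart of a reduced sheaf is reduced -/
theorem isReduced_of_etale_chart {X : Sp S} (hX : IsReducedSp X) {U : Over S}
    (a : (yon S).obj U ⟶ X) (ha : RepWith @Etale a) : IsReduced U.left := by
  obtain ⟨U₀, p₀, hp₀e, hp₀s, hU₀⟩ := hX
  obtain ⟨W, p1, p2, sq⟩ := exists_isPullback_yon a p₀ hp₀e.rep
  have h2 : Etale p2.left := prop_snd_of_isPullback sq ha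
  have h1e : Etale p1.left := prop_fst_of_isPullback sq hp₀e
  have h1s : Surjective p1.left := prop_fst_of_isPullback sq hp₀s
  have hU₀' : IsReduced U₀.left := hU₀
  have hW : IsReduced W.left := isReduced_of_smooth p2.left
  exact isReduced_of_flat_of_surjective p1.left

/-- the source of a smooth morphism to a reduced algebraic space is reduced -/
theorem isReducedSp_of_smooth {X Y : Sp S} (hX : IsAlgSpace X) (hY : IsAlgSpace Y) (f : X ⟶ Y)
    (hf : LocP @Smooth f) (hYr : IsReducedSp Y) : IsReducedSp X := by
  obtain ⟨V, b, hbe, hbs, hV⟩ := hYr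
  obtain ⟨U, a, h, d, -, -, -, -, hae, comm, has⟩ := exists_chart hX hY.diag f b hbe
  have hh : Smooth h.left := hf a b h hae hbe comm
  have hV' : IsReduced V.left := hV
  exact ⟨U, a, hae, has hbs, isReduced_of_smooth h.left⟩

/-- reducedness of algebraic spaces descends along flat surjective morphisms -/
theorem isReducedSp_of_flat_surjective {X Y : Sp S} (hX : IsAlgSpace X) (hY : IsAlgSpace Y)
    (f : X ⟶ Y) (hfl : LocP @Flat f) (hs : IsSurjectiveMor f) (hXr : IsReducedSp X) :
    IsReducedSp Y := by
  obtain ⟨V, b, hbe, hbs⟩ := hY.atlas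
  obtain ⟨U, a, h, d, hde, hds, -, hd, hae, comm, -⟩ := exists_chart hX hY.diag f b hbe
  have hh : Flat h.left := hfl a b h hae hbe comm
  have hU : IsReduced U.left := isReduced_of_etale_chart hXr a hae
  have hsurj : Surjective h.left := by
    have h1 : IsSurjectiveMor (d ≫ pullback.snd f b) :=
      isSurjectiveMor_comp _ _ (isSurjectiveMor_of_repWith_surjective d hds)
        (isSurjectiveMor_of_isPullback (IsPullback.of_hasPullback f b) hs)
    rw [← hd] at h1
    exact (repWith_yon_map_iff @Surjective h).1
      (repWith_surjective_of_isSurjectiveMor _ (representable_of_yon _) h1)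
  exact ⟨V, b, hbe, hbs, isReduced_of_flat_of_surjective h.left⟩

end Groth.Agent.Lib.Helper46.RedDescent
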