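import Mathlib
import Groth.Prelude.Def_Found

set_option autoImplicit false
universe u
open IsLocalRing CategoryTheory AlgebraicGeometry

namespace Groth.Agent.Lib.Helper46.AA7202GS

theorem appLE_specMap_fromSpec {Y : Scheme.{u}} {W : Y.Opens} (hW : IsAffineOpen W)
    {A : CommRingCat.{u}} (φ : Γ(Y, W) ⟶ A)
    (e : (⊤ : (Spec A).Opens) ≤ (Spec.map φ ≫ hW.fromSpec) ⁻¹ᵁ W) :
    (Spec.map φ ≫ hW.fromSpec).appLE W ⊤ e = φ ≫ (Scheme.ΓSpecIso A).inv := by
  rw [Scheme.ΓSpecIso_inv_naturality, Scheme.Hom.comp_appLE, hW.fromSpec_app_self,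
    Category.assoc, Scheme.Hom.map_appLE]
  congr 1

theorem gs {Y : Scheme.{u}} {W : Y.Opens} (hW : IsAffineOpen W) {R' : Type u} [CommRing R']
    (g : Γ(Y, W) →+* R') (u : Spec (CommRingCat.of R'))
    (h : (Spec.map (CommRingCat.ofHom g) ≫ hW.fromSpec) u ∈ W) (t : Γ(Y, W)) :
    ((Spec.map (CommRingCat.ofHom g) ≫ hW.fromSpec).stalkMap u).hom
        ((Y.presheaf.germ W _ h).hom t) =
      ((Spec (CommRingCat.of R')).presheaf.germ ⊤ u trivial).hom
        ((Scheme.ΓSpecIso (CommRingCat.of R')).inv.hom (g t)) := by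
  obtain ⟨F, hF⟩ : ∃ F : Spec (CommRingCat.of R') ⟶ Y,
      F = Spec.map (CommRingCat.ofHom g) ≫ hW.fromSpec := ⟨_, rfl⟩
  have e : (⊤ : (Spec (CommRingCat.of R')).Opens) ≤ F ⁻¹ᵁ W := by
    intro x _
    show F.base x ∈ W
    rw [hF, Scheme.Hom.comp_apply]
    have h2 : hW.fromSpec.base ((Spec.map (CommRingCat.ofHom g)).base x) ∈
        Set.range hW.fromSpec.base := ⟨_, rfl⟩
    rw [hW.range_fromSpec] at h2
    exact h2
  have key : F.appLE W ⊤ e = CommRingCat.ofHom g ≫ (Scheme.ΓSpecIso (CommRingCat.of R')).inv := by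
    subst hF
    exact appLE_specMap_fromSpec hW _ e
  have h1 : (Scheme.ΓSpecIso (CommRingCat.of R')).inv.hom (g t) = (F.appLE W ⊤ e).hom t := by
    rw [key]; rfl
  rw [h1]
  subst hF
  rw [Scheme.Hom.appLE]
  erw [Scheme.Hom.germ_stalkMap_apply _ W u h t]
  exact (TopCat.Presheaf.germ_res_apply _ (homOfLE e) u trivial _).symm

end Groth.Agent.Lib.Helper46.AA7202GS
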