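import Groth.Agent.Lib.Helper4.QcGen.Defs
import Groth.Agent.Lib.Helper28.OverProd
import Mathlib

set_option autoImplicit false

universe u

open CategoryTheory Limits Opposite Simplicial Groth.Agent.Lib.Helper4.QcGen

namespace Groth.Agent.Lib.Helper46.QcGenA3

variable {C : Type u} [SmallCategory C] {J : GrothendieckTopology C} {S : Set (Sheaf J (Type u))}

/-- In any category with the relevant limits: the wide pullback of `n+1` copies of `f` is the
underlying object of the `(n+1)`-fold product of `Over.mk f` in the over category. -/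
noncomputable def widePullbackIso {D : Type*} [Category D] {K' T : D} (f : K' ⟶ T) (n : ℕ)
    [HasWidePullback T (fun _ : Fin (n + 1) => K') (fun _ => f)]
    [HasProduct (fun _ : Fin (n + 1) => Over.mk f)] :
    widePullback T (fun _ : Fin (n + 1) => K') (fun _ => f) ≅
      (∏ᶜ fun _ : Fin (n + 1) => Over.mk f).left :=
  let F : Discrete (Fin (n + 1)) ⥤ Over T := Discrete.functor (fun _ => Over.mk f)
  have h : IsLimit ((Over.ConstructProducts.conesEquiv T F).inverse.obj (limit.cone F)) :=
    IsLimit.ofRightAdjoint (Over.ConstructProducts.conesEquiv T F).toAdjunction (limit.isLimit F)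
  IsLimit.conePointUniqueUpToIso
    (limit.isLimit (WidePullbackShape.wideCospan T (fun _ : Fin (n + 1) => K') (fun _ => f))) h

lemma scoh_cechNerve
    (hpb : ∀ {P Z₁ Z₂ W : Sheaf J (Type u)} {fst : P ⟶ Z₁} {snd : P ⟶ Z₂} {f : Z₁ ⟶ W}
      {g : Z₂ ⟶ W}, IsPullback fst snd f g → SCoh S Z₁ → SCoh S Z₂ → SCoh S W → SCoh S P)
    {K' T : Sheaf J (Type u)} (f : K' ⟶ T) (hK' : SCoh S K') (hT : SCoh S T) (n : ℕ) :
    SCoh S ((Arrow.mk f).cechNerve.obj (op ⦋n⦌)) := by
  have hiso : ∀ {A A' : Sheaf J (Type u)}, (A ≅ A') → SCoh S A → SCoh S A' := by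
    intro A A' e hA
    have sq : IsPullback e.inv e.inv (𝟙 A) (𝟙 A) := IsPullback.of_horiz_isIso ⟨rfl⟩
    exact hpb sq hA hA hA
  have h1 : SCoh S (∏ᶜ fun _ : Fin (n + 1) => Over.mk f).left :=
    Groth.Agent.Lib.Helper28.OverProd.prod_left_mem {Z | SCoh S Z} hpb hT n
      (fun _ => Over.mk f) (fun _ => hK')
  exact hiso (widePullbackIso f n).symm h1

end Groth.Agent.Lib.Helper46.QcGenA3
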