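import Mathlib

set_option autoImplicit false
universe u

namespace Groth.Agent.Lib.Helper46.CD

/-- Spreading out a "rational point": let `φ : A → B` be of finite presentation, `K` a field
generated (as a field) by the image of `α : A → K`, and `β : B → K` with `β ∘ φ = α`. Then `β`
lifts to a ring map `B → A_s / I` for some `s` with `α s ≠ 0` and a finitely generated ideal `I`
such that `α` still factors through `A_s / I`. -/
theorem exists_section_model {A B K : Type u} [CommRing A] [CommRing B] [Field K]
    (φ : A →+* B) (hφ : φ.FinitePresentation) (α : A →+* K) (β : B →+* K)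
    (hβ : β.comp φ = α) (hK : ∀ t : K, ∃ a s : A, α s ≠ 0 ∧ t * α s = α a) :
    ∃ (s : A) (I : Ideal (Localization.Away s)) (τ : B →+* Localization.Away s ⧸ I)
      (ρ : Localization.Away s ⧸ I →+* K), I.FG ∧
      τ.comp φ = (Ideal.Quotient.mk I).comp (algebraMap A (Localization.Away s)) ∧
      ρ.comp ((Ideal.Quotient.mk I).comp (algebraMap A (Localization.Away s))) = α := by
  classical
  letI := φ.toAlgebra
  obtain ⟨n, f, hf, hker⟩ := (show Algebra.FinitePresentation A B from hφ).out
  -- denominators
  choose a d hd had using fun k : Fin n => hK (β (f (MvPolynomial.X k)))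
  let s : A := ∏ k, d k
  have hs : α s ≠ 0 := by
    simp only [s, map_prod]
    exact Finset.prod_ne_zero_iff.mpr fun k _ => hd k
  let a' : Fin n → A := fun k => a k * ∏ l ∈ Finset.univ.erase k, d l
  have ha' : ∀ k, β (f (MvPolynomial.X k)) * α s = α (a' k) := by
    intro k
    have h1 : s = d k * ∏ l ∈ Finset.univ.erase k, d l :=
      (Finset.mul_prod_erase Finset.univ d (Finset.mem_univ k)).symm
    simp only [a', map_mul]
    rw [h1, map_mul, ← mul_assoc, had k]
  let As := Localization.Away s
  have hsu : IsUnit (α s) := isUnit_iff_ne_zero.mpr hs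
  let ρ₀ : As →+* K := IsLocalization.Away.lift s hsu
  have hρ₀ : ∀ x : A, ρ₀ (algebraMap A As x) = α x := fun x => IsLocalization.Away.lift_eq s hsu x
  let u : Fin n → As := fun k => IsLocalization.mk' As (a' k) (⟨s, Submonoid.mem_powers s⟩ : Submonoid.powers s)
  have hu : ∀ k, ρ₀ (u k) = β (f (MvPolynomial.X k)) := by
    intro k
    have h1 : u k * algebraMap A As s = algebraMap A As (a' k) := by
      simp only [u]
      exact IsLocalization.mk'_spec As (a' k) (⟨s, Submonoid.mem_powers s⟩ : Submonoid.powers s)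
    have h2 := congrArg ρ₀ h1
    rw [map_mul, hρ₀, hρ₀, ← ha' k] at h2
    exact mul_right_cancel₀ hs h2
  let φ' : MvPolynomial (Fin n) A →+* As := MvPolynomial.eval₂Hom (algebraMap A As) u
  have hcomp : ρ₀.comp φ' = β.comp f.toRingHom := by
    apply MvPolynomial.ringHom_ext
    · intro x
      simp only [RingHom.comp_apply, φ', MvPolynomial.eval₂Hom_C, hρ₀]
      have : f.toRingHom (MvPolynomial.C x) = φ x := by
        change f (MvPolynomial.C x) = _
        rw [← MvPolynomial.algebraMap_eq, f.commutes]
        rfl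
      rw [this, ← hβ]
      rfl
    · intro k
      simp only [RingHom.comp_apply, φ', MvPolynomial.eval₂Hom_X']
      exact hu k
  let I : Ideal As := (RingHom.ker f.toRingHom).map φ'
  have hI : I ≤ RingHom.ker ρ₀ := by
    rw [Ideal.map_le_iff_le_comap]
    intro g hg
    rw [Ideal.mem_comap, RingHom.mem_ker, ← RingHom.comp_apply, hcomp, RingHom.comp_apply,
      (RingHom.mem_ker).mp hg, map_zero]
  have hfs : Function.Surjective f.toRingHom := hf
  have hle : RingHom.ker f.toRingHom ≤ RingHom.ker ((Ideal.Quotient.mk I).comp φ') := by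
    intro g hg
    rw [RingHom.mem_ker, RingHom.comp_apply, Ideal.Quotient.eq_zero_iff_mem]
    exact Ideal.mem_map_of_mem φ' hg
  let τ : B →+* As ⧸ I := f.toRingHom.liftOfSurjective hfs ⟨(Ideal.Quotient.mk I).comp φ', hle⟩
  have hτ : τ.comp f.toRingHom = (Ideal.Quotient.mk I).comp φ' :=
    RingHom.liftOfSurjective_comp f.toRingHom hfs ⟨(Ideal.Quotient.mk I).comp φ', hle⟩
  let ρ : As ⧸ I →+* K := Ideal.Quotient.lift I ρ₀ fun x hx => (RingHom.mem_ker).mp (hI hx)
  refine ⟨s, I, τ, ρ, Ideal.FG.map hker φ', ?_, ?_⟩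
  · ext x
    have h1 : φ x = f.toRingHom (MvPolynomial.C x) := by
      change _ = f (MvPolynomial.C x)
      rw [← MvPolynomial.algebraMap_eq, f.commutes]
      rfl
    rw [RingHom.comp_apply, h1, ← RingHom.comp_apply, hτ]
    simp only [RingHom.comp_apply, φ', MvPolynomial.eval₂Hom_C]
    rfl
  · ext x
    simp only [RingHom.comp_apply, ρ, Ideal.Quotient.lift_mk]
    exact hρ₀ x

end Groth.Agent.Lib.Helper46.CD
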