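import Mathlib
import Groth.Agent.Lib.Helper50.MonoRes

set_option autoImplicit false
universe u
open CategoryTheory AlgebraicGeometry Limits

namespace Groth.Agent.Lib.Helper46.CD

/-- The set of points of `Y` over which `f` has a point with trivial residue field extension. -/
def cdSet {X Y : Scheme.{u}} (f : X ⟶ Y) : Set Y :=
  {y | ∃ x : X, f x = y ∧ Function.Bijective (f.residueFieldMap x)}

theorem mem_cdSet_iff {X Y : Scheme.{u}} (f : X ⟶ Y) (y : Y) :
    y ∈ cdSet f ↔ ∃ x : X, f x = y ∧ Function.Bijective (f.residueFieldMap x) := Iff.rfl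

/-- A section over `z : Z ⟶ Y` produces points of `cdSet f` at all points of `Z` with trivial
residue field extension. -/
theorem mem_cdSet_of_section {X Y Z : Scheme.{u}} (f : X ⟶ Y) (z : Z ⟶ Y) (σ : Z ⟶ X)
    (h : σ ≫ f = z) (w : Z) (hw : Function.Surjective (z.residueFieldMap w)) :
    z w ∈ cdSet f := by
  subst h
  refine ⟨σ w, rfl, (f.residueFieldMap (σ w)).hom.injective, ?_⟩
  intro b
  obtain ⟨a, ha⟩ := hw ((σ.residueFieldMap w) b)
  refine ⟨a, ?_⟩
  apply (σ.residueFieldMap w).hom.injective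
  rw [Scheme.residueFieldMap_comp] at ha
  exact ha

/-- A section over a monomorphism `z : Z ⟶ Y` shows that the range of `z` lies in `cdSet f`. -/
theorem range_subset_cdSet_of_section {X Y Z : Scheme.{u}} (f : X ⟶ Y) (z : Z ⟶ Y) [Mono z]
    (σ : Z ⟶ X) (h : σ ≫ f = z) : Set.range z ⊆ cdSet f := by
  rintro _ ⟨w, rfl⟩
  exact mem_cdSet_of_section f z σ h w
    (Groth.Agent.Lib.Helper50.residueFieldMap_bijective_of_mono z w).2

/-- A point of `cdSet f` gives a section over the spectrum of its residue field. -/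
theorem exists_section_of_mem_cdSet {X Y : Scheme.{u}} (f : X ⟶ Y) {y : Y} (hy : y ∈ cdSet f) :
    ∃ σ : Spec (Y.residueField y) ⟶ X, σ ≫ f = Y.fromSpecResidueField y := by
  obtain ⟨x, rfl, hx⟩ := hy
  have : IsIso (f.residueFieldMap x) := (ConcreteCategory.isIso_iff_bijective _).mpr hx
  refine ⟨Spec.map (inv (f.residueFieldMap x)) ≫ X.fromSpecResidueField x, ?_⟩
  rw [Category.assoc, ← Scheme.Hom.SpecMap_residueFieldMap_fromSpecResidueField,
    ← Spec.map_comp_assoc, IsIso.hom_inv_id, Spec.map_id, Category.id_comp]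

/-- Conversely a section over the spectrum of the residue field gives a point of `cdSet f`. -/
theorem mem_cdSet_of_section_residueField {X Y : Scheme.{u}} (f : X ⟶ Y) (y : Y)
    (σ : Spec (Y.residueField y) ⟶ X) (h : σ ≫ f = Y.fromSpecResidueField y) : y ∈ cdSet f := by
  have h1 := range_subset_cdSet_of_section f (Y.fromSpecResidueField y) σ h
  apply h1
  rw [Scheme.range_fromSpecResidueField]
  rfl

/-- `cdSet` is compatible with base change. -/
theorem mem_cdSet_of_isPullback {P X X' Y : Scheme.{u}} {fst : P ⟶ X} {snd : P ⟶ X'} {f : X ⟶ Y}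
    {g : X' ⟶ Y} (hP : IsPullback fst snd f g) {x' : X'} (h : g x' ∈ cdSet f) :
    x' ∈ cdSet snd := by
  obtain ⟨σ, hσ⟩ := exists_section_of_mem_cdSet f h
  let c : Spec (X'.residueField x') ⟶ P :=
    hP.lift (Spec.map (g.residueFieldMap x') ≫ σ) (X'.fromSpecResidueField x') (by
      rw [Category.assoc, hσ, Scheme.Hom.SpecMap_residueFieldMap_fromSpecResidueField])
  exact mem_cdSet_of_section_residueField snd x' c (hP.lift_snd _ _ _)

theorem preimage_cdSet_subset_of_isPullback {P X X' Y : Scheme.{u}} {fst : P ⟶ X} {snd : P ⟶ X'}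
    {f : X ⟶ Y} {g : X' ⟶ Y} (hP : IsPullback fst snd f g) :
    g ⁻¹' cdSet f ⊆ cdSet snd := fun _ h => mem_cdSet_of_isPullback hP h

end Groth.Agent.Lib.Helper46.CD
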