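import Mathlib
import Groth.Agent.Lib.Helper46.CDRing
import Groth.Agent.Lib.Helper46.CDSet

set_option autoImplicit false
universe u
open CategoryTheory AlgebraicGeometry Limits

namespace Groth.Agent.Lib.Helper46.CD

/-- Spreading out: around a point of `cdSet f` (`f` locally of finite presentation) there is an
affine scheme `Z`, immersed in `Y` by a morphism of finite presentation, through the point, over
which `f` has a section. -/
theorem exists_immersion_section {X Y : Scheme.{u}} (f : X ⟶ Y) [LocallyOfFinitePresentation f]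
    {y : Y} (hy : y ∈ cdSet f) :
    ∃ (Z : Scheme.{u}) (z : Z ⟶ Y) (σ : Z ⟶ X), IsAffine Z ∧ IsImmersion z ∧
      LocallyOfFinitePresentation z ∧ σ ≫ f = z ∧ y ∈ Set.range z := by
  obtain ⟨x, rfl, hx⟩ := hy
  obtain ⟨W, hW, hxW, -⟩ := exists_isAffineOpen_mem_and_subset (x := f x) (U := ⊤) trivial
  obtain ⟨V, hV, hxV, hVW⟩ := exists_isAffineOpen_mem_and_subset (x := x) (U := f ⁻¹ᵁ W) hxW
  let K := X.residueField x
  let φ : Γ(Y, W) →+* Γ(X, V) := (f.appLE W V hVW).hom
  have hφ : φ.FinitePresentation := f.finitePresentation_appLE hW hV hVW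
  let β : Γ(X, V) →+* K := (X.evaluation V x hxV).hom
  let α : Γ(Y, W) →+* K := (Y.evaluation W (f x) hxW ≫ f.residueFieldMap x).hom
  have hβ : β.comp φ = α := by
    have h1 : f.appLE W V hVW ≫ X.evaluation V x hxV =
        Y.evaluation W (f x) hxW ≫ f.residueFieldMap x := by
      rw [Scheme.evaluation_naturality, Scheme.Hom.appLE, Category.assoc]
      congr 1
      simp only [Scheme.evaluation]
      rw [← Category.assoc, TopCat.Presheaf.germ_res]
    have h2 := congrArg CommRingCat.Hom.hom h1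
    exact h2
  have hK : ∀ t : K, ∃ a s : Γ(Y, W), α s ≠ 0 ∧ t * α s = α a := by
    intro t
    obtain ⟨t', rfl⟩ := hx.2 t
    obtain ⟨g, rfl⟩ := Y.residue_surjective (f x) t'
    letI : Algebra Γ(Y, W) (Y.presheaf.stalk (f x)) :=
      TopCat.Presheaf.algebra_section_stalk Y.presheaf ⟨f x, hxW⟩
    have hloc : IsLocalization.AtPrime (Y.presheaf.stalk (f x))
        (hW.primeIdealOf ⟨f x, hxW⟩).asIdeal := hW.isLocalization_stalk ⟨f x, hxW⟩
    obtain ⟨⟨a, s⟩, has⟩ := IsLocalization.surj (hW.primeIdealOf ⟨f x, hxW⟩).asIdeal.primeCompl g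
    have hunit : IsUnit (algebraMap Γ(Y, W) (Y.presheaf.stalk (f x)) s) :=
      IsLocalization.map_units _ s
    refine ⟨a, s, ?_, ?_⟩
    · have h3 : IsUnit (α s) := by
        have := (hunit.map (Y.residue (f x)).hom).map (f.residueFieldMap x).hom
        exact this
      exact h3.ne_zero
    · have h4 := congrArg (fun r => (f.residueFieldMap x).hom ((Y.residue (f x)).hom r)) has
      simp only [map_mul] at h4
      exact h4
  obtain ⟨s, I, τ, ρ, hI, hτ, hρ⟩ := exists_section_model φ hφ α β hβ hK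
  let As := Localization.Away s
  let ι₁ : Spec (CommRingCat.of (As ⧸ I)) ⟶ Spec (CommRingCat.of As) :=
    Spec.map (CommRingCat.ofHom (Ideal.Quotient.mk I))
  let ι₂ : Spec (CommRingCat.of As) ⟶ Spec Γ(Y, W) :=
    Spec.map (CommRingCat.ofHom (algebraMap Γ(Y, W) As))
  haveI : IsClosedImmersion ι₁ :=
    IsClosedImmersion.spec_of_surjective _ Ideal.Quotient.mk_surjective
  haveI : IsOpenImmersion ι₂ := Scheme.isOpenImmersion_SpecMap_localizationAway (R := Γ(Y, W)) s
  haveI : LocallyOfFinitePresentation ι₁ := by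
    rw [HasRingHomProperty.Spec_iff (P := @LocallyOfFinitePresentation)]
    apply RingHom.FinitePresentation.of_surjective _ Ideal.Quotient.mk_surjective
    change (RingHom.ker (Ideal.Quotient.mk I)).FG
    rw [Ideal.mk_ker]
    exact hI
  refine ⟨Spec (CommRingCat.of (As ⧸ I)), ι₁ ≫ ι₂ ≫ hW.fromSpec,
    Spec.map (CommRingCat.ofHom τ) ≫ hV.fromSpec, inferInstance, inferInstance, inferInstance,
    ?_, ?_⟩
  · rw [Category.assoc, ← IsAffineOpen.SpecMap_appLE_fromSpec f hW hV hVW, ← Spec.map_comp_assoc]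
    have h5 : f.appLE W V hVW ≫ CommRingCat.ofHom τ =
        CommRingCat.ofHom (algebraMap Γ(Y, W) As) ≫ CommRingCat.ofHom (Ideal.Quotient.mk I) := by
      ext r
      exact congrArg (fun m => m r) hτ
    rw [h5, Spec.map_comp, Category.assoc]
  · let pt : Spec (CommRingCat.of K) := default
    refine ⟨(Spec.map (CommRingCat.ofHom ρ)) pt, ?_⟩
    have h6 : Spec.map (CommRingCat.ofHom ρ) ≫ ι₁ ≫ ι₂ ≫ hW.fromSpec =
        Spec.map (f.residueFieldMap x) ≫ Y.fromSpecResidueField (f x) := by
      have h7 : CommRingCat.ofHom (algebraMap Γ(Y, W) As) ≫ CommRingCat.ofHom (Ideal.Quotient.mk I) ≫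
          CommRingCat.ofHom ρ = Y.evaluation W (f x) hxW ≫ f.residueFieldMap x := by
        ext r
        exact congrArg (fun m => m r) hρ
      simp only [ι₁, ι₂]
      rw [← Spec.map_comp_assoc, ← Spec.map_comp_assoc, h7, Spec.map_comp,
        Category.assoc]
      congr 1
      rw [Scheme.fromSpecResidueField, ← hW.fromSpecStalk_eq_fromSpecStalk hxW,
        IsAffineOpen.fromSpecStalk, ← Spec.map_comp_assoc]
      rfl
    rw [← Scheme.Hom.comp_apply, h6, Scheme.Hom.comp_apply, Scheme.fromSpecResidueField_apply]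

end Groth.Agent.Lib.Helper46.CD
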