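import Mathlib
import Groth.Agent.Lib.Helper46.CDSpread
import Groth.Agent.Lib.Helper36.ProConsScheme
import Groth.Agent.Lib.Helper36.ProConsScheme2

set_option autoImplicit false
universe u
open CategoryTheory AlgebraicGeometry Limits Topology Set
open scoped Set.Notation

namespace Groth.Agent.Lib.Helper46.CD

open Groth.Agent.Lib.Helper36

/-- A union of ind-constructible subsets of a scheme is ind-constructible. -/
theorem isIndConstructible_iUnion {X : Scheme.{u}} {ι : Sort*} {E : ι → Set X}
    (h : ∀ i, ProCons.IsIndConstructible (E i)) : ProCons.IsIndConstructible (⋃ i, E i) := by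
  apply isIndConstructible_of_forall_exists_isOpen_up
  intro x
  obtain ⟨W, hW, hxW⟩ := scheme_exists_isGoodOpen X x
  refine ⟨W, hW, hxW, ?_⟩
  have : W ↓∩ (⋃ i, E i) = ⋃ i, W ↓∩ E i := by
    ext w; simp
  rw [this, up_iUnion]
  exact isOpen_iUnion fun i => isOpen_up_of_isIndConstructible (h i) hW

/-- The range of a morphism locally of finite presentation is ind-constructible. -/
theorem isIndConstructible_range {Z Y : Scheme.{u}} (z : Z ⟶ Y) [LocallyOfFinitePresentation z] :
    ProCons.IsIndConstructible (Set.range z) := by
  rw [← Set.image_univ]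
  exact scheme_isIndConstructible_image z
    (isIndConstructible_of_isLocallyConstructible IsLocallyConstructible.univ)

/-- For `f` locally of finite presentation, `cdSet f` is ind-constructible. -/
theorem isIndConstructible_cdSet {X Y : Scheme.{u}} (f : X ⟶ Y) [LocallyOfFinitePresentation f] :
    ProCons.IsIndConstructible (cdSet f) := by
  classical
  choose Z z σ hZ hz hfp hσ hy using fun y : cdSet f => exists_immersion_section f y.2
  have : cdSet f = ⋃ y : cdSet f, Set.range (z y) := by
    apply subset_antisymm
    · intro y hy'
      exact mem_iUnion.2 ⟨⟨y, hy'⟩, hy ⟨y, hy'⟩⟩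
    · apply iUnion_subset
      intro y
      haveI := hz y
      exact range_subset_cdSet_of_section f (z y) (σ y) (hσ y)
  rw [this]
  exact isIndConstructible_iUnion fun y => by
    haveI := hfp y
    exact isIndConstructible_range (z y)

/-- Compactness: a cover of a quasi-compact scheme by ind-constructible subsets has a finite
subcover. -/
theorem exists_finset_iUnion_eq_univ {X : Scheme.{u}} [CompactSpace X] {ι : Type*}
    (E : ι → Set X) (hE : ∀ i, ProCons.IsIndConstructible (E i)) (h : ⋃ i, E i = univ) :
    ∃ J : Finset ι, ⋃ i ∈ J, E i = univ := by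
  have hemp : ProCons.IsIndConstructible (∅ : Set X) :=
    isIndConstructible_of_isLocallyConstructible IsLocallyConstructible.empty
  obtain ⟨J, hJ⟩ := scheme_exists_finset_iInter_subset X hemp (fun i => (E i)ᶜ)
    (fun i => isProConstructible_compl (hE i)) (by
      rw [← compl_iUnion, h, compl_univ])
  refine ⟨J, ?_⟩
  rw [← compl_empty_iff, ← subset_empty_iff]
  intro x hx
  apply hJ
  simp only [mem_compl_iff, mem_iUnion, not_exists] at hx
  simp only [mem_iInter, mem_compl_iff]
  intro i hi
  exact hx i hi

end Groth.Agent.Lib.Helper46.CD
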