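import Mathlib
import Groth.Agent.S9206
import Groth.Agent.Lib.Helper46.CDSet

set_option autoImplicit false
universe u
open CategoryTheory AlgebraicGeometry Limits

namespace Groth.Agent.Lib.Helper46.CD

/-- A finitely generated field extension mapping into a directed union of subfields lands in one
of them, provided the base field does. -/
theorem exists_forall_mem_of_directed {k L K : Type u} [Field k] [Field L] [Field K] (g : k →+* L)
    (hg : g.EssFiniteType) (ψ : L →+* K) {ι : Type*} [Nonempty ι] (R : ι → Subfield K)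
    (hdir : Directed (· ≤ ·) R) (h1 : ∀ i a, ψ (g a) ∈ R i) (h2 : ∀ t : L, ∃ i, ψ t ∈ R i) :
    ∃ i, ∀ t : L, ψ t ∈ R i := by
  classical
  algebraize [g]
  obtain ⟨s, hs⟩ := IntermediateField.fg_top k L
  choose j hj using h2
  obtain ⟨i, hi⟩ := hdir.finset_le (s.image j)
  refine ⟨i, fun t => ?_⟩
  let M : IntermediateField k L := Subfield.toIntermediateField ((R i).comap ψ) (fun a => h1 i a)
  have hM : IntermediateField.adjoin k (s : Set L) ≤ M := by
    rw [IntermediateField.adjoin_le_iff]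
    intro t ht
    exact hi (j t) (Finset.mem_image_of_mem j ht) (hj t)
  rw [hs] at hM
  exact hM (IntermediateField.mem_top)

end Groth.Agent.Lib.Helper46.CD

namespace Groth.Agent.Lib.Helper46.CD

/-- Lemma C: a section of `f₀` over the residue field of a point `y` of a cofiltered limit
`Y = lim Y_j` (over `Y₀`) descends to a section over the residue field of the image of `y` in some
`Y_j`. -/
theorem exists_stage_section {J : Type u} [SmallCategory J] [IsCofiltered J]
    (DY : J ⥤ Scheme.{u}) (cY : Cone DY) (hcY : IsLimit cY)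
    [∀ (i j : J) (φ : i ⟶ j), IsAffineHom (DY.map φ)]
    {X₀ Y₀ : Scheme.{u}} (f₀ : X₀ ⟶ Y₀) [LocallyOfFiniteType f₀]
    (β : ∀ j, DY.obj j ⟶ Y₀) (q : cY.pt ⟶ Y₀) (hq : ∀ j, cY.π.app j ≫ β j = q)
    (y : cY.pt) (τ : Spec (cY.pt.residueField y) ⟶ X₀)
    (hτ : τ ≫ f₀ = cY.pt.fromSpecResidueField y ≫ q) :
    ∃ (j : J) (τj : Spec ((DY.obj j).residueField ((cY.π.app j).base y)) ⟶ X₀),
      τj ≫ f₀ = (DY.obj j).fromSpecResidueField ((cY.π.app j).base y) ≫ β j := by
  classical
  let K := cY.pt.residueField y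
  obtain ⟨⟨x₀, ψ⟩, hxψ⟩ : ∃ p : Σ x, X₀.residueField x ⟶ .of K,
      (Scheme.SpecToEquivOfField K X₀).symm p = τ :=
    ⟨Scheme.SpecToEquivOfField K X₀ τ, Equiv.symm_apply_apply _ _⟩
  simp only [Scheme.SpecToEquivOfField_symm_apply] at hxψ
  let ρ : ∀ j, (DY.obj j).residueField ((cY.π.app j).base y) →+* K :=
    fun j => ((cY.π.app j).residueFieldMap y).hom
  let R : J → Subfield K := fun j => (ρ j).fieldRange
  have hmono : ∀ {k i : J} (φ : k ⟶ i), R i ≤ R k := by
    rintro k i φ _ ⟨b, rfl⟩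
    have h1 := Scheme.Hom.residueFieldMap_congr (cY.w φ).symm y
    rw [Scheme.residueFieldMap_comp] at h1
    refine ⟨((DY.map φ).residueFieldMap _).hom (((DY.obj i).residueFieldCongr ?_).hom.hom b), ?_⟩
    · rw [← cY.w φ]; rfl
    · change _ = ((cY.π.app i).residueFieldMap y).hom b
      rw [h1]
      rfl
  have hdir : Directed (· ≤ ·) R := by
    intro i j
    obtain ⟨k, f, g, -⟩ := IsCofilteredOrEmpty.cone_objs i j
    exact ⟨k, hmono f, hmono g⟩
  haveI : Nonempty J := IsCofiltered.nonempty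
  have h2 : ∀ t : X₀.residueField x₀, ∃ j, ψ.hom t ∈ R j := by
    intro t
    obtain ⟨i, b, hb⟩ := Groth.Agent.S9206.result DY cY hcY y (ψ.hom t)
    exact ⟨i, b, hb⟩
  have key : ∀ j, ∃ e : f₀ x₀ = β j ((cY.π.app j).base y), f₀.residueFieldMap x₀ ≫ ψ =
      (Y₀.residueFieldCongr e).hom ≫ (β j).residueFieldMap _ ≫
        (cY.π.app j).residueFieldMap y := by
    intro j
    have h3 : (Scheme.SpecToEquivOfField K Y₀).symm ⟨f₀ x₀, f₀.residueFieldMap x₀ ≫ ψ⟩ =
        (Scheme.SpecToEquivOfField K Y₀).symm ⟨β j ((cY.π.app j).base y),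
          (β j).residueFieldMap _ ≫ (cY.π.app j).residueFieldMap y⟩ := by
      simp only [Scheme.SpecToEquivOfField_symm_apply]
      rw [Spec.map_comp, Category.assoc, Scheme.Hom.SpecMap_residueFieldMap_fromSpecResidueField,
        ← Category.assoc, hxψ, hτ, ← hq j, Spec.map_comp, Category.assoc,
        Scheme.Hom.SpecMap_residueFieldMap_fromSpecResidueField,
        ← Category.assoc (Spec.map _),
        Scheme.Hom.SpecMap_residueFieldMap_fromSpecResidueField, Category.assoc]
      rfl
    have h4 := (Scheme.SpecToEquivOfField K Y₀).symm.injective h3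
    rw [Scheme.SpecToEquivOfField_eq_iff] at h4
    exact h4
  have h1 : ∀ j (a : Y₀.residueField (f₀ x₀)), ψ.hom ((f₀.residueFieldMap x₀).hom a) ∈ R j := by
    intro j a
    obtain ⟨e, he⟩ := key j
    refine ⟨((β j).residueFieldMap _).hom ((Y₀.residueFieldCongr e).hom.hom a), ?_⟩
    have := congrArg (fun m => m.hom a) he
    exact this.symm
  have hg : (f₀.residueFieldMap x₀).hom.EssFiniteType :=
    (LocallyOfFiniteType.stalkMap f₀ x₀).residueFieldMap
  obtain ⟨j, hj⟩ := exists_forall_mem_of_directed (f₀.residueFieldMap x₀).hom hg ψ.hom R hdir h1 h2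
  let E : (DY.obj j).residueField ((cY.π.app j).base y) ≃+* (ρ j).range :=
    RingEquiv.ofBijective (ρ j).rangeRestrict
      ⟨fun a b h => (ρ j).injective (congrArg Subtype.val h), (ρ j).rangeRestrict_surjective⟩
  let ψj : X₀.residueField x₀ →+* (DY.obj j).residueField ((cY.π.app j).base y) :=
    E.symm.toRingHom.comp (ψ.hom.codRestrict (ρ j).range (fun t => by
      obtain ⟨b, hb⟩ := hj t
      exact ⟨b, hb⟩))
  let ψj' : X₀.residueField x₀ ⟶ (DY.obj j).residueField ((cY.π.app j).base y) :=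
    CommRingCat.ofHom ψj
  have hψj : ψj' ≫ (cY.π.app j).residueFieldMap y = ψ := by
    ext t
    change ρ j (E.symm _) = _
    have : ∀ z : (ρ j).range, ρ j (E.symm z) = z.1 := by
      intro z
      have h5 : E (E.symm z) = z := E.apply_symm_apply z
      exact congrArg Subtype.val h5
    rw [this]
    rfl
  refine ⟨j, Spec.map ψj' ≫ X₀.fromSpecResidueField x₀, ?_⟩
  haveI : Epi (Spec.map ((cY.π.app j).residueFieldMap y)) :=
    Groth.Agent.S9206.epi_specMap_of_field _
  rw [← cancel_epi (Spec.map ((cY.π.app j).residueFieldMap y))]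
  rw [← Category.assoc, ← Category.assoc, ← Spec.map_comp, hψj, hxψ, hτ,
    ← Category.assoc, Scheme.Hom.SpecMap_residueFieldMap_fromSpecResidueField, Category.assoc, hq]
  rfl

end Groth.Agent.Lib.Helper46.CD
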