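import Mathlib
import Groth.Agent.S4514

/-!
# A Noetherian local ring has a faithfully flat complete Noetherian local extension with
algebraically closed residue field (helper46; from helper49's S4514)
-/

set_option autoImplicit false
universe u
open IsLocalRing TensorProduct

namespace Groth.Agent.Lib.Helper46

set_option linter.style.haveILetI false

theorem exists_complete_algClosed_flat (A : Type u) [CommRing A] [IsLocalRing A]
    [IsNoetherianRing A] :
    ∃ (B : Type u) (_ : CommRing B) (_ : IsLocalRing B) (_ : IsNoetherianRing B) (_ : Algebra A B),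
      IsAdicComplete (maximalIdeal B) B ∧ IsAlgClosed (ResidueField B) ∧
        Module.FaithfullyFlat A B := by
  haveI : IsAdicComplete (maximalIdeal (AlgebraicClosure (ResidueField A)))
      (AlgebraicClosure (ResidueField A)) := by
    rw [IsLocalRing.maximalIdeal_eq_bot]; infer_instance
  obtain ⟨B, _, _, _, _, hloc, hc, hflat, ⟨e⟩⟩ :=
    Groth.Agent.S4514.result (A := A) (AlgebraicClosure (ResidueField A))
  refine ⟨B, inferInstance, inferInstance, inferInstance, inferInstance, hc, ?_, ?_⟩
  · -- the residue field of `B` is `k ⊗_A B ≅ K`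
    let ψ : B →+* AlgebraicClosure (ResidueField A) :=
      (e : ResidueField A ⊗[A] B →+* AlgebraicClosure (ResidueField A)).comp
        (Algebra.TensorProduct.includeRight : B →ₐ[A] ResidueField A ⊗[A] B).toRingHom
    have hψ : Function.Surjective ψ := by
      intro y
      obtain ⟨t, rfl⟩ := e.surjective y
      suffices h : ∃ b : B, (1 : ResidueField A) ⊗ₜ[A] b = t by
        obtain ⟨b, hb⟩ := h
        exact ⟨b, by rw [← hb]; rfl⟩
      induction t using TensorProduct.induction_on with
      | zero => exact ⟨0, by rw [TensorProduct.tmul_zero]⟩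
      | tmul x b =>
        obtain ⟨a, rfl⟩ := IsLocalRing.residue_surjective x
        refine ⟨a • b, ?_⟩
        rw [TensorProduct.tmul_smul, TensorProduct.smul_tmul', Algebra.smul_def, mul_one]
        rfl
      | add t₁ t₂ h₁ h₂ =>
        obtain ⟨b₁, hb₁⟩ := h₁
        obtain ⟨b₂, hb₂⟩ := h₂
        exact ⟨b₁ + b₂, by rw [TensorProduct.tmul_add, hb₁, hb₂]⟩
    have hker : RingHom.ker ψ = maximalIdeal B := by
      haveI : (RingHom.ker ψ).IsMaximal := RingHom.ker_isMaximal_of_surjective ψ hψ
      exact IsLocalRing.eq_maximalIdeal inferInstance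
    let e' : ResidueField B ≃+* AlgebraicClosure (ResidueField A) :=
      (Ideal.quotEquivOfEq hker.symm).trans (RingHom.quotientKerEquivOfSurjective hψ)
    exact IsAlgClosed.of_ringEquiv (AlgebraicClosure (ResidueField A)) (ResidueField B) e'.symm
  · haveI := hloc
    haveI := hflat
    exact Module.FaithfullyFlat.of_flat_of_isLocalHom

end Groth.Agent.Lib.Helper46
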