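import Mathlib
import Groth.Prelude.Def_DescFam

/-!
# Base change of canonical descent data (helper46)

For a morphism of families `(α, p, p')` from `f'` (over `S'`) to `f` (over `S`) and `U` over `S`, the
canonical descent datum of `U ×_S S'` relative to `f'` is isomorphic to the pullback of the canonical
descent datum of `U` relative to `f`.
-/

set_option autoImplicit false
universe w' w u
open CategoryTheory CategoryTheory.Limits AlgebraicGeometry Desc Opposite

namespace Groth.Agent.Lib.Helper46.DescBC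

variable {S : Scheme.{u}} {ι : Type w} {X : ι → Scheme.{u}} {f : ∀ i, X i ⟶ S}

/-- An isomorphism of descent data from isomorphisms of the underlying objects compatible with the
gluing bijections (family version of helper5's `isoMk`). -/
def isoMkFam (D₁ D₂ : SchDDFam f) (ε : ∀ i, D₁.obj i ≅ D₂.obj i)
    (hcomm : ∀ ⦃T : Scheme.{u}⦄ ⦃i j : ι⦄ (x₀ : T ⟶ X i) (x₁ : T ⟶ X j) (h : x₀ ≫ f i = x₁ ≫ f j)
      (v : Lifts (D₁.obj i) x₀) (w : Lifts (D₂.obj i) x₀), w.1 = v.1 ≫ (ε i).hom.left →
      (D₂.φ x₀ x₁ h w).1 = (D₁.φ x₀ x₁ h v).1 ≫ (ε j).hom.left) : D₁ ≅ D₂ where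
  hom := ⟨fun i => (ε i).hom, hcomm⟩
  inv := ⟨fun i => (ε i).inv, fun T i j x₀ x₁ h v w hw => by
    have hv : v.1 = w.1 ≫ (ε i).hom.left := by
      rw [hw, Category.assoc, ← Over.comp_left, (ε i).inv_hom_id, Over.id_left, Category.comp_id]
    rw [hcomm x₀ x₁ h w v hv, Category.assoc, ← Over.comp_left, (ε j).hom_inv_id, Over.id_left,
      Category.comp_id]⟩
  hom_inv_id := SchDDFam.hom_ext (funext fun i => (ε i).hom_inv_id)
  inv_hom_id := SchDDFam.hom_ext (funext fun i => (ε i).inv_hom_id)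

variable {S' : Scheme.{u}} {ι' : Type w'} {X' : ι' → Scheme.{u}} {f' : ∀ j, X' j ⟶ S'}
  {α : ι' → ι} {p : S' ⟶ S} {p' : ∀ j, X' j ⟶ X (α j)} (w : ∀ j, p' j ≫ f (α j) = f' j ≫ p)
  (U : Over S)

/-- The base change of `U` to `S'`. -/
noncomputable abbrev bcOver (p : S' ⟶ S) : Over S' := Over.mk (pullback.snd U.hom p)

section maps

variable (j : ι')

include w in
lemma bcHom_aux₁ :
    (pullback.fst (f' j) (pullback.snd U.hom p) ≫ p' j) ≫ f (α j) =
      (pullback.snd (f' j) (pullback.snd U.hom p) ≫ pullback.fst U.hom p) ≫ U.hom := by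
  rw [Category.assoc, w, ← Category.assoc, pullback.condition, Category.assoc, Category.assoc,
    pullback.condition]

/-- `X' j ×_{S'} (U ×_S S') ⟶ (X (α j) ×_S U) ×_{X (α j)} X' j`. -/
noncomputable def bcHom :
    pullback (f' j) (pullback.snd U.hom p) ⟶ pullback (pullback.fst (f (α j)) U.hom) (p' j) :=
  pullback.lift
    (pullback.lift (pullback.fst (f' j) (pullback.snd U.hom p) ≫ p' j)
      (pullback.snd (f' j) (pullback.snd U.hom p) ≫ pullback.fst U.hom p) (bcHom_aux₁ w U j))
    (pullback.fst (f' j) (pullback.snd U.hom p)) (pullback.lift_fst _ _ _)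

include w in
lemma bcInv_aux₁ :
    (pullback.fst (pullback.fst (f (α j)) U.hom) (p' j) ≫ pullback.snd (f (α j)) U.hom) ≫ U.hom =
      (pullback.snd (pullback.fst (f (α j)) U.hom) (p' j) ≫ f' j) ≫ p := by
  rw [Category.assoc, ← pullback.condition, ← Category.assoc, pullback.condition, Category.assoc,
    w, Category.assoc]

/-- `(X (α j) ×_S U) ×_{X (α j)} X' j ⟶ X' j ×_{S'} (U ×_S S')`. -/
noncomputable def bcInv :
    pullback (pullback.fst (f (α j)) U.hom) (p' j) ⟶ pullback (f' j) (pullback.snd U.hom p) :=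
  pullback.lift (pullback.snd (pullback.fst (f (α j)) U.hom) (p' j))
    (pullback.lift (pullback.fst (pullback.fst (f (α j)) U.hom) (p' j) ≫ pullback.snd (f (α j)) U.hom)
      (pullback.snd (pullback.fst (f (α j)) U.hom) (p' j) ≫ f' j) (bcInv_aux₁ w U j))
    (pullback.lift_snd _ _ _).symm

@[reassoc (attr := simp)]
lemma bcHom_snd : bcHom w U j ≫ pullback.snd (pullback.fst (f (α j)) U.hom) (p' j) =
    pullback.fst (f' j) (pullback.snd U.hom p) := pullback.lift_snd _ _ _

@[reassoc (attr := simp)]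
lemma bcHom_fst_fst : bcHom w U j ≫ pullback.fst (pullback.fst (f (α j)) U.hom) (p' j) ≫
    pullback.fst (f (α j)) U.hom = pullback.fst (f' j) (pullback.snd U.hom p) ≫ p' j := by
  unfold bcHom
  rw [pullback.lift_fst_assoc, pullback.lift_fst]

@[reassoc (attr := simp)]
lemma bcHom_fst_snd : bcHom w U j ≫ pullback.fst (pullback.fst (f (α j)) U.hom) (p' j) ≫
    pullback.snd (f (α j)) U.hom =
      pullback.snd (f' j) (pullback.snd U.hom p) ≫ pullback.fst U.hom p := by
  unfold bcHom
  rw [pullback.lift_fst_assoc, pullback.lift_snd]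

@[reassoc (attr := simp)]
lemma bcInv_fst : bcInv w U j ≫ pullback.fst (f' j) (pullback.snd U.hom p) =
    pullback.snd (pullback.fst (f (α j)) U.hom) (p' j) := pullback.lift_fst _ _ _

@[reassoc (attr := simp)]
lemma bcInv_snd_fst : bcInv w U j ≫ pullback.snd (f' j) (pullback.snd U.hom p) ≫
    pullback.fst U.hom p =
      pullback.fst (pullback.fst (f (α j)) U.hom) (p' j) ≫ pullback.snd (f (α j)) U.hom := by
  unfold bcInv
  rw [pullback.lift_snd_assoc, pullback.lift_fst]

@[reassoc (attr := simp)]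
lemma bcInv_snd_snd : bcInv w U j ≫ pullback.snd (f' j) (pullback.snd U.hom p) ≫
    pullback.snd U.hom p = pullback.snd (pullback.fst (f (α j)) U.hom) (p' j) ≫ f' j := by
  unfold bcInv
  rw [pullback.lift_snd_assoc, pullback.lift_snd]

lemma bcHom_inv : bcHom w U j ≫ bcInv w U j = 𝟙 _ := by
  apply pullback.hom_ext
  · simp
  · apply pullback.hom_ext
    · simp
    · simp [pullback.condition]

lemma bcInv_hom : bcInv w U j ≫ bcHom w U j = 𝟙 _ := by
  apply pullback.hom_ext
  · apply pullback.hom_ext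
    · simp [pullback.condition]
    · simp
  · simp

end maps

/-- The isomorphisms of the underlying objects. -/
noncomputable def bcObjIso (j : ι') :
    ((toDDFam f').obj (bcOver U p)).obj j ≅ ((pullDDFam w).obj ((toDDFam f).obj U)).obj j :=
  Over.isoMk ⟨bcHom w U j, bcInv w U j, bcHom_inv w U j, bcInv_hom w U j⟩ (bcHom_snd w U j)

@[simp] lemma bcObjIso_hom_left (j : ι') : (bcObjIso w U j).hom.left = bcHom w U j := rfl

/-- The canonical descent datum of the base change is the pullback of the canonical descent datum. -/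
noncomputable def bcIso :
    (toDDFam f').obj (bcOver U p) ≅ (pullDDFam w).obj ((toDDFam f).obj U) :=
  isoMkFam _ _ (bcObjIso w U) (by
    intro T j₀ j₁ x₀ x₁ h v v' hv'
    rw [bcObjIso_hom_left] at hv' ⊢
    obtain ⟨L, hL⟩ : ∃ L : T ⟶ pullback (pullback.fst (f (α j₁)) U.hom) (p' j₁),
        L = (((pullDDFam w).obj ((toDDFam f).obj U)).φ x₀ x₁ h v').1 := ⟨_, rfl⟩
    obtain ⟨R, hR⟩ : ∃ R : T ⟶ pullback (f' j₁) (pullback.snd U.hom p),
        R = (((toDDFam f').obj (bcOver U p)).φ x₀ x₁ h v).1 := ⟨_, rfl⟩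
    obtain ⟨V, hV⟩ : ∃ V : T ⟶ pullback (f' j₀) (pullback.snd U.hom p), V = v.1 := ⟨_, rfl⟩
    obtain ⟨V', hV'⟩ : ∃ V' : T ⟶ pullback (pullback.fst (f (α j₀)) U.hom) (p' j₀), V' = v'.1 :=
      ⟨_, rfl⟩
    have hVV' : V' = V ≫ bcHom w U j₀ := by rw [hV, hV']; exact hv'
    suffices H : L = R ≫ bcHom w U j₁ by rw [hL, hR] at H; exact H
    have hLa : L ≫ pullback.snd (pullback.fst (f (α j₁)) U.hom) (p' j₁) = x₁ := by
      rw [hL]; exact pullback.lift_snd _ _ _
    have hLb : L ≫ pullback.fst (pullback.fst (f (α j₁)) U.hom) (p' j₁) ≫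
        pullback.fst (f (α j₁)) U.hom = x₁ ≫ p' j₁ := by
      rw [hL, ← Category.assoc]
      refine (congrArg (· ≫ pullback.fst (f (α j₁)) U.hom) (pullback.lift_fst _ _ _)).trans ?_
      exact pullback.lift_fst _ _ _
    have hLc : L ≫ pullback.fst (pullback.fst (f (α j₁)) U.hom) (p' j₁) ≫
        pullback.snd (f (α j₁)) U.hom =
          (V' ≫ pullback.fst (pullback.fst (f (α j₀)) U.hom) (p' j₀)) ≫
              pullback.snd (f (α j₀)) U.hom := by
      rw [hL, hV', ← Category.assoc]
      refine (congrArg (· ≫ pullback.snd (f (α j₁)) U.hom) (pullback.lift_fst _ _ _)).trans ?_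
      exact pullback.lift_snd _ _ _
    have hRa : R ≫ pullback.fst (f' j₁) (pullback.snd U.hom p) = x₁ := by
      rw [hR]; exact pullback.lift_fst _ _ _
    have hRb : R ≫ pullback.snd (f' j₁) (pullback.snd U.hom p) =
        V ≫ pullback.snd (f' j₀) (pullback.snd U.hom p) := by
      rw [hR, hV]; exact pullback.lift_snd _ _ _
    apply pullback.hom_ext
    · apply pullback.hom_ext
      · rw [Category.assoc, hLb, Category.assoc, Category.assoc, bcHom_fst_fst, reassoc_of% hRa]
      · rw [Category.assoc, hLc, hVV']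
        simp only [Category.assoc]
        rw [bcHom_fst_snd, bcHom_fst_snd, reassoc_of% hRb]
    · rw [hLa, Category.assoc, bcHom_snd, hRa])

end Groth.Agent.Lib.Helper46.DescBC
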