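import Mathlib
import Groth.Prelude.Def_DescFam
import Groth.Agent.Lib.Helper46.DescBC
import Groth.Agent.Lib.Helper64.DescFam

/-!
# Pullback of descent data along a composite of morphisms of families (helper46)

`pullDDFam w' (pullDDFam w D) ≅ pullDDFam w'' D` for the composite morphism of families.
-/

set_option autoImplicit false
universe w'' w' w u
open CategoryTheory CategoryTheory.Limits AlgebraicGeometry Desc Opposite

namespace Groth.Agent.Lib.Helper46.DescComp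

open Groth.Agent.Lib.Helper46.DescBC

variable {S : Scheme.{u}} {ι : Type w} {X : ι → Scheme.{u}} {f : ∀ i, X i ⟶ S}
  {S' : Scheme.{u}} {ι' : Type w'} {X' : ι' → Scheme.{u}} {f' : ∀ j, X' j ⟶ S'}
  {α : ι' → ι} {p : S' ⟶ S} {p' : ∀ j, X' j ⟶ X (α j)} (w : ∀ j, p' j ≫ f (α j) = f' j ≫ p)
  {S'' : Scheme.{u}} {ι'' : Type w''} {X'' : ι'' → Scheme.{u}} {f'' : ∀ k, X'' k ⟶ S''}
  {α' : ι'' → ι'} {q : S'' ⟶ S'} {q' : ∀ k, X'' k ⟶ X' (α' k)}
  (w' : ∀ k, q' k ≫ f' (α' k) = f'' k ≫ q)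
  {r : S'' ⟶ S} {r' : ∀ k, X'' k ⟶ X (α (α' k))}
  (w'' : ∀ k, r' k ≫ f (α (α' k)) = f'' k ≫ r)
  (hr' : ∀ k, r' k = q' k ≫ p' (α' k))
  (D : SchDDFam f)

section objIso

variable {A B C E : Scheme.{u}} (a : A ⟶ B) (b : C ⟶ B) (c : E ⟶ C) (d : E ⟶ B) (hd : d = c ≫ b)

/-- `(A ×_B C) ×_C E ≅ A ×_B E` where `E ⟶ B` is (equal to) the composite. -/
noncomputable def leftIso : pullback (pullback.snd a b) c ≅ pullback a d :=
  pullbackLeftPullbackSndIso a b c ≪≫ pullback.congrHom rfl hd.symm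

lemma leftIso_hom_fst : (leftIso a b c d hd).hom ≫ pullback.fst a d =
    pullback.fst (pullback.snd a b) c ≫ pullback.fst a b := by
  unfold leftIso
  rw [Iso.trans_hom, Category.assoc, pullback.congrHom_hom, pullback.lift_fst, Category.comp_id,
    pullbackLeftPullbackSndIso_hom_fst]

lemma leftIso_hom_snd : (leftIso a b c d hd).hom ≫ pullback.snd a d =
    pullback.snd (pullback.snd a b) c := by
  unfold leftIso
  rw [Iso.trans_hom, Category.assoc, pullback.congrHom_hom, pullback.lift_snd, Category.comp_id,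
    pullbackLeftPullbackSndIso_hom_snd]

end objIso

/-- The isomorphisms of underlying objects. -/
noncomputable def compObjIso (k : ι'') :
    ((pullDDFam w').obj ((pullDDFam w).obj D)).obj k ≅
      ((pullDDFam (α := fun k => α (α' k)) (p := r) (p' := r') w'').obj D).obj k :=
  Over.isoMk (leftIso (D.obj (α (α' k))).hom (p' (α' k)) (q' k) (r' k) (hr' k))
    (leftIso_hom_snd (D.obj (α (α' k))).hom (p' (α' k)) (q' k) (r' k) (hr' k))

lemma compObjIso_hom_left_fst (k : ι'') :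
    (compObjIso w w' w'' hr' D k).hom.left ≫ pullback.fst (D.obj (α (α' k))).hom (r' k) =
      pullback.fst (pullback.snd (D.obj (α (α' k))).hom (p' (α' k))) (q' k) ≫
        pullback.fst (D.obj (α (α' k))).hom (p' (α' k)) :=
  leftIso_hom_fst (D.obj (α (α' k))).hom (p' (α' k)) (q' k) (r' k) (hr' k)

lemma compObjIso_hom_left_snd (k : ι'') :
    (compObjIso w w' w'' hr' D k).hom.left ≫ pullback.snd (D.obj (α (α' k))).hom (r' k) =
      pullback.snd (pullback.snd (D.obj (α (α' k))).hom (p' (α' k))) (q' k) :=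
  leftIso_hom_snd (D.obj (α (α' k))).hom (p' (α' k)) (q' k) (r' k) (hr' k)

/-- Pulling back twice is pulling back along the composite. -/
noncomputable def compIso :
    (pullDDFam w').obj ((pullDDFam w).obj D) ≅
      (pullDDFam (α := fun k => α (α' k)) (p := r) (p' := r') w'').obj D :=
  isoMkFam _ _ (compObjIso w w' w'' hr' D) (by
    intro T k₀ k₁ x₀ x₁ h v v' hv'
    obtain ⟨L, hL⟩ : ∃ L : T ⟶ pullback (D.obj (α (α' k₁))).hom (r' k₁),
        L = (((pullDDFam (α := fun k => α (α' k)) (p := r) (p' := r') w'').obj D).φ x₀ x₁ h v').1 :=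
      ⟨_, rfl⟩
    obtain ⟨R, hR⟩ : ∃ R : T ⟶ pullback (pullback.snd (D.obj (α (α' k₁))).hom (p' (α' k₁))) (q' k₁),
        R = (((pullDDFam w').obj ((pullDDFam w).obj D)).φ x₀ x₁ h v).1 := ⟨_, rfl⟩
    obtain ⟨V, hV⟩ : ∃ V : T ⟶ pullback (pullback.snd (D.obj (α (α' k₀))).hom (p' (α' k₀))) (q' k₀),
        V = v.1 := ⟨_, rfl⟩
    obtain ⟨V', hV'⟩ : ∃ V' : T ⟶ pullback (D.obj (α (α' k₀))).hom (r' k₀), V' = v'.1 := ⟨_, rfl⟩
    have hVV' : V' = V ≫ (leftIso (D.obj (α (α' k₀))).hom (p' (α' k₀)) (q' k₀) (r' k₀) (hr' k₀)).hom := by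
      rw [hV, hV']; exact hv'
    suffices H : L = R ≫ (leftIso (D.obj (α (α' k₁))).hom (p' (α' k₁)) (q' k₁) (r' k₁) (hr' k₁)).hom by
      rw [hL, hR] at H; exact H
    have hLa : L ≫ pullback.snd (D.obj (α (α' k₁))).hom (r' k₁) = x₁ := by
      rw [hL]; exact pullback.lift_snd _ _ _
    have hRa : R ≫ pullback.snd (pullback.snd (D.obj (α (α' k₁))).hom (p' (α' k₁))) (q' k₁) = x₁ := by
      rw [hR]; exact pullback.lift_snd _ _ _
    apply pullback.hom_ext
    · rw [Category.assoc, leftIso_hom_fst]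
      have hLb : L ≫ pullback.fst (D.obj (α (α' k₁))).hom (r' k₁) =
          (D.φ (x₀ ≫ r' k₀) (x₁ ≫ r' k₁) (pull_compat w'' x₀ x₁ h)
            (liftsPullbackEquiv (D.obj (α (α' k₀))) (r' k₀) x₀ v')).1 := by
        rw [hL]; exact pullback.lift_fst _ _ _
      have hRb : R ≫ pullback.fst (pullback.snd (D.obj (α (α' k₁))).hom (p' (α' k₁))) (q' k₁) =
          (((pullDDFam w).obj D).φ (x₀ ≫ q' k₀) (x₁ ≫ q' k₁) (pull_compat w' x₀ x₁ h)
            (liftsPullbackEquiv (((pullDDFam w).obj D).obj (α' k₀)) (q' k₀) x₀ v)).1 := by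
        rw [hR]; exact pullback.lift_fst _ _ _
      have hRc : ((((pullDDFam w).obj D).φ (x₀ ≫ q' k₀) (x₁ ≫ q' k₁) (pull_compat w' x₀ x₁ h)
            (liftsPullbackEquiv (((pullDDFam w).obj D).obj (α' k₀)) (q' k₀) x₀ v)).1 :
              T ⟶ pullback (D.obj (α (α' k₁))).hom (p' (α' k₁))) ≫
            pullback.fst (D.obj (α (α' k₁))).hom (p' (α' k₁)) =
          (D.φ ((x₀ ≫ q' k₀) ≫ p' (α' k₀)) ((x₁ ≫ q' k₁) ≫ p' (α' k₁))
            (pull_compat w (x₀ ≫ q' k₀) (x₁ ≫ q' k₁) (pull_compat w' x₀ x₁ h))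
            (liftsPullbackEquiv (D.obj (α (α' k₀))) (p' (α' k₀)) (x₀ ≫ q' k₀)
              (liftsPullbackEquiv (((pullDDFam w).obj D).obj (α' k₀)) (q' k₀) x₀ v))).1 :=
        pullback.lift_fst _ _ _
      refine hLb.trans (Eq.symm ?_)
      refine ((Category.assoc _ _ _).symm.trans
        ((congrArg (· ≫ pullback.fst (D.obj (α (α' k₁))).hom (p' (α' k₁))) hRb).trans hRc)).trans ?_
      refine (Groth.Agent.Lib.Helper64.DescFam.φ_congr D _ _ ?_ ?_ _ _ ?_).symm
      · rw [hr', Category.assoc]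
      · rw [hr', Category.assoc]
      · have key : V' ≫ pullback.fst (D.obj (α (α' k₀))).hom (r' k₀) =
            (V ≫ pullback.fst (pullback.snd (D.obj (α (α' k₀))).hom (p' (α' k₀))) (q' k₀)) ≫
              pullback.fst (D.obj (α (α' k₀))).hom (p' (α' k₀)) := by
          rw [hVV', Category.assoc, leftIso_hom_fst, Category.assoc]
        rw [hV', hV] at key
        exact key
    · rw [hLa, Category.assoc, leftIso_hom_snd, hRa])

end Groth.Agent.Lib.Helper46.DescComp
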