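import Mathlib
import Groth.Prelude.Def_Desc
import Groth.Prelude.Def_SGA1
import Groth.Agent.Lib.Helper81.EtDescent

/-!
# Morphisms into étale schemes descend along universally submersive morphisms (helper46)

For `p : X ⟶ S` universally submersive, `U₁` an arbitrary `S`-scheme and `U₂` étale over `S`,
`Hom_S(U₁, U₂) → Hom(toDD U₁, toDD U₂)` is bijective.  (Adapted from `Groth.Agent.S0782`, which in
turn adapts `Groth.Agent.Lib.Helper81.EtDescent`.)
-/

set_option autoImplicit false
universe u
open CategoryTheory CategoryTheory.Limits AlgebraicGeometry Desc Opposite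

namespace Groth.Agent.Lib.Helper46.EtDescFull

open Groth.Agent.Lib.Helper81 Groth.Agent.Lib.Helper81.EtDescent

variable {X S : Scheme.{u}} {p : X ⟶ S}

lemma univSubmersive_snd (hp : SGA1.UnivSubmersive p) {T : Scheme.{u}} (t : T ⟶ S) :
    SGA1.UnivSubmersive (pullback.snd p t) := by
  haveI := Submersive.stableUnderBaseChange.{u}
  exact MorphismProperty.pullback_snd (P := SGA1.UnivSubmersive) p t hp

lemma isQuotientMap_snd (hp : SGA1.UnivSubmersive p) {T : Scheme.{u}} (t : T ⟶ S) :
    Topology.IsQuotientMap (pullback.snd p t).base :=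
  Submersive.isQuotientMap (univSubmersive_snd hp t)

lemma surjective_snd (hp : SGA1.UnivSubmersive p) {T : Scheme.{u}} (t : T ⟶ S) :
    Function.Surjective (pullback.snd p t) :=
  (isQuotientMap_snd hp t).surjective

/-- Fullness of `toDD p` for morphisms into an étale `S`-scheme. -/
theorem exists_map_eq (hp : SGA1.UnivSubmersive p) (U₁ U₂ : Over S) [Etale U₂.hom]
    (φ : (toDD p).obj U₁ ⟶ (toDD p).obj U₂) : ∃ β : U₁ ⟶ U₂, (toDD p).map β = φ := by
  let π : pullback p U₁.hom ⟶ U₁.left := pullback.snd p U₁.hom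
  let h : pullback p U₁.hom ⟶ pullback p U₂.hom := φ.hom.left
  have hh : h ≫ pullback.fst p U₂.hom = pullback.fst p U₁.hom := Over.w φ.hom
  let F : pullback p U₁.hom ⟶ U₂.left := h ≫ pullback.snd p U₂.hom
  have hF : F ≫ U₂.hom = π ≫ U₁.hom := by
    simp only [F, π, Category.assoc]
    rw [← pullback.condition, reassoc_of% hh, pullback.condition]
  have hcoc : pullback.fst π π ≫ F = pullback.snd π π ≫ F := by
    let a := pullback.fst π π
    let c := pullback.snd π π
    let x₀ : pullback π π ⟶ X := a ≫ pullback.fst p U₁.hom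
    let x₁ : pullback π π ⟶ X := c ≫ pullback.fst p U₁.hom
    have hac : a ≫ π = c ≫ π := pullback.condition
    have hx : x₀ ≫ p = x₁ ≫ p := by
      simp only [x₀, x₁, Category.assoc]
      rw [pullback.condition]
      exact (reassoc_of% hac) U₁.hom
    let v : Lifts ((toDD p).obj U₁).obj x₀ := ⟨a, rfl⟩
    let w : Lifts ((toDD p).obj U₂).obj x₀ := ⟨a ≫ h, by
      change (a ≫ h) ≫ pullback.fst p U₂.hom = x₀
      rw [Category.assoc, hh]⟩
    have hcomm := φ.comm x₀ x₁ hx v w rfl
    have hv : (((toDD p).obj U₁).φ x₀ x₁ hx v).1 = c := by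
      change (canMap p U₁ x₀ x₁ hx v).1 = c
      rw [canMap_val]
      apply pullback.hom_ext
      · rw [pullback.lift_fst]
      · rw [pullback.lift_snd]
        exact hac
    have hw : (((toDD p).obj U₂).φ x₀ x₁ hx w).1 ≫ pullback.snd p U₂.hom =
        a ≫ h ≫ pullback.snd p U₂.hom := by
      change (canMap p U₂ x₀ x₁ hx w).1 ≫ pullback.snd p U₂.hom = _
      rw [canMap_val, pullback.lift_snd]
      exact Category.assoc _ _ _
    have h3 : (((toDD p).obj U₂).φ x₀ x₁ hx w).1 ≫ pullback.snd p U₂.hom =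
        (c ≫ h) ≫ pullback.snd p U₂.hom := by rw [hcomm, hv]; rfl
    rw [hw] at h3
    change a ≫ h ≫ pullback.snd p U₂.hom = c ≫ h ≫ pullback.snd p U₂.hom
    rw [h3, Category.assoc]
  obtain ⟨u, ⟨hu1, hu2⟩, -⟩ :=
    exists_unique_desc π U₁.hom U₂.hom F hF hcoc (univSubmersive_snd hp U₁.hom)
  have key : pullback.map p U₁.hom p U₂.hom (𝟙 X) u (𝟙 S) (by simp) (by simp [hu1]) = h := by
    apply pullback.hom_ext
    · rw [pullback.lift_fst, hh, Category.comp_id]
    · rw [pullback.lift_snd]
      exact hu2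
  refine ⟨Over.homMk u hu1, ?_⟩
  apply SchDD.hom_ext
  apply Over.OverMorphism.ext
  exact key

/-- Two morphisms into an étale `S`-scheme agreeing after precomposition with a surjection agree. -/
theorem eq_of_snd_comp_eq (hp : SGA1.UnivSubmersive p) {T : Scheme.{u}} (t : T ⟶ S) (U : Over S)
    [Etale U.hom] (h h' : T ⟶ U.left) (ht : h ≫ U.hom = h' ≫ U.hom)
    (hh : pullback.snd p t ≫ h = pullback.snd p t ≫ h') : h = h' :=
  eq_of_comp_eq_of_surjective (pullback.snd p t) (surjective_snd hp t) U.hom h h' ht hh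

end Groth.Agent.Lib.Helper46.EtDescFull
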