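import Mathlib
import Groth.Prelude.Def_Desc
import Groth.Prelude.Def_SGA1
import Groth.Agent.Lib.Helper5.DescSheaf
import Groth.Agent.Lib.Helper5.DescRepEff
import Groth.Agent.Lib.Helper5.DescOpen2
import Groth.Agent.Lib.Helper5.PresheafRel
import Groth.Agent.Lib.Helper46.EtDescFull

/-!
# Gluing effective open sub-data of an étale descent datum along a universally submersive morphism
(helper46)

Adaptation of `Groth.Agent.Lib.Helper5.DescGlue.effective_of_open_cover` (helper5) from flat covers
to universally submersive `p`, when the schemes `U'` realizing the open sub-data are étale over `S`: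
fullness/faithfulness of `toDD p` is then available for morphisms into `U'`
(`Groth.Agent.Lib.Helper46.EtDescFull`).  The descended scheme is again étale over `S`.
-/

set_option autoImplicit false
universe u
open CategoryTheory CategoryTheory.Limits AlgebraicGeometry Desc Opposite

namespace Groth.Agent.Lib.Helper46.EtDescGlue

open Groth.Agent.Lib.Helper5.DescFunctor Groth.Agent.Lib.Helper5.AffCore
  Groth.Agent.Lib.Helper46.EtDescFull Groth.Agent.Lib.Helper5

variable {X S : Scheme.{u}} {p : X ⟶ S} (hp : SGA1.UnivSubmersive p) {D D' : SchDD p} (j : D' ⟶ D)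
  [IsOpenImmersion j.hom.left]

section T0

variable {T : Scheme.{u}} (s : Sec D T)

include hp in
lemma isOpen_T₀set' : IsOpen (T₀set j s) := by
  rw [← (isQuotientMap_snd hp s.t).isOpen_preimage, saturated]
  exact (Wopen j s).isOpen

/-- The open of `T` over which the section comes from the sub-datum. -/
noncomputable def T₀' : T.Opens := ⟨T₀set j s, isOpen_T₀set' hp j s⟩

include hp in
lemma range_subset_T₀' {T₁ : Scheme.{u}} (k : T₁ ⟶ T)
    (hk : Set.range (s.pre k).a.hom.left.base ⊆ Set.range j.hom.left.base) :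
    Set.range k.base ⊆ (T₀' hp j s : Set T) := by
  rintro _ ⟨y, rfl⟩
  obtain ⟨z, hz⟩ := surjective_snd hp (k ≫ s.t) y
  set m := pullback.map p (k ≫ s.t) p s.t (𝟙 X) k (𝟙 S) (by simp) (by simp) with hm
  refine ⟨m.base z, ?_, ?_⟩
  · change s.a.hom.left.base (m.base z) ∈ Set.range j.hom.left.base
    apply hk
    exact ⟨z, rfl⟩
  · have e : m ≫ pullback.snd p s.t = pullback.snd p (k ≫ s.t) ≫ k := by
      rw [hm, pullback.lift_snd]
    have : (m ≫ pullback.snd p s.t).base z = (pullback.snd p (k ≫ s.t) ≫ k).base z := by rw [e]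
    change (pullback.snd p s.t).base (m.base z) = k.base ((pullback.snd p (k ≫ s.t)).base z) at this
    rw [this]
    exact congrArg k.base hz

lemma range_pre_subset' {T₁ : Scheme.{u}} (k : T₁ ⟶ T)
    (hk : Set.range k.base ⊆ (T₀' hp j s : Set T)) :
    Set.range (s.pre k).a.hom.left.base ⊆ Set.range j.hom.left.base := by
  rintro _ ⟨z, rfl⟩
  set m := pullback.map p (k ≫ s.t) p s.t (𝟙 X) k (𝟙 S) (by simp) (by simp) with hm
  have e : m ≫ pullback.snd p s.t = pullback.snd p (k ≫ s.t) ≫ k := by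
    rw [hm, pullback.lift_snd]
  have h1 : (pullback.snd p s.t).base (m.base z) ∈ T₀set j s := by
    have : (m ≫ pullback.snd p s.t).base z = (pullback.snd p (k ≫ s.t) ≫ k).base z := by rw [e]
    change (pullback.snd p s.t).base (m.base z) = k.base ((pullback.snd p (k ≫ s.t)).base z) at this
    rw [this]
    exact hk ⟨_, rfl⟩
  have h2 : m.base z ∈ (pullback.snd p s.t).base ⁻¹' (T₀set j s) := h1
  rw [saturated] at h2
  exact h2

end T0

section K34

variable (U' : Over S) [Etale U'.hom] (e : (toDD p).obj U' ≅ D')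

include hp in
/-- A section landing in the sub-datum comes from `U'`. -/
lemma exists_pre_eq' {T₁ : Scheme.{u}} (s₁ : Sec D T₁)
    (h : Set.range s₁.a.hom.left.base ⊆ Set.range j.hom.left.base) :
    ∃ h₀ : T₁ ⟶ U'.left, (baseSec j U' e).pre h₀ = s₁ := by
  obtain ⟨a', ha'⟩ := exists_factor j s₁.a h
  obtain ⟨β, hβ⟩ := exists_map_eq hp (Over.mk s₁.t) U' (a' ≫ e.inv)
  have hβ' : (toDD p).map β ≫ e.hom = a' := by
    rw [hβ, Category.assoc, e.inv_hom_id, Category.comp_id]
  refine ⟨β.left, ?_⟩
  have ht : ((baseSec j U' e).pre β.left).t = s₁.t := Over.w β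
  refine Sec.ext' ht fun T' x τ k₁ k₂ => ?_
  have k₃ : x ≫ p = (τ ≫ β.left) ≫ (baseSec j U' e).t := by rw [Category.assoc]; exact k₁
  rw [Sec.pre_pt (baseSec j U' e) β.left x τ k₁ k₃, baseSec_pt j U' e x (τ ≫ β.left) k₃,
    Sec.pt_val, ← ha', ← hβ']
  change _ = pullback.lift x τ k₂ ≫
    (pullback.map p s₁.t p U'.hom (𝟙 X) β.left (𝟙 S) (by simp) (by simp) ≫ e.hom.hom.left) ≫
      j.hom.left
  rw [← Category.assoc, ← Category.assoc]
  congr 2
  apply pullback.hom_ext
  · rw [pullback.lift_fst, Category.assoc, pullback.lift_fst, pullback.lift_fst_assoc,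
      Category.comp_id]
  · rw [pullback.lift_snd, Category.assoc, pullback.lift_snd, pullback.lift_snd_assoc]

include hp in
/-- Sections coming from `U'` determine the morphism to `U'`. -/
lemma baseSec_pre_injective' {T₁ : Scheme.{u}} (h h' : T₁ ⟶ U'.left)
    (hh : (baseSec j U' e).pre h = (baseSec j U' e).pre h') : h = h' := by
  have ht : h ≫ U'.hom = h' ≫ U'.hom := Sec.t_eq_of_eq hh
  set P := pullback p (h ≫ U'.hom)
  have k : pullback.fst p (h ≫ U'.hom) ≫ p = pullback.snd p (h ≫ U'.hom) ≫ h ≫ U'.hom :=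
    pullback.condition
  have k' : pullback.fst p (h ≫ U'.hom) ≫ p = pullback.snd p (h ≫ U'.hom) ≫ h' ≫ U'.hom := by
    rw [← ht]; exact k
  have e1 := Sec.pt_eq_of_eq hh (pullback.fst p (h ≫ U'.hom)) (pullback.snd p (h ≫ U'.hom)) k k'
  have k₂ : pullback.fst p (h ≫ U'.hom) ≫ p = (pullback.snd p (h ≫ U'.hom) ≫ h) ≫ U'.hom := by
    rw [Category.assoc]; exact k
  have k₂' : pullback.fst p (h ≫ U'.hom) ≫ p = (pullback.snd p (h ≫ U'.hom) ≫ h') ≫ U'.hom := by
    rw [Category.assoc]; exact k'
  rw [Sec.pre_pt (baseSec j U' e) h _ _ k k₂, Sec.pre_pt (baseSec j U' e) h' _ _ k' k₂',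
    baseSec_pt j U' e _ _ k₂, baseSec_pt j U' e _ _ k₂', cancel_mono] at e1
  let E : pullback p U'.hom ⟶ D'.obj.left := e.hom.hom.left
  have hmono : Mono E := (⟨e.inv.hom.left, e_hom_inv_left U' e⟩ : SplitMono E).mono
  have e2 : pullback.lift (pullback.fst p (h ≫ U'.hom)) (pullback.snd p (h ≫ U'.hom) ≫ h) k₂ =
      pullback.lift (pullback.fst p (h ≫ U'.hom)) (pullback.snd p (h ≫ U'.hom) ≫ h') k₂' :=
    (cancel_mono E).mp e1
  have e3 := congrArg (· ≫ pullback.snd p U'.hom) e2
  simp only [pullback.lift_snd] at e3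
  exact eq_of_snd_comp_eq hp (h ≫ U'.hom) U' h h' ht e3

end K34

section Rep

/-- Variant of `Groth.Agent.Lib.Helper5.DescFunctor.effective_of_representableBy` (helper5) with the
descended scheme made explicit. -/
theorem effective_of_representableBy' {U : Scheme.{u}} (r : (descFunctor D).RepresentableBy U) :
    Nonempty ((toDD p).obj (Over.mk (r.homEquiv (𝟙 U) : Sec D U).t) ≅ D) := by
  let s₀ : Sec D U := r.homEquiv (𝟙 U)
  have hrep : ∀ {T : Scheme.{u}} (c : T ⟶ U), r.homEquiv c = s₀.pre c := by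
    intro T c
    have := r.homEquiv_comp c (𝟙 U)
    rw [Category.comp_id] at this
    exact this
  let c : D.obj.left ⟶ U := r.homEquiv.symm (actSec D)
  have hc : s₀.pre c = actSec D := by
    rw [← hrep c]
    exact r.homEquiv.apply_symm_apply _
  have hct : c ≫ s₀.t = D.obj.hom ≫ p := Sec.t_eq_of_eq hc
  let a₀ : pullback p s₀.t ⟶ D.obj.left := s₀.a.hom.left
  have ha₀ : a₀ ≫ D.obj.hom = pullback.fst p s₀.t := Over.w s₀.a.hom
  let inv : D.obj.left ⟶ pullback p s₀.t := pullback.lift D.obj.hom c hct.symm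
  have h1 : inv ≫ a₀ = 𝟙 _ := by
    have e1 : inv ≫ a₀ = (s₀.pt D.obj.hom c hct.symm).1 := (Sec.pt_val s₀ _ _ _).symm
    have k1 : D.obj.hom ≫ p = 𝟙 _ ≫ c ≫ s₀.t := by rw [Category.id_comp]; exact hct.symm
    have k2 : D.obj.hom ≫ p = (𝟙 _ ≫ c) ≫ s₀.t := by rw [Category.id_comp]; exact hct.symm
    have e2 := Sec.pre_pt s₀ c D.obj.hom (𝟙 _) k1 k2
    have e3 := Sec.pt_eq_of_eq hc D.obj.hom (𝟙 _) k1
      (by rw [Category.id_comp]; rfl)
    rw [e1, Sec.pt_congr s₀ hct.symm k2 rfl (Category.id_comp c).symm, ← e2, e3, actSec_pt]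
    exact φ_self' D _ _ (Category.id_comp _)
  have h2 : a₀ ≫ inv = 𝟙 _ := by
    apply pullback.hom_ext
    · rw [Category.assoc, pullback.lift_fst, ha₀, Category.id_comp]
    · rw [Category.assoc, pullback.lift_snd, Category.id_comp]
      apply r.homEquiv.injective
      rw [hrep, hrep, ← Sec.pre_pre, hc]
      have ht : ((actSec D).pre a₀).t = (s₀.pre (pullback.snd p s₀.t)).t := by
        change a₀ ≫ D.obj.hom ≫ p = pullback.snd p s₀.t ≫ s₀.t
        rw [← Category.assoc, ha₀, pullback.condition]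
      refine Sec.ext' ht fun T' x τ k₁ k₂ => ?_
      have k₁' : x ≫ p = (τ ≫ a₀) ≫ (actSec D).t := by rw [Category.assoc]; exact k₁
      have k₂' : x ≫ p = (τ ≫ pullback.snd p s₀.t) ≫ s₀.t := by rw [Category.assoc]; exact k₂
      rw [Sec.pre_pt (actSec D) a₀ x τ k₁ k₁', Sec.pre_pt s₀ _ x τ k₂ k₂', actSec_pt]
      have k₃ : (τ ≫ pullback.fst p s₀.t) ≫ p = (τ ≫ pullback.snd p s₀.t) ≫ s₀.t := by
        rw [Category.assoc, pullback.condition, Category.assoc]
      have hh : (τ ≫ pullback.fst p s₀.t) ≫ p = x ≫ p := k₃.trans k₂'.symm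
      rw [← Sec.pt_φ s₀ (τ ≫ pullback.fst p s₀.t) x (τ ≫ pullback.snd p s₀.t) k₃ k₂' hh]
      apply φ_congr
      · rw [Category.assoc, ha₀]
      · rfl
      · change τ ≫ a₀ = _
        rw [Sec.pt_val]
        congr 1
        apply pullback.hom_ext
        · rw [pullback.lift_fst]
        · rw [pullback.lift_snd]
  let ε : ((toDD p).obj (Over.mk s₀.t)).obj ≅ D.obj :=
    { hom := s₀.a.hom
      inv := Over.homMk inv (pullback.lift_fst _ _ _)
      hom_inv_id := by
        apply Over.OverMorphism.ext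
        exact h2
      inv_hom_id := by
        apply Over.OverMorphism.ext
        exact h1 }
  exact ⟨isoMk _ _ ε s₀.a.comm⟩

end Rep

section Main

variable (D : SchDD p)

include hp in
/-- Gluing of effective open sub-data realized by étale `S`-schemes, along a universally submersive
morphism; the descended scheme is étale over `S`. -/
theorem effective_of_open_cover_etale
    (h : ∀ v : D.obj.left, ∃ (D' : SchDD p) (j : D' ⟶ D), IsOpenImmersion j.hom.left ∧
      v ∈ Set.range j.hom.left.base ∧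
        ∃ U' : Over S, Etale U'.hom ∧ Nonempty ((toDD p).obj U' ≅ D')) :
    ∃ U : Over S, Etale U.hom ∧ Nonempty ((toDD p).obj U ≅ D) := by
  choose D' j hj hv U' hU' he using h
  let e : ∀ v, (toDD p).obj (U' v) ≅ D' v := fun v => (he v).some
  let F : Sheaf Scheme.zariskiTopology (Type u) :=
    ⟨descFunctor D, (isSheaf_iff_isSheaf_of_type _ _).2 (descFunctor_isSheaf D)⟩
  let Xi : D.obj.left → Scheme.{u} := fun v => (U' v).left
  let f : ∀ v, yoneda.obj (Xi v) ⟶ F.1 := fun v =>
    yonedaEquiv.symm (baseSec (j v) (U' v) (e v))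
  have key : ∀ (v : D.obj.left) (T : Scheme.{u}) (s : Sec D T),
      ∃ h₀ : (T₀' hp (j v) s : Scheme.{u}) ⟶ (U' v).left,
        (baseSec (j v) (U' v) (e v)).pre h₀ = s.pre (T₀' hp (j v) s).ι := by
    intro v T s
    have hι : Set.range (T₀' hp (j v) s).ι.base ⊆ (T₀' hp (j v) s : Set T) :=
      (Scheme.Opens.range_ι _).le
    haveI := hU' v
    exact exists_pre_eq' hp (j v) (U' v) (e v) (s.pre (T₀' hp (j v) s).ι)
      (range_pre_subset' hp (j v) s _ hι)
  have hf : ∀ v, MorphismProperty.presheaf (@IsOpenImmersion) (f v) := by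
    intro v
    haveI := hU' v
    apply PresheafRel.presheaf_isOpenImmersion
    intro T (s : Sec D T)
    obtain ⟨h₀, hh₀⟩ := key v T s
    refine ⟨(T₀' hp (j v) s : Scheme.{u}), (T₀' hp (j v) s).ι, h₀, inferInstance, hh₀, ?_⟩
    intro T' h' k hk
    change (baseSec (j v) (U' v) (e v)).pre h' = s.pre k at hk
    have hr : Set.range (s.pre k).a.hom.left.base ⊆ Set.range (j v).hom.left.base := by
      rw [← hk]
      exact range_baseSec_pre (j v) (U' v) (e v) h'
    have hk' := range_subset_T₀' hp (j v) s k hr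
    have hm : IsOpenImmersion.lift (T₀' hp (j v) s).ι k
        (by rw [Scheme.Opens.range_ι]; exact hk') ≫ (T₀' hp (j v) s).ι = k :=
      IsOpenImmersion.lift_fac _ _ _
    refine ⟨IsOpenImmersion.lift (T₀' hp (j v) s).ι k
      (by rw [Scheme.Opens.range_ι]; exact hk'), ?_, hm⟩
    apply baseSec_pre_injective' hp (j v) (U' v) (e v)
    rw [← Sec.pre_pre, hh₀, Sec.pre_pre, hm]
    exact hk.symm
  have hsurj : Presheaf.IsLocallySurjective Scheme.zariskiTopology (Sigma.desc f) := by
    constructor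
    intro T (s : Sec D T)
    have hcov : TopologicalSpace.IsOpenCover (fun v : D.obj.left => T₀' hp (j v) s) := by
      apply TopologicalSpace.IsOpenCover.mk
      rw [eq_top_iff]
      intro y _
      obtain ⟨z, hz⟩ := surjective_snd hp s.t y
      rw [TopologicalSpace.Opens.mem_iSup]
      refine ⟨s.a.hom.left.base z, z, ?_, hz⟩
      exact hv (s.a.hom.left.base z)
    let 𝓤 : T.OpenCover := T.openCoverOfIsOpenCover _ hcov
    refine Scheme.zariskiTopology.superset_covering ?_ 𝓤.mem_grothendieckTopology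
    rintro T' g ⟨Z, a, b, ⟨v⟩, rfl⟩
    apply Sieve.downward_closed
    obtain ⟨h₀, hh₀⟩ := key v T s
    refine ⟨(Sigma.ι (fun v => yoneda.obj (Xi v)) v).app _ h₀, ?_⟩
    have e1 : Sigma.ι (fun v => yoneda.obj (Xi v)) v ≫ Sigma.desc f = f v := Sigma.ι_desc _ _
    have e2 := congrArg (fun φ => φ.app (op (T₀' hp (j v) s : Scheme.{u})) h₀) e1
    exact e2.trans hh₀
  -- the representing object, glued from the `U' v`
  let r : (descFunctor D).RepresentableBy (Scheme.LocalRepresentability.glueData hf).glued :=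
    Scheme.LocalRepresentability.representableBy (F := F) (f := f) hf
  let s₀ : Sec D (Scheme.LocalRepresentability.glueData hf).glued := r.homEquiv (𝟙 _)
  refine ⟨Over.mk s₀.t, ?_, effective_of_representableBy' r⟩
  have hrep : ∀ {T : Scheme.{u}} (c : T ⟶ (Scheme.LocalRepresentability.glueData hf).glued),
      r.homEquiv c = s₀.pre c := by
    intro T c
    have := r.homEquiv_comp c (𝟙 _)
    rw [Category.comp_id] at this
    exact this
  have hloc : ∀ v, Scheme.LocalRepresentability.toGlued hf v ≫ s₀.t = (U' v).hom := by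
    intro v
    have h1 : r.homEquiv (Scheme.LocalRepresentability.toGlued hf v) = yonedaEquiv (f v) :=
      Scheme.LocalRepresentability.yonedaGluedToSheaf_app_toGlued hf (i := v)
    have h2 : yonedaEquiv (f v) = baseSec (j v) (U' v) (e v) := Equiv.apply_symm_apply _ _
    have h3 := Sec.t_eq_of_eq ((hrep _).symm.trans (h1.trans h2))
    exact h3
  change Etale s₀.t
  refine IsZariskiLocalAtSource.of_openCover (P := @Etale)
    (Scheme.LocalRepresentability.glueData hf).openCover ?_
  intro v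
  change Etale (Scheme.LocalRepresentability.toGlued hf v ≫ s₀.t)
  rw [hloc v]
  exact hU' v

end Main

end Groth.Agent.Lib.Helper46.EtDescGlue
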