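import Mathlib
import Groth.Prelude.Def_DescFam
import Groth.Prelude.Def_SGA1
import Groth.Agent.Lib.Helper46.EtDescGlue
import Groth.Agent.Lib.Helper46.DescBC
import Groth.Agent.Lib.Helper5.DescPull

/-!
# Effectiveness of étale descent data along a universally submersive morphism: base change and
Zariski localization on the base (helper46)
-/

set_option autoImplicit false
universe u
open CategoryTheory CategoryTheory.Limits AlgebraicGeometry Desc Opposite

namespace Groth.Agent.Lib.Helper46.EtDescLocal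

open Groth.Agent.Lib.Helper46.EtDescGlue Groth.Agent.Lib.Helper46.DescBC
  Groth.Agent.Lib.Helper5.DescPull Groth.Agent.Lib.Helper5.DescFunctor

set_option linter.style.haveILetI false

variable {S S' : Scheme.{u}} (g : S' ⟶ S)

/-- `D` is the canonical datum of an étale `S`-scheme. -/
def EffEt (D : SchDDFam (fun _ : PUnit.{1} => g)) : Prop :=
  ∃ U : Over S, Etale U.hom ∧ Nonempty ((toDDFam (fun _ : PUnit.{1} => g)).obj U ≅ D)

/-- The base change of a descent datum relative to `g` along `q : T ⟶ S`. -/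
noncomputable abbrev pullD {T : Scheme.{u}} (q : T ⟶ S) (D : SchDDFam (fun _ : PUnit.{1} => g)) :
    SchDDFam (fun _ : PUnit.{1} => pullback.snd g q) :=
  (pullDDFam (f := fun _ : PUnit.{1} => g) (f' := fun _ : PUnit.{1} => pullback.snd g q)
    (α := id) (p := q) (p' := fun _ => pullback.fst g q) (fun _ => pullback.condition)).obj D

variable {g}

/-- Effectiveness (by an étale scheme) is stable under base change. -/
theorem effEt_baseChange {D : SchDDFam (fun _ : PUnit.{1} => g)} {T : Scheme.{u}} (q : T ⟶ S)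
    (H : EffEt g D) : EffEt (pullback.snd g q) (pullD g q D) := by
  obtain ⟨U, hU, ⟨θ⟩⟩ := H
  refine ⟨bcOver U q, ?_, ⟨bcIso (f := fun _ : PUnit.{1} => g)
    (f' := fun _ : PUnit.{1} => pullback.snd g q) (α := id) (p := q)
    (p' := fun _ => pullback.fst g q) (fun _ => pullback.condition) U ≪≫
      (pullDDFam (f := fun _ : PUnit.{1} => g) (f' := fun _ : PUnit.{1} => pullback.snd g q)
        (α := id) (p := q) (p' := fun _ => pullback.fst g q)
        (fun _ => pullback.condition)).mapIso θ⟩⟩
  change Etale (pullback.snd U.hom q)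
  infer_instance

/-- Effectiveness (by an étale scheme) is Zariski-local on the base, for universally submersive
`g`. -/
theorem effEt_of_openCover (hg : SGA1.UnivSubmersive g) (D : SchDDFam (fun _ : PUnit.{1} => g))
    {ι : Type*} (V : ι → S.Opens) (hV : ⨆ i, V i = ⊤)
    (H : ∀ i, EffEt (pullback.snd g (V i).ι) (pullD g (V i).ι D)) : EffEt g D := by
  let D₁ : SchDD g := (SchDDFam.toSchDD g).obj D
  obtain ⟨U, hU, ⟨θ⟩⟩ := effective_of_open_cover_etale hg D₁ (by
    intro v
    have hs : g.base (D₁.obj.hom.base v) ∈ (⨆ i, V i : S.Opens) := by rw [hV]; trivial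
    obtain ⟨i, hi⟩ := TopologicalSpace.Opens.mem_iSup.mp hs
    obtain ⟨Ui, hUi, ⟨θi⟩⟩ := H i
    have hsq : IsPullback (pullback.fst g (V i).ι) (pullback.snd g (V i).ι) g (V i).ι :=
      IsPullback.of_hasPullback _ _
    let θ₁ : (toDD (pullback.snd g (V i).ι)).obj Ui ≅
        pullDD (V i).ι (pullback.fst g (V i).ι) pullback.condition D₁ :=
      (SchDDFam.toSchDD (pullback.snd g (V i).ι)).mapIso θi
    refine ⟨(toDD g).obj (Over.mk (bcSec D₁ hsq Ui θ₁).t), (bcSec D₁ hsq Ui θ₁).a, inferInstance, ?_,
      Over.mk (bcSec D₁ hsq Ui θ₁).t, ?_, ⟨Iso.refl _⟩⟩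
    · apply mem_range_bcSec
      rw [Scheme.Pullback.range_fst, Scheme.Opens.range_ι]
      exact hi
    · change Etale (Ui.hom ≫ (V i).ι)
      infer_instance)
  exact ⟨U, hU, ⟨(SchDDFam.ofSchDD g).mapIso θ⟩⟩

end Groth.Agent.Lib.Helper46.EtDescLocal
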