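import Mathlib
import Groth.Prelude.Def_DescFam
import Groth.Prelude.Def_SGA1
import Groth.Agent.Lib.Helper46.EtDescLocal
import Groth.Agent.Lib.Helper46.DescComp

/-!
# Effectiveness over `T` implies effectiveness over any `T' ⟶ T` (helper46)
-/

set_option autoImplicit false
universe u
open CategoryTheory CategoryTheory.Limits AlgebraicGeometry Desc Opposite

namespace Groth.Agent.Lib.Helper46.EtDescLocal

open Groth.Agent.Lib.Helper46.DescBC Groth.Agent.Lib.Helper46.DescComp

variable {S S' : Scheme.{u}} {g : S' ⟶ S}

/-- If the base change of `D` to `T` is effective (by an étale scheme), so is the base change to any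
`T'` mapping to `T` over `S`. -/
theorem effEt_of_factor {D : SchDDFam (fun _ : PUnit.{1} => g)} {T T' : Scheme.{u}} (q : T ⟶ S)
    (q' : T' ⟶ S) (h : T' ⟶ T) (hq : h ≫ q = q')
    (H : EffEt (pullback.snd g q) (pullD g q D)) : EffEt (pullback.snd g q') (pullD g q' D) := by
  obtain ⟨U, hU, ⟨θ⟩⟩ := H
  let m : pullback g q' ⟶ pullback g q :=
    pullback.lift (pullback.fst g q') (pullback.snd g q' ≫ h) (by
      rw [Category.assoc, hq]; exact pullback.condition)
  have w' : ∀ _ : PUnit.{1}, m ≫ pullback.snd g q = pullback.snd g q' ≫ h :=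
    fun _ => pullback.lift_snd _ _ _
  have hr' : ∀ _ : PUnit.{1}, pullback.fst g q' = m ≫ pullback.fst g q :=
    fun _ => (pullback.lift_fst _ _ _).symm
  refine ⟨bcOver U h, ?_, ⟨bcIso (f := fun _ : PUnit.{1} => pullback.snd g q)
      (f' := fun _ : PUnit.{1} => pullback.snd g q') (α := id) (p := h) (p' := fun _ => m) w' U ≪≫
    (pullDDFam (f := fun _ : PUnit.{1} => pullback.snd g q)
      (f' := fun _ : PUnit.{1} => pullback.snd g q') (α := id) (p := h) (p' := fun _ => m) w').mapIso θ ≪≫
    compIso (f := fun _ : PUnit.{1} => g) (f' := fun _ : PUnit.{1} => pullback.snd g q)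
      (f'' := fun _ : PUnit.{1} => pullback.snd g q') (α := id) (α' := id) (p := q) (q := h)
      (p' := fun _ => pullback.fst g q) (q' := fun _ => m) (fun _ => pullback.condition) w'
      (r := q') (r' := fun _ => pullback.fst g q') (fun _ => pullback.condition) hr' D⟩⟩
  change Etale (pullback.snd U.hom h)
  infer_instance

end Groth.Agent.Lib.Helper46.EtDescLocal
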