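import Mathlib
import Groth.Prelude.Def_DescFam
import Groth.Prelude.Def_SGA1
import Groth.Agent.Lib.Helper46.EtDescBC
import Groth.Agent.Lib.Helper50.StalkLim
import Groth.Agent.S9207

/-!
# Points of an étale descent datum covered by effective open sub-data (helper46)

`Good D₁ v`: the point `v` of the underlying scheme of the descent datum `D₁` lies in the image of an
open immersion of descent data `toDD U' ⟶ D₁` with `U'` étale over `S`.

* `effEt_of_good`: if all points over an open `W ⊆ S` are good, the base change of the datum to `W`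
  is effective (by an étale `W`-scheme).
* `exists_nhd_good`: if all points over the generizations of `a` are good, so are all points over
  an open neighbourhood of `a` (for a quasi-compact structure morphism).
-/

set_option autoImplicit false
universe u
open CategoryTheory CategoryTheory.Limits AlgebraicGeometry Desc Opposite

namespace Groth.Agent.Lib.Helper46.EtDescLocal

open Groth.Agent.Lib.Helper46.EtDescGlue Groth.Agent.Lib.Helper46.DescBC
  Groth.Agent.Lib.Helper46.EtDescFull Groth.Agent.Lib.Helper50.StalkLim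

set_option linter.style.haveILetI false

variable {S S' : Scheme.{u}} {g : S' ⟶ S}

/-- The point `v` lies in an effective open sub-datum realized by an étale `S`-scheme. -/
def Good (D₁ : SchDD g) (v : D₁.obj.left) : Prop :=
  ∃ (U' : Over S) (_ : Etale U'.hom) (j : (toDD g).obj U' ⟶ D₁),
    IsOpenImmersion j.hom.left ∧ v ∈ Set.range j.hom.left.base

lemma isOpen_setOf_good (D₁ : SchDD g) : IsOpen {v | Good D₁ v} := by
  rw [isOpen_iff_forall_mem_open]
  rintro v ⟨U', hU', j, hj, hv⟩
  refine ⟨Set.range j.hom.left.base, ?_, j.hom.left.isOpenEmbedding.isOpen_range, hv⟩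
  intro v' hv'
  exact ⟨U', hU', j, hj, hv'⟩

/-- If all points over the open `W` are good, the datum is effective over `W`. -/
theorem effEt_of_good (hg : SGA1.UnivSubmersive g) (D : SchDDFam (fun _ : PUnit.{1} => g))
    (W : S.Opens)
    (H : ∀ v : (D.obj PUnit.unit).left,
      ((D.obj PUnit.unit).hom ≫ g).base v ∈ W → Good ((SchDDFam.toSchDD g).obj D) v) :
    EffEt (pullback.snd g W.ι) (pullD g W.ι D) := by
  let D₁ : SchDD g := (SchDDFam.toSchDD g).obj D
  let DW : SchDD (pullback.snd g W.ι) := (SchDDFam.toSchDD (pullback.snd g W.ι)).obj (pullD g W.ι D)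
  obtain ⟨U, hU, ⟨θ⟩⟩ := effective_of_open_cover_etale (univSubmersive_snd hg W.ι) DW (by
    intro v
    -- the image of `v` in `D.left`
    let v₁ : (D.obj PUnit.unit).left :=
      (pullback.fst (D.obj PUnit.unit).hom (pullback.fst g W.ι)).base v
    have hv₁ : ((D.obj PUnit.unit).hom ≫ g).base v₁ ∈ W := by
      have e : pullback.fst (D.obj PUnit.unit).hom (pullback.fst g W.ι) ≫
          (D.obj PUnit.unit).hom ≫ g =
          (pullback.snd (D.obj PUnit.unit).hom (pullback.fst g W.ι) ≫ pullback.snd g W.ι) ≫ W.ι := by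
        rw [pullback.condition_assoc, pullback.condition, Category.assoc]
      have e' := congrArg (fun m => m.base v) e
      simp only [Scheme.Hom.comp_base, TopCat.hom_comp, ContinuousMap.comp_apply] at e'
      change (g.base ((D.obj PUnit.unit).hom.base v₁)) ∈ W
      rw [e']
      exact (Scheme.Opens.range_ι W).le ⟨_, rfl⟩
    obtain ⟨U', hU', j, hj, hvj⟩ := H v₁ hv₁
    -- the pulled back sub-datum
    let jF : (toDDFam (fun _ : PUnit.{1} => g)).obj U' ⟶ D := (SchDDFam.ofSchDD g).map j
    let jW : pullD g W.ι ((toDDFam (fun _ : PUnit.{1} => g)).obj U') ⟶ pullD g W.ι D :=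
      (pullDDFam (f := fun _ : PUnit.{1} => g) (f' := fun _ : PUnit.{1} => pullback.snd g W.ι)
        (α := id) (p := W.ι) (p' := fun _ => pullback.fst g W.ι)
        (fun _ => pullback.condition)).map jF
    let j₁ : (SchDDFam.toSchDD (pullback.snd g W.ι)).obj
        (pullD g W.ι ((toDDFam (fun _ : PUnit.{1} => g)).obj U')) ⟶ DW :=
      (SchDDFam.toSchDD (pullback.snd g W.ι)).map jW
    have hj₁ : j₁.hom.left = pullback.map (pullback.fst g U'.hom) (pullback.fst g W.ι)
        (D.obj PUnit.unit).hom (pullback.fst g W.ι) j.hom.left (𝟙 _) (𝟙 _)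
        (by rw [Category.comp_id]; exact (Over.w j.hom).symm) (by simp) := rfl
    obtain ⟨jl, hjl⟩ : ∃ jl : pullback g U'.hom ⟶ (D.obj PUnit.unit).left, jl = j.hom.left :=
      ⟨_, rfl⟩
    have hjw : pullback.fst g U'.hom ≫ 𝟙 S' = jl ≫ (D.obj PUnit.unit).hom := by
      rw [Category.comp_id, hjl]; exact (Over.w j.hom).symm
    have hj₁' : j₁.hom.left = pullback.map (pullback.fst g U'.hom) (pullback.fst g W.ι)
        (D.obj PUnit.unit).hom (pullback.fst g W.ι) jl (𝟙 _) (𝟙 _) hjw (by simp) := by
      subst hjl; exact hj₁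
    haveI : IsOpenImmersion jl := by rw [hjl]; exact hj
    refine ⟨_, j₁, ?_, ?_, bcOver U' W.ι, ?_, ⟨(SchDDFam.toSchDD (pullback.snd g W.ι)).mapIso
      (bcIso (f := fun _ : PUnit.{1} => g) (f' := fun _ : PUnit.{1} => pullback.snd g W.ι)
        (α := id) (p := W.ι) (p' := fun _ => pullback.fst g W.ι)
        (fun _ => pullback.condition) U')⟩⟩
    · rw [hj₁']
      exact Scheme.pullback_map_isOpenImmersion (pullback.fst g U'.hom) (pullback.fst g W.ι)
        (D.obj PUnit.unit).hom (pullback.fst g W.ι) jl (𝟙 _) (𝟙 _) hjw (by simp)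
    · rw [hj₁']
      have hr := Scheme.Pullback.range_map (pullback.fst g U'.hom) (pullback.fst g W.ι)
        (D.obj PUnit.unit).hom (pullback.fst g W.ι) jl (𝟙 _) (𝟙 _) hjw (by simp)
      refine hr.symm.le ⟨?_, ?_⟩
      · change v₁ ∈ Set.range jl
        rw [hjl]; exact hvj
      · exact ⟨_, rfl⟩
    · change Etale (pullback.snd U'.hom W.ι)
      infer_instance)
  exact ⟨U, hU, ⟨(SchDDFam.ofSchDD (pullback.snd g W.ι)).mapIso θ⟩⟩

/-- If all points over the generizations of `a` are good, so are all points over some open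
neighbourhood of `a`. -/
theorem exists_nhd_good (D₁ : SchDD g) [QuasiCompact (D₁.obj.hom ≫ g)] (a : S)
    (H : ∀ v : D₁.obj.left,
      (D₁.obj.hom ≫ g).base v ∈ Set.range (S.fromSpecStalk a).base → Good D₁ v) :
    ∃ W : S.Opens, a ∈ W ∧ ∀ v : D₁.obj.left, (D₁.obj.hom ≫ g).base v ∈ W → Good D₁ v := by
  classical
  obtain ⟨h, hh⟩ : ∃ h : D₁.obj.left ⟶ S, h = D₁.obj.hom ≫ g := ⟨_, rfl⟩
  haveI : QuasiCompact h := by rw [hh]; infer_instance
  rw [← hh] at H ⊢
  let Z₀ : TopologicalSpace.Closeds D₁.obj.left :=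
    ⟨{v | Good D₁ v}ᶜ, (isOpen_setOf_good D₁).isClosed_compl⟩
  let ι := (Scheme.IdealSheafData.vanishingIdeal Z₀).subschemeι
  have hι : Set.range ι = {v | Good D₁ v}ᶜ := by
    rw [Scheme.IdealSheafData.range_subschemeι,
      Scheme.IdealSheafData.coe_support_vanishingIdeal]
    rfl
  obtain ⟨V⟩ : Nonempty (AffNhd S a) := inferInstance
  haveI : IsAffine (V.1 : Scheme.{u}) := V.2.1
  let a' : pullback (ι ≫ h) V.1.ι ⟶ (V.1 : Scheme.{u}) := pullback.snd (ι ≫ h) V.1.ι
  haveI : QuasiCompact a' := MorphismProperty.pullback_snd (P := @QuasiCompact) _ _ inferInstance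
  haveI : CompactSpace ↥(pullback (ι ≫ h) V.1.ι) := QuasiCompact.compactSpace_of_compactSpace a'
  have hstage : ∃ (W' : AffNhd S a) (φ : W' ⟶ V),
      IsEmpty ↥(pullback a' ((nhdDiagram S a).map φ)) := by
    by_contra! Hne
    obtain ⟨w⟩ := Groth.Agent.S9207.aux (nhdDiagram S a) (nhdCone S a) (isLimitNhdCone S a) V a'
      (fun W' φ => Hne W' φ)
    let t := (pullback.fst a' ((nhdCone S a).π.app V)).base w
    let y := (pullback.snd a' ((nhdCone S a).π.app V)).base w
    have e1 : a'.base t = ((nhdCone S a).π.app V).base y := by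
      exact congrArg (fun m => m.base w) (pullback.condition (f := a') (g := (nhdCone S a).π.app V))
    let z' := (pullback.fst (ι ≫ h) V.1.ι).base t
    have e2 : h.base (ι.base z') = V.1.ι.base (a'.base t) := by
      exact congrArg (fun m => m.base t) (pullback.condition (f := ι ≫ h) (g := V.1.ι))
    have e3 : h.base (ι.base z') ∈ Set.range (S.fromSpecStalk a).base := by
      refine ⟨y, ?_⟩
      rw [e2, e1, nhdCone_π_app]
      exact (congrArg (fun m => m.base y) (Scheme.Opens.fromSpecStalkOfMem_ι V.1 a V.2.2)).symm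
    have e4 : ι.base z' ∈ {v | Good D₁ v}ᶜ := by rw [← hι]; exact ⟨z', rfl⟩
    exact e4 (H _ e3)
  obtain ⟨W', φ, hempty⟩ := hstage
  refine ⟨W'.1, W'.2.2, fun v hv => ?_⟩
  by_contra hvg
  have hvι : v ∈ Set.range ι := by rw [hι]; exact hvg
  obtain ⟨z', rfl⟩ := hvι
  -- the point of `V` under `v`
  have hle : W'.1 ≤ V.1 := leOfHom φ
  obtain ⟨s', hs'⟩ : ∃ s' : (W'.1 : Scheme.{u}), W'.1.ι.base s' = h.base (ι.base z') := by
    have : h.base (ι.base z') ∈ Set.range W'.1.ι.base := by
      rw [Scheme.Opens.range_ι]; exact hv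
    obtain ⟨s', hs'⟩ := this
    exact ⟨s', hs'⟩
  let s : (V.1 : Scheme.{u}) := ((nhdDiagram S a).map φ).base s'
  have hs : V.1.ι.base s = h.base (ι.base z') := by
    rw [← hs']
    exact congrArg (fun m => m.base s') (nhdDiagram_map_ι S a φ)
  obtain ⟨t, ht1, ht2⟩ := Scheme.Pullback.exists_preimage_pullback (f := ι ≫ h) (g := V.1.ι) z' s
    hs.symm
  obtain ⟨w, -, -⟩ := Scheme.Pullback.exists_preimage_pullback (f := a')
    (g := (nhdDiagram S a).map φ) t s' ht2
  exact hempty.false w

end Groth.Agent.Lib.Helper46.EtDescLocal
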