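import Mathlib

set_option autoImplicit false
universe u v
open CategoryTheory Limits

namespace Groth.Agent.Lib.Helper46

variable {C : Type u} [Category.{v} C] [HasPullbacks C]

/-- The canonical pullback square comparing the base changes of `p` along `w = v ≫ u` and
along `u`. -/
theorem isPullback_stage {X B T T' : C} (p : X ⟶ B) (u : T ⟶ B) (v : T' ⟶ T) (w : T' ⟶ B)
    (hw : v ≫ u = w) :
    IsPullback (pullback.lift (pullback.fst p w) (pullback.snd p w ≫ v)
      (by rw [Category.assoc, hw]; exact pullback.condition))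
      (pullback.snd p w) (pullback.snd p u) v := by
  refine IsPullback.of_right ?_ (pullback.lift_snd _ _ _) (IsPullback.of_hasPullback p u)
  rw [pullback.lift_fst, hw]
  exact IsPullback.of_hasPullback p w

/-- An isomorphism `X ×_B T ≅ Y ×_B T` over `T` induces an isomorphism `X ×_B T' ≅ Y ×_B T'`
over `T'` for every `T' ⟶ T`. -/
theorem exists_iso_pullback_of_iso {X Y B T T' : C} (p : X ⟶ B) (q : Y ⟶ B) (u : T ⟶ B)
    (v : T' ⟶ T) (w : T' ⟶ B) (hw : v ≫ u = w)
    (e : pullback p u ≅ pullback q u) (he : e.hom ≫ pullback.snd q u = pullback.snd p u) :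
    ∃ e' : pullback p w ≅ pullback q w, e'.hom ≫ pullback.snd q w = pullback.snd p w := by
  have hX := isPullback_stage p u v w hw
  have hY := isPullback_stage q u v w hw
  have h8 : IsPullback e.hom (pullback.snd p u) (pullback.snd q u) (𝟙 _) :=
    IsPullback.of_horiz_isIso ⟨by simp [he]⟩
  have hX' := hX.paste_horiz h8
  rw [Category.comp_id] at hX'
  exact ⟨hX'.isoIsPullback _ _ hY, hX'.isoIsPullback_hom_snd _ _ hY⟩

end Groth.Agent.Lib.Helper46
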