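import Mathlib
import Groth.Agent.Lib.Helper46.FlatStage

/-!
# Descent of flatness along cofiltered limits of schemes (Stacks 04AI / EGA IV 11.2.6)

Main result `exists_flat_app`: for a cartesian natural transformation `τ : F ⟶ E` of cofiltered
systems of schemes with affine transition maps, with limit `f : lim F ⟶ lim E` flat, `τ_{j₀}` locally
of finite presentation and `F_{j₀}` quasi-compact, some `τ_j` (`j ⟶ j₀`) is flat.

Ring-level input: `exists_flat_stage` (Stacks 02JO (3) for a general filtered colimit of rings),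
deduced from `FlatStage.exists_fg_flat` and compactness of finitely presented algebras.
-/

set_option autoImplicit false
set_option linter.style.haveILetI false
universe u
open CategoryTheory Limits TensorProduct AlgebraicGeometry

namespace Groth.Agent.Lib.Helper46.LimFlat

theorem flat_of_model {k₀ A B N A' R₁ : Type u} [CommRing k₀] [CommRing A] [CommRing B] [CommRing N]
    [CommRing A'] [CommRing R₁]
    [Algebra k₀ A] [Algebra A B] [Algebra k₀ N] (e₀ : A ⊗[k₀] N ≃ₐ[A] B)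
    [Algebra A A'] [Algebra k₀ A'] [IsScalarTower k₀ A A']
    [Algebra k₀ R₁] [Algebra R₁ A'] [IsScalarTower k₀ R₁ A']
    [Module.Flat R₁ (R₁ ⊗[k₀] N)] : Module.Flat A' (A' ⊗[A] B) := by
  have e1 : A' ⊗[A] B ≃ₗ[A'] A' ⊗[A] (A ⊗[k₀] N) :=
    TensorProduct.AlgebraTensorModule.congr (LinearEquiv.refl A' A') e₀.symm.toLinearEquiv
  have e2 : A' ⊗[A] (A ⊗[k₀] N) ≃ₗ[A'] A' ⊗[k₀] N :=
    TensorProduct.AlgebraTensorModule.cancelBaseChange k₀ A A' A' N
  have e3 : A' ⊗[R₁] (R₁ ⊗[k₀] N) ≃ₗ[A'] A' ⊗[k₀] N :=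
    TensorProduct.AlgebraTensorModule.cancelBaseChange k₀ R₁ A' A' N
  exact Module.Flat.of_linearEquiv (e1 ≪≫ₗ e2 ≪≫ₗ e3.symm)

theorem flat_model_of_flat {k₀ A B N A' : Type u} [CommRing k₀] [CommRing A] [CommRing B] [CommRing N]
    [CommRing A']
    [Algebra k₀ A] [Algebra A B] [Algebra k₀ N] (e₀ : A ⊗[k₀] N ≃ₐ[A] B)
    [Algebra A A'] [Algebra k₀ A'] [IsScalarTower k₀ A A']
    [Module.Flat A' (A' ⊗[A] B)] : Module.Flat A' (A' ⊗[k₀] N) := by
  have e1 : A' ⊗[A] B ≃ₗ[A'] A' ⊗[A] (A ⊗[k₀] N) :=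
    TensorProduct.AlgebraTensorModule.congr (LinearEquiv.refl A' A') e₀.symm.toLinearEquiv
  have e2 : A' ⊗[A] (A ⊗[k₀] N) ≃ₗ[A'] A' ⊗[k₀] N :=
    TensorProduct.AlgebraTensorModule.cancelBaseChange k₀ A A' A' N
  exact Module.Flat.of_linearEquiv (e1 ≪≫ₗ e2).symm

open Groth.Agent.Lib.Helper46.FlatStage in
theorem exists_flat_stage_aux (k₀ N A B : Type u) [CommRing k₀] [CommRing N] [CommRing A] [CommRing B]
    [Algebra k₀ N] [Algebra k₀ A] [Algebra A B] [Algebra.FiniteType ℤ k₀]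
    [Algebra.FinitePresentation k₀ N] (e₀ : A ⊗[k₀] N ≃ₐ[A] B)
    {J : Type u} [SmallCategory J] [IsFiltered J] (G : J ⥤ CommRingCat.{u}) (c : Cocone G)
    (hc : IsColimit c) (α : (Functor.const J).obj (CommRingCat.of A) ⟶ G) (j₀ : J)
    (hflat : letI : Algebra A c.pt := (α.app j₀ ≫ c.ι.app j₀).hom.toAlgebra
      Module.Flat c.pt (c.pt ⊗[A] B)) :
    ∃ k : J, letI : Algebra A (G.obj k) := (α.app k).hom.toAlgebra
      Module.Flat (G.obj k) (G.obj k ⊗[A] B) := by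
  classical
  haveI : IsNoetherianRing k₀ := Algebra.FiniteType.isNoetherianRing ℤ _
  letI algA : Algebra A c.pt := (α.app j₀ ≫ c.ι.app j₀).hom.toAlgebra
  letI algk : Algebra k₀ c.pt := ((algebraMap A c.pt).comp (algebraMap k₀ A)).toAlgebra
  haveI : IsScalarTower k₀ A c.pt := .of_algebraMap_eq fun _ => rfl
  haveI : Module.Flat c.pt (c.pt ⊗[A] B) := hflat
  have hfl : Module.Flat c.pt (c.pt ⊗[k₀] N) := flat_model_of_flat e₀
  obtain ⟨R₁, hR₁, hff⟩ := exists_fg_flat (k := k₀) (R := c.pt) (N := N) hfl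
  haveI : Algebra.FiniteType k₀ ↥R₁ := (Subalgebra.fg_iff_finiteType R₁).1 hR₁
  haveI : Algebra.FinitePresentation k₀ ↥R₁ := Algebra.FinitePresentation.of_finiteType.mp inferInstance
  -- all the composites `α.app i ≫ c.ι.app i` agree
  have hα : ∀ i, α.app i ≫ c.ι.app i = α.app j₀ ≫ c.ι.app j₀ := by
    intro i
    obtain ⟨l, a, b, -⟩ := IsFilteredOrEmpty.cocone_objs i j₀
    have h1 := α.naturality a
    have h2 := α.naturality b
    simp only [Functor.const_obj_obj, Functor.const_obj_map, Category.id_comp] at h1 h2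
    rw [← c.w a, ← c.w b, ← Category.assoc, ← Category.assoc, ← h1, ← h2]
  let f : CommRingCat.of k₀ ⟶ CommRingCat.of ↥R₁ := CommRingCat.ofHom (algebraMap k₀ ↥R₁)
  let α' : (Functor.const J).obj (CommRingCat.of k₀) ⟶ G :=
    (Functor.const J).map (CommRingCat.ofHom (algebraMap k₀ A)) ≫ α
  let g : CommRingCat.of ↥R₁ ⟶ c.pt := CommRingCat.ofHom R₁.val.toRingHom
  have hg : ∀ i, f ≫ g = α'.app i ≫ c.ι.app i := by
    intro i
    simp only [α', NatTrans.comp_app, Functor.const_map_app, Category.assoc, hα i]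
    rfl
  obtain ⟨i, g', hg'1, hg'2⟩ := RingHom.EssFiniteType.exists_eq_comp_ι_app_of_isColimit
    (CommRingCat.of k₀) G α' f c hc
    (by
      change (algebraMap k₀ ↥R₁).FinitePresentation
      exact RingHom.finitePresentation_algebraMap.mpr inferInstance) g hg
  refine ⟨i, ?_⟩
  letI algAi : Algebra A (G.obj i) := (α.app i).hom.toAlgebra
  letI algki : Algebra k₀ (G.obj i) := ((algebraMap A (G.obj i)).comp (algebraMap k₀ A)).toAlgebra
  haveI : IsScalarTower k₀ A (G.obj i) := .of_algebraMap_eq fun _ => rfl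
  letI algR : Algebra ↥R₁ (G.obj i) := g'.hom.toAlgebra
  haveI : IsScalarTower k₀ ↥R₁ (G.obj i) := .of_algebraMap_eq fun x => by
    have := congr($(hg'1).hom x)
    exact this.symm
  exact flat_of_model (k₀ := k₀) (R₁ := ↥R₁) e₀

theorem exists_flat_stage {A B : Type u} [CommRing A] [CommRing B]
    [Algebra A B] [Algebra.FinitePresentation A B]
    {J : Type u} [SmallCategory J] [IsFiltered J] (G : J ⥤ CommRingCat.{u}) (c : Cocone G)
    (hc : IsColimit c) (α : (Functor.const J).obj (CommRingCat.of A) ⟶ G) (j₀ : J)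
    (hflat : letI : Algebra A c.pt := (α.app j₀ ≫ c.ι.app j₀).hom.toAlgebra
      Module.Flat c.pt (c.pt ⊗[A] B)) :
    ∃ k : J, letI : Algebra A (G.obj k) := (α.app k).hom.toAlgebra
      Module.Flat (G.obj k) (G.obj k ⊗[A] B) :=
  exists_flat_stage_aux (Algebra.Presentation.ofFinitePresentation A B).Core
    ((Algebra.Presentation.ofFinitePresentation A B).ModelOfHasCoeffs
      (Algebra.Presentation.ofFinitePresentation A B).Core) A B
    ((Algebra.Presentation.ofFinitePresentation A B).tensorModelOfHasCoeffsEquiv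
      (Algebra.Presentation.ofFinitePresentation A B).Core) G c hc α j₀ hflat

theorem flat_inr_iff_of_isPushout {R S T P : CommRingCat.{u}} {f : R ⟶ S} {g : R ⟶ T}
    {inl : S ⟶ P} {inr : T ⟶ P} (H : IsPushout f g inl inr) :
    inr.hom.Flat ↔ (letI : Algebra R S := f.hom.toAlgebra
      letI : Algebra R T := g.hom.toAlgebra
      Module.Flat T (T ⊗[R] S)) := by
  letI : Algebra R S := f.hom.toAlgebra
  letI : Algebra R T := g.hom.toAlgebra
  have H' := CommRingCat.isPushout_tensorProduct R T S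
  let e := H'.isoIsPushout _ _ H.flip
  have he : CommRingCat.ofHom (Algebra.TensorProduct.includeLeftRingHom (R := R) (A := T) (B := S)) ≫ e.hom = inr :=
    IsPushout.inl_isoIsPushout_hom _ _ H' H.flip
  rw [← he, CommRingCat.hom_comp, RingHom.Flat.respectsIso.cancel_right_isIso]
  exact RingHom.flat_algebraMap_iff (R := T) (S := T ⊗[R] S)

lemma flat_tensor_congr {R S T : Type u} [CommRing R] [CommRing S] [CommRing T] [Algebra R S]
    {g g' : R →+* T} (h : g = g') :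
    (letI : Algebra R T := g.toAlgebra; Module.Flat T (T ⊗[R] S)) ↔
      (letI : Algebra R T := g'.toAlgebra; Module.Flat T (T ⊗[R] S)) := by
  subst h; rfl

lemma appLE_top_top {X Y : Scheme.{u}} (f : X ⟶ Y) (e : (⊤ : X.Opens) ≤ f ⁻¹ᵁ ⊤) :
    f.appLE ⊤ ⊤ e = f.appTop := by
  simp [Scheme.Hom.appLE]

theorem exists_flat_app_of_isAffine {J : Type u} [SmallCategory J] [IsCofiltered J]
    {F E : J ⥤ Scheme.{u}} (τ : F ⟶ E)
    [∀ (i j : J) (f : i ⟶ j), IsAffineHom (E.map f)]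
    [∀ j, IsAffine (E.obj j)] [∀ j, IsAffine (F.obj j)]
    (cF : Cone F) (cE : Cone E) (hcE : IsLimit cE) (f : cF.pt ⟶ cE.pt)
    (hcart : ∀ {j k : J} (φ : k ⟶ j), IsPullback (F.map φ) (τ.app k) (τ.app j) (E.map φ))
    (hlim : ∀ j, IsPullback (cF.π.app j) f (τ.app j) (cE.π.app j))
    (j₀ : J) (hj₀ : IsTerminal j₀) [LocallyOfFinitePresentation (τ.app j₀)] [Flat f] :
    ∃ k : J, Flat (τ.app k) := by
  have hπ : IsAffineHom (cE.π.app j₀) := isAffineHom_π_app E cE hcE j₀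
  have : IsAffine cE.pt := isAffine_of_isAffineHom (cE.π.app j₀)
  have : IsAffineHom f := MorphismProperty.of_isPullback (P := @IsAffineHom) (hlim j₀) inferInstance
  have : IsAffine cF.pt := isAffine_of_isAffineHom f
  -- the rings
  let φ : Γ(E.obj j₀, ⊤) ⟶ Γ(F.obj j₀, ⊤) := (τ.app j₀).appTop
  letI algAB : Algebra Γ(E.obj j₀, ⊤) Γ(F.obj j₀, ⊤) := φ.hom.toAlgebra
  haveI : Algebra.FinitePresentation Γ(E.obj j₀, ⊤) Γ(F.obj j₀, ⊤) := by
    have := (HasRingHomProperty.iff_of_isAffine (P := @LocallyOfFinitePresentation)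
      (f := τ.app j₀)).mp inferInstance
    exact RingHom.finitePresentation_algebraMap.mp this
  let G : Jᵒᵖ ⥤ CommRingCat.{u} := E.op ⋙ Scheme.Γ
  let c : Cocone G := Scheme.Γ.mapCocone cE.op
  obtain ⟨hc⟩ : Nonempty (IsColimit c) := nonempty_isColimit_Γ_mapCocone E cE hcE
  let α : (Functor.const Jᵒᵖ).obj (CommRingCat.of Γ(E.obj j₀, ⊤)) ⟶ G :=
    { app := fun k => (E.map (hj₀.from k.unop)).appTop
      naturality := fun k k' ψ => by
        have h : E.map ψ.unop ≫ E.map (hj₀.from k.unop) = E.map (hj₀.from k'.unop) := by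
          rw [← E.map_comp]; congr 1; exact hj₀.hom_ext _ _
        have h2 := congr(Scheme.Hom.appTop $h)
        rw [Scheme.Hom.comp_appTop] at h2
        simp only [Functor.const_obj_obj, Functor.const_obj_map, Category.id_comp, G,
          Functor.comp_map, Functor.op_map, Scheme.Γ_map, Quiver.Hom.unop_op]
        exact h2.symm }
  -- the pushout at the limit
  have hUY : (⊤ : cF.pt.Opens) = cF.π.app j₀ ⁻¹ᵁ ⊤ ⊓ f ⁻¹ᵁ ⊤ := by simp
  have hpo := (isIso_pushoutSection_iff (hlim j₀) (US := ⊤) (UT := ⊤) (UX := ⊤)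
    (by simp) (by simp) hUY).mp
    (isIso_pushoutSection_of_isAffineOpen (hlim j₀) (by simp) (by simp) hUY (isAffineOpen_top _)
      (isAffineOpen_top _) (isAffineOpen_top _))
  simp only [appLE_top_top] at hpo
  have hfl : (f.appTop).hom.Flat := HasRingHomProperty.appTop (P := @Flat) f inferInstance
  have h1 := (flat_inr_iff_of_isPushout hpo).mp hfl
  have hflat : (letI : Algebra Γ(E.obj j₀, ⊤) c.pt := (α.app (.op j₀) ≫ c.ι.app (.op j₀)).hom.toAlgebra
      Module.Flat c.pt (c.pt ⊗[Γ(E.obj j₀, ⊤)] Γ(F.obj j₀, ⊤))) := by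
    refine (flat_tensor_congr ?_).mp h1
    have : hj₀.from j₀ = 𝟙 j₀ := hj₀.hom_ext _ _
    simp [α, c, this]
    rfl
  obtain ⟨k, hk⟩ := exists_flat_stage G c hc α (.op j₀) hflat
  refine ⟨k.unop, ?_⟩
  have hUY' : (⊤ : (F.obj k.unop).Opens) = F.map (hj₀.from k.unop) ⁻¹ᵁ ⊤ ⊓ τ.app k.unop ⁻¹ᵁ ⊤ := by
    simp
  have hpo' := (isIso_pushoutSection_iff (hcart (hj₀.from k.unop)) (US := ⊤) (UT := ⊤) (UX := ⊤)
    (by simp) (by simp) hUY').mp
    (isIso_pushoutSection_of_isAffineOpen (hcart (hj₀.from k.unop)) (by simp) (by simp) hUY'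
      (isAffineOpen_top _) (isAffineOpen_top _) (isAffineOpen_top _))
  simp only [appLE_top_top] at hpo'
  rw [HasRingHomProperty.iff_of_isAffine (P := @Flat)]
  exact (flat_inr_iff_of_isPushout hpo').mpr hk

section General

variable {J : Type u} [SmallCategory J] {F E : J ⥤ Scheme.{u}} (τ : F ⟶ E)

lemma preimage_le_of_le {j₀ : J} {V : (E.obj j₀).Opens} {W : (F.obj j₀).Opens}
    (hWV : W ≤ τ.app j₀ ⁻¹ᵁ V) (k : Over j₀) :
    F.map k.hom ⁻¹ᵁ W ≤ τ.app k.left ⁻¹ᵁ (E.map k.hom ⁻¹ᵁ V) := by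
  refine (Scheme.Hom.preimage_mono _ hWV).trans (le_of_eq ?_)
  rw [← Scheme.Hom.comp_preimage, ← Scheme.Hom.comp_preimage, τ.naturality]

set_option backward.isDefEq.respectTransparency false in
/-- The restriction of a natural transformation to the diagrams of preimages of opens. -/
noncomputable def opensNatTrans (j₀ : J) (V : (E.obj j₀).Opens) (W : (F.obj j₀).Opens)
    (hWV : W ≤ τ.app j₀ ⁻¹ᵁ V) : opensDiagram F j₀ W ⟶ opensDiagram E j₀ V where
  app k := (τ.app k.left).resLE _ _ (preimage_le_of_le τ hWV k)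
  naturality k k' ψ := by
    rw [← cancel_mono (Scheme.Opens.ι _)]
    simp only [opensDiagram_obj, opensDiagram_map, Category.assoc, Scheme.Hom.resLE_comp_ι,
      Scheme.Hom.resLE_comp_ι_assoc]
    rw [τ.naturality]

set_option backward.isDefEq.respectTransparency false in
@[simp] lemma opensNatTrans_app (j₀ : J) (V : (E.obj j₀).Opens) (W : (F.obj j₀).Opens)
    (hWV : W ≤ τ.app j₀ ⁻¹ᵁ V) (k : Over j₀) :
    (opensNatTrans τ j₀ V W hWV).app k =
      (τ.app k.left).resLE _ _ (preimage_le_of_le τ hWV k) := rfl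

variable [IsCofiltered J]
    [∀ (i j : J) (f : i ⟶ j), IsAffineHom (F.map f)]
    [∀ (i j : J) (f : i ⟶ j), IsAffineHom (E.map f)]
    (cF : Cone F) (cE : Cone E) (hcE : IsLimit cE) (f : cF.pt ⟶ cE.pt)
    (hcart : ∀ {j k : J} (φ : k ⟶ j), IsPullback (F.map φ) (τ.app k) (τ.app j) (E.map φ))
    (hlim : ∀ j, IsPullback (cF.π.app j) f (τ.app j) (cE.π.app j))

include hlim in
omit [IsCofiltered J] [∀ (i j : J) (f : i ⟶ j), IsAffineHom (F.map f)]
  [∀ (i j : J) (f : i ⟶ j), IsAffineHom (E.map f)] in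
lemma preimage_le_of_le_lim {j₀ : J} {V : (E.obj j₀).Opens} {W : (F.obj j₀).Opens}
    (hWV : W ≤ τ.app j₀ ⁻¹ᵁ V) :
    cF.π.app j₀ ⁻¹ᵁ W ≤ f ⁻¹ᵁ (cE.π.app j₀ ⁻¹ᵁ V) := by
  refine (Scheme.Hom.preimage_mono _ hWV).trans (le_of_eq ?_)
  rw [← Scheme.Hom.comp_preimage, ← Scheme.Hom.comp_preimage, (hlim j₀).w]

set_option backward.isDefEq.respectTransparency false in
include hcE hcart hlim in
theorem exists_flat_restrict (j₀ : J) [LocallyOfFinitePresentation (τ.app j₀)] [Flat f]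
    {V : (E.obj j₀).Opens} (hV : IsAffineOpen V) {W : (F.obj j₀).Opens} (hW : IsAffineOpen W)
    (hWV : W ≤ τ.app j₀ ⁻¹ᵁ V) :
    ∃ k : Over j₀, Flat ((F.map k.hom ⁻¹ᵁ W).ι ≫ τ.app k.left) := by
  haveI : ∀ {i j : J} (f : i ⟶ j), IsAffineHom (E.map f) := fun f => inferInstance
  haveI : ∀ {i j : J} (f : i ⟶ j), IsAffineHom (F.map f) := fun f => inferInstance
  have hcE' : IsLimit (opensCone E cE j₀ V) := isLimitOpensCone E cE hcE j₀ V
  haveI : ∀ k, IsAffine ((opensDiagram E j₀ V).obj k) := fun k => hV.preimage (E.map k.hom)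
  haveI : ∀ k, IsAffine ((opensDiagram F j₀ W).obj k) := fun k => hW.preimage (F.map k.hom)
  haveI : ∀ (i j : Over j₀) (f : i ⟶ j), IsAffineHom ((opensDiagram E j₀ V).map f) :=
    fun i j f => inferInstance
  have hmapE : ∀ {k k' : Over j₀} (ψ : k' ⟶ k),
      E.map k'.hom ⁻¹ᵁ V = E.map ψ.left ⁻¹ᵁ (E.map k.hom ⁻¹ᵁ V) := by
    intro k k' ψ
    rw [← Scheme.Hom.comp_preimage, ← E.map_comp, Over.w ψ]
  have hmapF : ∀ {k k' : Over j₀} (ψ : k' ⟶ k),
      F.map k'.hom ⁻¹ᵁ W = F.map ψ.left ⁻¹ᵁ (F.map k.hom ⁻¹ᵁ W) := by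
    intro k k' ψ
    rw [← Scheme.Hom.comp_preimage, ← F.map_comp, Over.w ψ]
  have hcart' : ∀ {k k' : Over j₀} (ψ : k' ⟶ k),
      IsPullback ((opensDiagram F j₀ W).map ψ) ((opensNatTrans τ j₀ V W hWV).app k')
        ((opensNatTrans τ j₀ V W hWV).app k) ((opensDiagram E j₀ V).map ψ) := by
    intro k k' ψ
    have h2 : F.map k'.hom ⁻¹ᵁ W = F.map ψ.left ⁻¹ᵁ (F.map k.hom ⁻¹ᵁ W) ⊓
        τ.app k'.left ⁻¹ᵁ (E.map k'.hom ⁻¹ᵁ V) := by
      rw [← hmapF ψ]
      exact (inf_eq_left.mpr (preimage_le_of_le τ hWV k')).symm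
    exact Scheme.Hom.isPullback_resLE (hcart ψ.left) (hmapE ψ).le (preimage_le_of_le τ hWV k) h2
  have hlim' : ∀ k : Over j₀, IsPullback ((opensCone F cF j₀ W).π.app k)
      (f.resLE _ _ (preimage_le_of_le_lim τ cF cE f hlim hWV))
      ((opensNatTrans τ j₀ V W hWV).app k) ((opensCone E cE j₀ V).π.app k) := by
    intro k
    have h1 : cE.π.app j₀ ⁻¹ᵁ V ≤ cE.π.app k.left ⁻¹ᵁ (E.map k.hom ⁻¹ᵁ V) := by
      rw [← Scheme.Hom.comp_preimage, cE.w]
    have h2 : cF.π.app j₀ ⁻¹ᵁ W = cF.π.app k.left ⁻¹ᵁ (F.map k.hom ⁻¹ᵁ W) ⊓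
        f ⁻¹ᵁ (cE.π.app j₀ ⁻¹ᵁ V) := by
      have : cF.π.app k.left ⁻¹ᵁ (F.map k.hom ⁻¹ᵁ W) = cF.π.app j₀ ⁻¹ᵁ W := by
        rw [← Scheme.Hom.comp_preimage, cF.w]
      rw [this]
      exact (inf_eq_left.mpr (preimage_le_of_le_lim τ cF cE f hlim hWV)).symm
    exact Scheme.Hom.isPullback_resLE (hlim k.left) h1 (preimage_le_of_le τ hWV k) h2
  haveI : LocallyOfFinitePresentation (τ.app (Over.mk (𝟙 j₀)).left) :=
    inferInstanceAs (LocallyOfFinitePresentation (τ.app j₀))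
  haveI : LocallyOfFinitePresentation ((opensNatTrans τ j₀ V W hWV).app (Over.mk (𝟙 j₀))) := by
    rw [opensNatTrans_app]
    infer_instance
  obtain ⟨k, hk⟩ := exists_flat_app_of_isAffine (opensNatTrans τ j₀ V W hWV) (opensCone F cF j₀ W)
    (opensCone E cE j₀ V) hcE' (f.resLE _ _ (preimage_le_of_le_lim τ cF cE f hlim hWV))
    hcart' hlim' (Over.mk (𝟙 j₀)) Over.mkIdTerminal
  refine ⟨k, ?_⟩
  have : (F.map k.hom ⁻¹ᵁ W).ι ≫ τ.app k.left =
      (opensNatTrans τ j₀ V W hWV).app k ≫ (E.map k.hom ⁻¹ᵁ V).ι := by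
    simp
  rw [this]
  haveI := hk
  infer_instance

lemma flat_ι_comp_of_eq {X Y : Scheme.{u}} (g : X ⟶ Y) {U U' : X.Opens} (e : U = U')
    (h : Flat (U'.ι ≫ g)) : Flat (U.ι ≫ g) := by
  subst e; exact h

include hcart in
omit [IsCofiltered J] [∀ (i j : J) (f : i ⟶ j), IsAffineHom (F.map f)]
  [∀ (i j : J) (f : i ⟶ j), IsAffineHom (E.map f)] in
lemma flat_ι_comp_of_hom {k k' : J} (ψ : k' ⟶ k) (U : (F.obj k).Opens)
    (h : Flat (U.ι ≫ τ.app k)) : Flat ((F.map ψ ⁻¹ᵁ U).ι ≫ τ.app k') := by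
  have h1 := (isPullback_morphismRestrict (F.map ψ) U).paste_vert (hcart ψ)
  exact MorphismProperty.of_isPullback (P := @Flat) h1 h

include hcE hcart hlim in
theorem exists_flat_app (j₀ : J) [CompactSpace (F.obj j₀)]
    [LocallyOfFinitePresentation (τ.app j₀)] [Flat f] :
    ∃ (j : J) (_ : j ⟶ j₀), Flat (τ.app j) := by
  classical
  -- choose affine opens
  have key : ∀ x : F.obj j₀, ∃ (V : (E.obj j₀).Opens) (W : (F.obj j₀).Opens),
      IsAffineOpen V ∧ IsAffineOpen W ∧ x ∈ W ∧ W ≤ τ.app j₀ ⁻¹ᵁ V := by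
    intro x
    obtain ⟨_, ⟨V, hV : IsAffineOpen V, rfl⟩, hxV, -⟩ :=
      (E.obj j₀).isBasis_affineOpens.exists_subset_of_mem_open
        (Set.mem_univ ((τ.app j₀).base x)) isOpen_univ
    obtain ⟨_, ⟨W, hW : IsAffineOpen W, rfl⟩, hxW, hWV⟩ :=
      (F.obj j₀).isBasis_affineOpens.exists_subset_of_mem_open
        (show x ∈ (τ.app j₀ ⁻¹ᵁ V : Set (F.obj j₀)) from hxV) (τ.app j₀ ⁻¹ᵁ V).isOpen
    exact ⟨V, W, hV, hW, hxW, hWV⟩
  choose V W hV hW hxW hWV using key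
  obtain ⟨t, ht⟩ := isCompact_univ.elim_finite_subcover (fun x => (W x : Set (F.obj j₀)))
    (fun x => (W x).isOpen) (fun x _ => Set.mem_iUnion.mpr ⟨x, hxW x⟩)
  have hk : ∀ x : F.obj j₀, ∃ k : Over j₀, Flat ((F.map k.hom ⁻¹ᵁ W x).ι ≫ τ.app k.left) :=
    fun x => exists_flat_restrict τ cF cE hcE f hcart hlim j₀ (hV x) (hW x) (hWV x)
  choose kx hkx using hk
  obtain ⟨k, hkS⟩ := IsCofiltered.inf_objs_exists (t.image kx)
  have hψ : ∀ x ∈ t, Nonempty (k ⟶ kx x) := fun x hx => hkS (Finset.mem_image_of_mem kx hx)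
  refine ⟨k.left, k.hom, ?_⟩
  refine IsZariskiLocalAtSource.of_iSup_eq_top (P := @Flat) (fun x : t => F.map k.hom ⁻¹ᵁ W x.1) ?_ ?_
  · ext y
    simp only [TopologicalSpace.Opens.coe_iSup, Set.mem_iUnion, TopologicalSpace.Opens.coe_top,
      Set.mem_univ, iff_true]
    obtain ⟨_, ⟨x, rfl⟩, hx⟩ := ht (Set.mem_univ ((F.map k.hom).base y))
    simp only [Set.mem_iUnion] at hx
    obtain ⟨hxt, hy⟩ := hx
    exact ⟨⟨x, hxt⟩, hy⟩
  · rintro ⟨x, hx⟩
    obtain ⟨ψ⟩ := hψ x hx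
    have e : F.map k.hom ⁻¹ᵁ W x = F.map ψ.left ⁻¹ᵁ (F.map (kx x).hom ⁻¹ᵁ W x) := by
      rw [← Scheme.Hom.comp_preimage, ← F.map_comp, Over.w ψ]
    exact flat_ι_comp_of_eq _ e (flat_ι_comp_of_hom τ hcart ψ.left _ (hkx x))

end General

end Groth.Agent.Lib.Helper46.LimFlat
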