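import Mathlib
import Groth.Prelude.Def_DescFam
import Groth.Prelude.Def_SGA1
import Groth.Agent.Lib.Helper46.EtDescGood
import Groth.Agent.Lib.Helper46.PullbackStage
import Groth.Agent.Lib.Helper50.OverLim
import Groth.Agent.Lib.Helper50.OverLimMono
import Groth.Agent.S2580
import Groth.Agent.S9192
import Groth.Agent.S0591

/-!
# Spreading out an effective open sub-datum of an étale descent datum from a cofiltered limit of
open subschemes of the base to a finite stage (helper46)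

Part 1: stage objects and the section attached to a morphism at a finite stage.
-/

set_option autoImplicit false
universe u
open CategoryTheory CategoryTheory.Limits AlgebraicGeometry Desc Opposite

namespace Groth.Agent.Lib.Helper46.EtDescStage

open Groth.Agent.Lib.Helper50 Groth.Agent.Lib.Helper50.StageSetup Groth.Agent.Lib.Helper50.OverLim
  Groth.Agent.Lib.Helper5.AffCore Groth.Agent.Lib.Helper5.DescFunctor

set_option linter.style.haveILetI false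

section variants

variable {I : Type u} [SmallCategory I] [IsCofiltered I]
    (D : I ⥤ Scheme.{u}) (c : Limits.Cone D) (hc : Limits.IsLimit c)
    [∀ (i j : I) (f : i ⟶ j), IsAffineHom (D.map f)] (i₀ : I)

include hc in
/-- Injectivity with an external base `B`. -/
theorem exists_trans_comp_eq' {X : Over (D.obj i₀)} [CompactSpace X.left] {Y B : Scheme.{u}}
    (β : X.left ⟶ B) (y : Y ⟶ B) [LocallyOfFiniteType y] (k : Over i₀)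
    (a b : pullback X.hom (D.map k.hom) ⟶ Y)
    (ha : a ≫ y = pullback.fst X.hom (D.map k.hom) ≫ β)
    (hb : b ≫ y = pullback.fst X.hom (D.map k.hom) ≫ β)
    (h : proj D c i₀ X k ≫ a = proj D c i₀ X k ≫ b) :
    ∃ (k' : Over i₀) (φ : k' ⟶ k), trans D i₀ X φ ≫ a = trans D i₀ X φ ≫ b := by
  let t : E D i₀ X.hom ⟶ (Functor.const (Over i₀)).obj B :=
    { app := fun l ↦ pullback.fst X.hom (D.map l.hom) ≫ β
      naturality := fun l m φ ↦ by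
        dsimp only [Functor.const_obj_obj, Functor.const_obj_map]
        rw [Category.comp_id]
        exact bcDiagram_map_fst_assoc _ _ _ _ φ _ }
  have h1 : ∀ {l m : Over i₀} (φ : l ⟶ m), IsAffineHom ((E D i₀ X.hom).map φ) :=
    fun φ ↦ inferInstance
  have h2 : ∀ l : Over i₀, CompactSpace ((E D i₀ X.hom).obj l) := compactSpace_E D i₀ X.hom
  exact Scheme.exists_hom_comp_eq_comp_of_locallyOfFiniteType (E D i₀ X.hom) t y
    (cE D c i₀ X.hom (pullback.snd X.hom (c.π.app i₀)) (pullback.fst X.hom (c.π.app i₀))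
      (IsPullback.of_hasPullback _ _))
    (hcE D c hc i₀ X.hom _ _ (IsPullback.of_hasPullback _ _)) a b ha.symm hb.symm h

include hc in
/-- Surjectivity with an external base `B`. -/
theorem exists_proj_comp_eq' {X : Over (D.obj i₀)} [CompactSpace X.left]
    [QuasiSeparatedSpace X.left] {Y B : Scheme.{u}} (β : X.left ⟶ B)
    (y : Y ⟶ B) [LocallyOfFinitePresentation y]
    (a : pullback X.hom (c.π.app i₀) ⟶ Y)
    (ha : a ≫ y = pullback.fst X.hom (c.π.app i₀) ≫ β) :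
    ∃ (k : Over i₀) (θ : pullback X.hom (D.map k.hom) ⟶ Y),
      θ ≫ y = pullback.fst X.hom (D.map k.hom) ≫ β ∧ proj D c i₀ X k ≫ θ = a := by
  let t : E D i₀ X.hom ⟶ (Functor.const (Over i₀)).obj B :=
    { app := fun l ↦ pullback.fst X.hom (D.map l.hom) ≫ β
      naturality := fun l m φ ↦ by
        dsimp only [Functor.const_obj_obj, Functor.const_obj_map]
        rw [Category.comp_id]
        exact bcDiagram_map_fst_assoc _ _ _ _ φ _ }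
  have h1 : ∀ {l m : Over i₀} (φ : l ⟶ m), IsAffineHom ((E D i₀ X.hom).map φ) :=
    fun φ ↦ inferInstance
  have h2 : ∀ l : Over i₀, CompactSpace ((E D i₀ X.hom).obj l) := compactSpace_E D i₀ X.hom
  have h3 : ∀ l : Over i₀, QuasiSeparatedSpace ((E D i₀ X.hom).obj l) :=
    quasiSeparatedSpace_E D i₀ X.hom
  obtain ⟨k, θ, hθ1, hθ2⟩ := Scheme.exists_π_app_comp_eq_of_locallyOfFinitePresentation
    (E D i₀ X.hom) t y
    (cE D c i₀ X.hom (pullback.snd X.hom (c.π.app i₀)) (pullback.fst X.hom (c.π.app i₀))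
      (IsPullback.of_hasPullback _ _))
    (hcE D c hc i₀ X.hom _ _ (IsPullback.of_hasPullback _ _)) a (by
      ext l
      simp only [NatTrans.comp_app, Functor.const_map_app]
      exact (proj_fst_assoc D c i₀ X l β).trans ha.symm)
  exact ⟨k, θ, hθ2, hθ1⟩

end variants


section Stage

variable {I : Type u} [SmallCategory I]
    (Dg : I ⥤ Scheme.{u})
    {S S' : Scheme.{u}} (g : S' ⟶ S)
    (s : ∀ i, Dg.obj i ⟶ S) (hs : ∀ {i j : I} (φ : i ⟶ j), Dg.map φ ≫ s j = s i)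
    (i₀ : I) {Ω₀ : Scheme.{u}} (f₀ : Ω₀ ⟶ Dg.obj i₀)

/-- `S' ×_S Ω₀` as a scheme over the stage `i₀`. -/
noncomputable abbrev XX : Over (Dg.obj i₀) := Over.mk (pullback.snd g (f₀ ≫ s i₀) ≫ f₀)

/-- The structure morphism `Ω_k ⟶ S`. -/
noncomputable abbrev tk (k : Over i₀) : pullback f₀ (Dg.map k.hom) ⟶ S :=
  pullback.snd f₀ (Dg.map k.hom) ≫ s k.left

/-- The stage object `S' ×_S Ω₀ ×_{W_{i₀}} W_k`. -/
noncomputable abbrev TT (k : Over i₀) : Scheme.{u} :=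
  pullback (XX Dg g s i₀ f₀).hom (Dg.map k.hom)

/-- The projection `T_k ⟶ S'`. -/
noncomputable def xk (k : Over i₀) : TT Dg g s i₀ f₀ k ⟶ S' :=
  pullback.fst (XX Dg g s i₀ f₀).hom (Dg.map k.hom) ≫ pullback.fst g (f₀ ≫ s i₀)

/-- The projection `T_k ⟶ Ω₀`. -/
noncomputable def ok (k : Over i₀) : TT Dg g s i₀ f₀ k ⟶ Ω₀ :=
  pullback.fst (XX Dg g s i₀ f₀).hom (Dg.map k.hom) ≫ pullback.snd g (f₀ ≫ s i₀)

/-- The projection `T_k ⟶ W_k`. -/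
noncomputable def wk (k : Over i₀) : TT Dg g s i₀ f₀ k ⟶ Dg.obj k.left :=
  pullback.snd (XX Dg g s i₀ f₀).hom (Dg.map k.hom)

omit hs in
lemma TT_hom_ext (k : Over i₀) {T' : Scheme.{u}} {a b : T' ⟶ TT Dg g s i₀ f₀ k}
    (h1 : a ≫ xk Dg g s i₀ f₀ k = b ≫ xk Dg g s i₀ f₀ k)
    (h2 : a ≫ ok Dg g s i₀ f₀ k = b ≫ ok Dg g s i₀ f₀ k)
    (h3 : a ≫ wk Dg g s i₀ f₀ k = b ≫ wk Dg g s i₀ f₀ k) : a = b := by
  unfold xk at h1
  unfold ok at h2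
  unfold wk at h3
  apply pullback.hom_ext
  · apply pullback.hom_ext
    · simpa only [Category.assoc] using h1
    · simpa only [Category.assoc] using h2
  · exact h3

omit hs in
lemma ok_comp (k : Over i₀) :
    ok Dg g s i₀ f₀ k ≫ f₀ = wk Dg g s i₀ f₀ k ≫ Dg.map k.hom := by
  unfold ok wk
  rw [Category.assoc]
  exact pullback.condition (f := (XX Dg g s i₀ f₀).hom) (g := Dg.map k.hom)

include hs in
lemma xk_comp (k : Over i₀) :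
    xk Dg g s i₀ f₀ k ≫ g = wk Dg g s i₀ f₀ k ≫ s k.left := by
  have h1 : xk Dg g s i₀ f₀ k ≫ g = (ok Dg g s i₀ f₀ k ≫ f₀) ≫ s i₀ := by
    unfold xk ok
    simp only [Category.assoc]
    rw [pullback.condition]
  rw [h1, ok_comp, Category.assoc, hs]

include hs in
/-- The point of the stage object determined by `x : T' ⟶ S'` and `τ : T' ⟶ Ω_k`. -/
noncomputable def LL (k : Over i₀) {T' : Scheme.{u}} (x : T' ⟶ S')
    (τ : T' ⟶ pullback f₀ (Dg.map k.hom)) (h : x ≫ g = τ ≫ tk Dg s i₀ f₀ k) :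
    T' ⟶ TT Dg g s i₀ f₀ k :=
  pullback.lift (pullback.lift x (τ ≫ pullback.fst f₀ (Dg.map k.hom)) (by
      rw [h, Category.assoc, pullback.condition_assoc, hs])) (τ ≫ pullback.snd f₀ (Dg.map k.hom)) (by
      change pullback.lift _ _ _ ≫ pullback.snd g (f₀ ≫ s i₀) ≫ f₀ = _
      rw [pullback.lift_snd_assoc, Category.assoc, pullback.condition, Category.assoc])

lemma LL_xk (k : Over i₀) {T' : Scheme.{u}} (x : T' ⟶ S')
    (τ : T' ⟶ pullback f₀ (Dg.map k.hom)) (h : x ≫ g = τ ≫ tk Dg s i₀ f₀ k) :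
    LL Dg g s hs i₀ f₀ k x τ h ≫ xk Dg g s i₀ f₀ k = x := by
  unfold LL xk
  rw [pullback.lift_fst_assoc, pullback.lift_fst]

lemma LL_ok (k : Over i₀) {T' : Scheme.{u}} (x : T' ⟶ S')
    (τ : T' ⟶ pullback f₀ (Dg.map k.hom)) (h : x ≫ g = τ ≫ tk Dg s i₀ f₀ k) :
    LL Dg g s hs i₀ f₀ k x τ h ≫ ok Dg g s i₀ f₀ k = τ ≫ pullback.fst f₀ (Dg.map k.hom) := by
  unfold LL ok
  rw [pullback.lift_fst_assoc, pullback.lift_snd]

lemma LL_wk (k : Over i₀) {T' : Scheme.{u}} (x : T' ⟶ S')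
    (τ : T' ⟶ pullback f₀ (Dg.map k.hom)) (h : x ≫ g = τ ≫ tk Dg s i₀ f₀ k) :
    LL Dg g s hs i₀ f₀ k x τ h ≫ wk Dg g s i₀ f₀ k = τ ≫ pullback.snd f₀ (Dg.map k.hom) := by
  unfold LL wk
  rw [pullback.lift_snd]

lemma LL_comp (k : Over i₀) {T' T'' : Scheme.{u}} (r : T'' ⟶ T') (x : T' ⟶ S')
    (τ : T' ⟶ pullback f₀ (Dg.map k.hom)) (h : x ≫ g = τ ≫ tk Dg s i₀ f₀ k)
    (h' : (r ≫ x) ≫ g = (r ≫ τ) ≫ tk Dg s i₀ f₀ k) :
    LL Dg g s hs i₀ f₀ k (r ≫ x) (r ≫ τ) h' = r ≫ LL Dg g s hs i₀ f₀ k x τ h := by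
  apply TT_hom_ext
  · rw [LL_xk, Category.assoc, LL_xk]
  · rw [LL_ok, Category.assoc, Category.assoc, LL_ok]
  · rw [LL_wk, Category.assoc, Category.assoc, LL_wk]

/-- The projection `T_k ⟶ Ω_k`. -/
noncomputable def toΩ (k : Over i₀) : TT Dg g s i₀ f₀ k ⟶ pullback f₀ (Dg.map k.hom) :=
  pullback.lift (ok Dg g s i₀ f₀ k) (wk Dg g s i₀ f₀ k) (ok_comp Dg g s i₀ f₀ k)

omit hs in
lemma toΩ_fst (k : Over i₀) :
    toΩ Dg g s i₀ f₀ k ≫ pullback.fst f₀ (Dg.map k.hom) = ok Dg g s i₀ f₀ k :=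
  pullback.lift_fst _ _ _

omit hs in
lemma toΩ_snd (k : Over i₀) :
    toΩ Dg g s i₀ f₀ k ≫ pullback.snd f₀ (Dg.map k.hom) = wk Dg g s i₀ f₀ k :=
  pullback.lift_snd _ _ _

include hs in
lemma xk_toΩ (k : Over i₀) :
    xk Dg g s i₀ f₀ k ≫ g = toΩ Dg g s i₀ f₀ k ≫ tk Dg s i₀ f₀ k := by
  rw [xk_comp Dg g s hs, ← Category.assoc, toΩ_snd]

/-- The comparison morphism `S' ×_S Ω_k ⟶ T_k`. -/
noncomputable def eKhom (k : Over i₀) : pullback g (tk Dg s i₀ f₀ k) ⟶ TT Dg g s i₀ f₀ k :=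
  LL Dg g s hs i₀ f₀ k (pullback.fst g (tk Dg s i₀ f₀ k)) (pullback.snd g (tk Dg s i₀ f₀ k))
    pullback.condition

lemma eKhom_xk (k : Over i₀) :
    eKhom Dg g s hs i₀ f₀ k ≫ xk Dg g s i₀ f₀ k = pullback.fst g (tk Dg s i₀ f₀ k) :=
  LL_xk _ _ _ _ _ _ _ _ _ _

lemma eKhom_ok (k : Over i₀) :
    eKhom Dg g s hs i₀ f₀ k ≫ ok Dg g s i₀ f₀ k =
      pullback.snd g (tk Dg s i₀ f₀ k) ≫ pullback.fst f₀ (Dg.map k.hom) :=
  LL_ok _ _ _ _ _ _ _ _ _ _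

lemma eKhom_wk (k : Over i₀) :
    eKhom Dg g s hs i₀ f₀ k ≫ wk Dg g s i₀ f₀ k =
      pullback.snd g (tk Dg s i₀ f₀ k) ≫ pullback.snd f₀ (Dg.map k.hom) :=
  LL_wk _ _ _ _ _ _ _ _ _ _

/-- The comparison isomorphism `S' ×_S Ω_k ≅ T_k`. -/
noncomputable def eK (k : Over i₀) : pullback g (tk Dg s i₀ f₀ k) ≅ TT Dg g s i₀ f₀ k where
  hom := eKhom Dg g s hs i₀ f₀ k
  inv := pullback.lift (xk Dg g s i₀ f₀ k) (toΩ Dg g s i₀ f₀ k) (xk_toΩ Dg g s hs i₀ f₀ k)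
  hom_inv_id := by
    apply pullback.hom_ext
    · rw [Category.assoc, pullback.lift_fst, eKhom_xk, Category.id_comp]
    · rw [Category.assoc, pullback.lift_snd, Category.id_comp]
      apply pullback.hom_ext
      · rw [Category.assoc, toΩ_fst, eKhom_ok]
      · rw [Category.assoc, toΩ_snd, eKhom_wk]
  inv_hom_id := by
    apply TT_hom_ext
    · rw [Category.assoc, eKhom_xk, pullback.lift_fst, Category.id_comp]
    · rw [Category.assoc, eKhom_ok, pullback.lift_snd_assoc, toΩ_fst, Category.id_comp]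
    · rw [Category.assoc, eKhom_wk, pullback.lift_snd_assoc, toΩ_snd, Category.id_comp]

lemma LL_eq (k : Over i₀) {T' : Scheme.{u}} (x : T' ⟶ S')
    (τ : T' ⟶ pullback f₀ (Dg.map k.hom)) (h : x ≫ g = τ ≫ tk Dg s i₀ f₀ k) :
    LL Dg g s hs i₀ f₀ k x τ h = pullback.lift x τ h ≫ eKhom Dg g s hs i₀ f₀ k := by
  apply TT_hom_ext
  · rw [LL_xk, Category.assoc, eKhom_xk, pullback.lift_fst]
  · rw [LL_ok, Category.assoc, eKhom_ok, pullback.lift_snd_assoc]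
  · rw [LL_wk, Category.assoc, eKhom_wk, pullback.lift_snd_assoc]


section Sec

variable (D₁ : SchDD g)

/-- The cocycle condition for `θ : T_k ⟶ D₁` in pointwise form. -/
def Coc (k : Over i₀) (θ : TT Dg g s i₀ f₀ k ⟶ D₁.obj.left)
    (hθ : θ ≫ D₁.obj.hom = xk Dg g s i₀ f₀ k) : Prop :=
  ∀ ⦃T' : Scheme.{u}⦄ (x₀ x₁ : T' ⟶ S') (τ : T' ⟶ pullback f₀ (Dg.map k.hom))
    (h₀ : x₀ ≫ g = τ ≫ tk Dg s i₀ f₀ k) (h₁ : x₁ ≫ g = τ ≫ tk Dg s i₀ f₀ k)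
    (hh : x₀ ≫ g = x₁ ≫ g),
    (D₁.φ x₀ x₁ hh ⟨LL Dg g s hs i₀ f₀ k x₀ τ h₀ ≫ θ, by
      rw [Category.assoc, hθ, LL_xk]⟩).1 = LL Dg g s hs i₀ f₀ k x₁ τ h₁ ≫ θ

/-- The section of the descended functor over `Ω_k` attached to a cocycle-compatible `θ`. -/
noncomputable def secData (k : Over i₀) (θ : TT Dg g s i₀ f₀ k ⟶ D₁.obj.left)
    (hθ : θ ≫ D₁.obj.hom = xk Dg g s i₀ f₀ k) (hcoc : Coc Dg g s hs i₀ f₀ D₁ k θ hθ) :
    SecData D₁ (pullback f₀ (Dg.map k.hom)) where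
  t := tk Dg s i₀ f₀ k
  m T' x τ h := ⟨LL Dg g s hs i₀ f₀ k x τ h ≫ θ, by rw [Category.assoc, hθ, LL_xk]⟩
  nat T' T'' r x τ h h' := by
    change LL Dg g s hs i₀ f₀ k (r ≫ x) (r ≫ τ) h' ≫ θ = r ≫ LL Dg g s hs i₀ f₀ k x τ h ≫ θ
    rw [LL_comp Dg g s hs i₀ f₀ k r x τ h h', Category.assoc]
  comm T' x₀ x₁ τ h₀ h₁ hh := Subtype.ext (hcoc x₀ x₁ τ h₀ h₁ hh)

lemma secData_left (k : Over i₀) (θ : TT Dg g s i₀ f₀ k ⟶ D₁.obj.left)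
    (hθ : θ ≫ D₁.obj.hom = xk Dg g s i₀ f₀ k) (hcoc : Coc Dg g s hs i₀ f₀ D₁ k θ hθ) :
    (secData Dg g s hs i₀ f₀ D₁ k θ hθ hcoc).toSec.a.hom.left =
      eKhom Dg g s hs i₀ f₀ k ≫ θ := rfl

lemma secData_t (k : Over i₀) (θ : TT Dg g s i₀ f₀ k ⟶ D₁.obj.left)
    (hθ : θ ≫ D₁.obj.hom = xk Dg g s i₀ f₀ k) (hcoc : Coc Dg g s hs i₀ f₀ D₁ k θ hθ) :
    (secData Dg g s hs i₀ f₀ D₁ k θ hθ hcoc).toSec.t = tk Dg s i₀ f₀ k := rfl

/-! ### The universal form of the cocycle condition -/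

/-- `(S' ×_S S') ×_S Ω₀` as a scheme over the stage `i₀`. -/
noncomputable abbrev ZZo : Over (Dg.obj i₀) :=
  Over.mk (pullback.fst (pullback.snd g (f₀ ≫ s i₀)) (pullback.snd g (f₀ ≫ s i₀)) ≫
    (XX Dg g s i₀ f₀).hom)

/-- The stage object of `(S' ×_S S') ×_S Ω₀`. -/
noncomputable abbrev ZZ (k : Over i₀) : Scheme.{u} :=
  pullback (ZZo Dg g s i₀ f₀).hom (Dg.map k.hom)

/-- The first projection `Z ⟶ X`. -/
noncomputable def q₀ : (ZZo Dg g s i₀ f₀).left ⟶ (XX Dg g s i₀ f₀).left :=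
  pullback.fst (pullback.snd g (f₀ ≫ s i₀)) (pullback.snd g (f₀ ≫ s i₀))

/-- The second projection `Z ⟶ X`. -/
noncomputable def q₁ : (ZZo Dg g s i₀ f₀).left ⟶ (XX Dg g s i₀ f₀).left :=
  pullback.snd (pullback.snd g (f₀ ≫ s i₀)) (pullback.snd g (f₀ ≫ s i₀))

omit hs in
lemma q₀_hom : q₀ Dg g s i₀ f₀ ≫ (XX Dg g s i₀ f₀).hom = (ZZo Dg g s i₀ f₀).hom := rfl

omit hs in
lemma q_snd : q₀ Dg g s i₀ f₀ ≫ pullback.snd g (f₀ ≫ s i₀) =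
    q₁ Dg g s i₀ f₀ ≫ pullback.snd g (f₀ ≫ s i₀) :=
  pullback.condition

omit hs in
lemma q₁_hom : q₁ Dg g s i₀ f₀ ≫ (XX Dg g s i₀ f₀).hom = (ZZo Dg g s i₀ f₀).hom := by
  have h : q₁ Dg g s i₀ f₀ ≫ pullback.snd g (f₀ ≫ s i₀) ≫ f₀ =
      q₀ Dg g s i₀ f₀ ≫ pullback.snd g (f₀ ≫ s i₀) ≫ f₀ := by
    rw [← Category.assoc, ← q_snd, Category.assoc]
  exact h

/-- The two projections `Z_k ⟶ T_k`. -/
noncomputable def P₀ (k : Over i₀) : ZZ Dg g s i₀ f₀ k ⟶ TT Dg g s i₀ f₀ k :=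
  pullback.lift (pullback.fst (ZZo Dg g s i₀ f₀).hom (Dg.map k.hom) ≫ q₀ Dg g s i₀ f₀)
    (pullback.snd (ZZo Dg g s i₀ f₀).hom (Dg.map k.hom)) (by
      rw [Category.assoc, q₀_hom, pullback.condition])

/-- The two projections `Z_k ⟶ T_k`. -/
noncomputable def P₁ (k : Over i₀) : ZZ Dg g s i₀ f₀ k ⟶ TT Dg g s i₀ f₀ k :=
  pullback.lift (pullback.fst (ZZo Dg g s i₀ f₀).hom (Dg.map k.hom) ≫ q₁ Dg g s i₀ f₀)
    (pullback.snd (ZZo Dg g s i₀ f₀).hom (Dg.map k.hom)) (by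
      rw [Category.assoc, q₁_hom, pullback.condition])

omit hs in
lemma P₀_fst (k : Over i₀) :
    P₀ Dg g s i₀ f₀ k ≫ pullback.fst (XX Dg g s i₀ f₀).hom (Dg.map k.hom) =
      pullback.fst (ZZo Dg g s i₀ f₀).hom (Dg.map k.hom) ≫ q₀ Dg g s i₀ f₀ :=
  pullback.lift_fst _ _ _

omit hs in
lemma P₁_fst (k : Over i₀) :
    P₁ Dg g s i₀ f₀ k ≫ pullback.fst (XX Dg g s i₀ f₀).hom (Dg.map k.hom) =
      pullback.fst (ZZo Dg g s i₀ f₀).hom (Dg.map k.hom) ≫ q₁ Dg g s i₀ f₀ :=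
  pullback.lift_fst _ _ _

omit hs in
lemma P₀_snd (k : Over i₀) :
    P₀ Dg g s i₀ f₀ k ≫ pullback.snd (XX Dg g s i₀ f₀).hom (Dg.map k.hom) =
      pullback.snd (ZZo Dg g s i₀ f₀).hom (Dg.map k.hom) :=
  pullback.lift_snd _ _ _

omit hs in
lemma P₁_snd (k : Over i₀) :
    P₁ Dg g s i₀ f₀ k ≫ pullback.snd (XX Dg g s i₀ f₀).hom (Dg.map k.hom) =
      pullback.snd (ZZo Dg g s i₀ f₀).hom (Dg.map k.hom) :=
  pullback.lift_snd _ _ _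

omit hs in
lemma P_ok (k : Over i₀) :
    P₀ Dg g s i₀ f₀ k ≫ ok Dg g s i₀ f₀ k = P₁ Dg g s i₀ f₀ k ≫ ok Dg g s i₀ f₀ k := by
  unfold ok
  rw [← Category.assoc, ← Category.assoc, P₀_fst, P₁_fst, Category.assoc, Category.assoc, q_snd]

omit hs in
lemma P_wk (k : Over i₀) :
    P₀ Dg g s i₀ f₀ k ≫ wk Dg g s i₀ f₀ k = P₁ Dg g s i₀ f₀ k ≫ wk Dg g s i₀ f₀ k := by
  unfold wk
  rw [P₀_snd, P₁_snd]

include hs in
lemma P_xk_g (k : Over i₀) :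
    (P₀ Dg g s i₀ f₀ k ≫ xk Dg g s i₀ f₀ k) ≫ g = (P₁ Dg g s i₀ f₀ k ≫ xk Dg g s i₀ f₀ k) ≫ g := by
  rw [Category.assoc, Category.assoc, xk_comp Dg g s hs, ← Category.assoc, ← Category.assoc, P_wk]

/-- The cocycle condition at the universal point. -/
def UCoc (k : Over i₀) (θ : TT Dg g s i₀ f₀ k ⟶ D₁.obj.left)
    (hθ : θ ≫ D₁.obj.hom = xk Dg g s i₀ f₀ k) : Prop :=
  (D₁.φ (P₀ Dg g s i₀ f₀ k ≫ xk Dg g s i₀ f₀ k) (P₁ Dg g s i₀ f₀ k ≫ xk Dg g s i₀ f₀ k)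
    (P_xk_g Dg g s hs i₀ f₀ k) ⟨P₀ Dg g s i₀ f₀ k ≫ θ, by rw [Category.assoc, hθ]⟩).1 =
      P₁ Dg g s i₀ f₀ k ≫ θ

/-- The universal cocycle condition implies the pointwise one. -/
theorem coc_of_ucoc (k : Over i₀) (θ : TT Dg g s i₀ f₀ k ⟶ D₁.obj.left)
    (hθ : θ ≫ D₁.obj.hom = xk Dg g s i₀ f₀ k) (H : UCoc Dg g s hs i₀ f₀ D₁ k θ hθ) :
    Coc Dg g s hs i₀ f₀ D₁ k θ hθ := by
  intro T' x₀ x₁ τ h₀ h₁ hh
  obtain ⟨L₀, hL₀⟩ : ∃ L₀ : T' ⟶ TT Dg g s i₀ f₀ k, L₀ = LL Dg g s hs i₀ f₀ k x₀ τ h₀ := ⟨_, rfl⟩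
  obtain ⟨L₁, hL₁⟩ : ∃ L₁ : T' ⟶ TT Dg g s i₀ f₀ k, L₁ = LL Dg g s hs i₀ f₀ k x₁ τ h₁ := ⟨_, rfl⟩
  have hx₀ : L₀ ≫ xk Dg g s i₀ f₀ k = x₀ := by rw [hL₀, LL_xk]
  have hx₁ : L₁ ≫ xk Dg g s i₀ f₀ k = x₁ := by rw [hL₁, LL_xk]
  have hok : L₀ ≫ ok Dg g s i₀ f₀ k = L₁ ≫ ok Dg g s i₀ f₀ k := by rw [hL₀, hL₁, LL_ok, LL_ok]
  have hwk : L₀ ≫ wk Dg g s i₀ f₀ k = L₁ ≫ wk Dg g s i₀ f₀ k := by rw [hL₀, hL₁, LL_wk, LL_wk]
  -- the point of `Z_k`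
  have hc1 : (L₀ ≫ pullback.fst (XX Dg g s i₀ f₀).hom (Dg.map k.hom)) ≫
      pullback.snd g (f₀ ≫ s i₀) =
      (L₁ ≫ pullback.fst (XX Dg g s i₀ f₀).hom (Dg.map k.hom)) ≫ pullback.snd g (f₀ ≫ s i₀) := by
    simpa only [ok, Category.assoc] using hok
  let z₀ : T' ⟶ (ZZo Dg g s i₀ f₀).left := pullback.lift _ _ hc1
  have hz₀q₀ : z₀ ≫ q₀ Dg g s i₀ f₀ =
      L₀ ≫ pullback.fst (XX Dg g s i₀ f₀).hom (Dg.map k.hom) := pullback.lift_fst _ _ _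
  have hz₀q₁ : z₀ ≫ q₁ Dg g s i₀ f₀ =
      L₁ ≫ pullback.fst (XX Dg g s i₀ f₀).hom (Dg.map k.hom) := pullback.lift_snd _ _ _
  have hc2 : z₀ ≫ (ZZo Dg g s i₀ f₀).hom = (L₀ ≫ wk Dg g s i₀ f₀ k) ≫ Dg.map k.hom := by
    rw [← q₀_hom, ← Category.assoc, hz₀q₀, Category.assoc, pullback.condition, Category.assoc]
    rfl
  let z : T' ⟶ ZZ Dg g s i₀ f₀ k := pullback.lift z₀ _ hc2
  have hz₀ : z ≫ P₀ Dg g s i₀ f₀ k = L₀ := by
    apply pullback.hom_ext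
    · rw [Category.assoc, P₀_fst, pullback.lift_fst_assoc, hz₀q₀]
    · rw [Category.assoc, P₀_snd, pullback.lift_snd]; rfl
  have hz₁ : z ≫ P₁ Dg g s i₀ f₀ k = L₁ := by
    apply pullback.hom_ext
    · rw [Category.assoc, P₁_fst, pullback.lift_fst_assoc, hz₀q₁]
    · rw [Category.assoc, P₁_snd, pullback.lift_snd]; exact hwk
  have key := φ_nat D₁ z (P_xk_g Dg g s hs i₀ f₀ k)
    ⟨P₀ Dg g s i₀ f₀ k ≫ θ, by rw [Category.assoc, hθ]⟩ hh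
    ⟨L₀ ≫ θ, by rw [Category.assoc, hθ, hx₀]⟩
    (by rw [← Category.assoc, hz₀, hx₀]) (by rw [← Category.assoc, hz₁, hx₁])
    (by change L₀ ≫ θ = z ≫ P₀ Dg g s i₀ f₀ k ≫ θ; rw [← Category.assoc, hz₀])
  subst hL₀ hL₁
  rw [key, H, ← Category.assoc, hz₁]


/-! ### Naturality in the stage -/

omit hs in
lemma P₀_trans {k' k : Over i₀} (ψ : k' ⟶ k) :
    P₀ Dg g s i₀ f₀ k' ≫ trans Dg i₀ (XX Dg g s i₀ f₀) ψ =
      trans Dg i₀ (ZZo Dg g s i₀ f₀) ψ ≫ P₀ Dg g s i₀ f₀ k := by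
  apply pullback.hom_ext
  · rw [Category.assoc, trans_fst, P₀_fst, Category.assoc, P₀_fst, trans_fst_assoc]
  · rw [Category.assoc, trans_snd, ← Category.assoc, P₀_snd, Category.assoc, P₀_snd, trans_snd]

omit hs in
lemma P₁_trans {k' k : Over i₀} (ψ : k' ⟶ k) :
    P₁ Dg g s i₀ f₀ k' ≫ trans Dg i₀ (XX Dg g s i₀ f₀) ψ =
      trans Dg i₀ (ZZo Dg g s i₀ f₀) ψ ≫ P₁ Dg g s i₀ f₀ k := by
  apply pullback.hom_ext
  · rw [Category.assoc, trans_fst, P₁_fst, Category.assoc, P₁_fst, trans_fst_assoc]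
  · rw [Category.assoc, trans_snd, ← Category.assoc, P₁_snd, Category.assoc, P₁_snd, trans_snd]

omit hs in
lemma trans_xk {k' k : Over i₀} (ψ : k' ⟶ k) :
    trans Dg i₀ (XX Dg g s i₀ f₀) ψ ≫ xk Dg g s i₀ f₀ k = xk Dg g s i₀ f₀ k' := by
  unfold xk
  rw [trans_fst_assoc]

/-- The universal cocycle condition descends along the transition maps. -/
theorem ucoc_of_trans {k' k : Over i₀} (ψ : k' ⟶ k) (θ : TT Dg g s i₀ f₀ k ⟶ D₁.obj.left)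
    (hθ : θ ≫ D₁.obj.hom = xk Dg g s i₀ f₀ k)
    (hθ' : (trans Dg i₀ (XX Dg g s i₀ f₀) ψ ≫ θ) ≫ D₁.obj.hom = xk Dg g s i₀ f₀ k')
    (h : trans Dg i₀ (ZZo Dg g s i₀ f₀) ψ ≫
      (D₁.φ (P₀ Dg g s i₀ f₀ k ≫ xk Dg g s i₀ f₀ k) (P₁ Dg g s i₀ f₀ k ≫ xk Dg g s i₀ f₀ k)
        (P_xk_g Dg g s hs i₀ f₀ k) ⟨P₀ Dg g s i₀ f₀ k ≫ θ, by rw [Category.assoc, hθ]⟩).1 =
      trans Dg i₀ (ZZo Dg g s i₀ f₀) ψ ≫ P₁ Dg g s i₀ f₀ k ≫ θ) :
    UCoc Dg g s hs i₀ f₀ D₁ k' (trans Dg i₀ (XX Dg g s i₀ f₀) ψ ≫ θ) hθ' := by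
  unfold UCoc
  have key := φ_nat D₁ (trans Dg i₀ (ZZo Dg g s i₀ f₀) ψ) (P_xk_g Dg g s hs i₀ f₀ k)
    ⟨P₀ Dg g s i₀ f₀ k ≫ θ, by rw [Category.assoc, hθ]⟩ (P_xk_g Dg g s hs i₀ f₀ k')
    ⟨P₀ Dg g s i₀ f₀ k' ≫ trans Dg i₀ (XX Dg g s i₀ f₀) ψ ≫ θ, by rw [Category.assoc, hθ']⟩
    (by rw [← trans_xk Dg g s i₀ f₀ ψ, ← Category.assoc, P₀_trans, Category.assoc])
    (by rw [← trans_xk Dg g s i₀ f₀ ψ, ← Category.assoc, P₁_trans, Category.assoc])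
    (by
      change P₀ Dg g s i₀ f₀ k' ≫ trans Dg i₀ (XX Dg g s i₀ f₀) ψ ≫ θ =
        trans Dg i₀ (ZZo Dg g s i₀ f₀) ψ ≫ P₀ Dg g s i₀ f₀ k ≫ θ
      rw [← Category.assoc, P₀_trans, Category.assoc])
  rw [key, h, ← Category.assoc, ← P₁_trans, Category.assoc]

/-- Monotonicity of the universal cocycle condition. -/
theorem ucoc_mono {k' k : Over i₀} (ψ : k' ⟶ k) (θ : TT Dg g s i₀ f₀ k ⟶ D₁.obj.left)
    (hθ : θ ≫ D₁.obj.hom = xk Dg g s i₀ f₀ k)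
    (hθ' : (trans Dg i₀ (XX Dg g s i₀ f₀) ψ ≫ θ) ≫ D₁.obj.hom = xk Dg g s i₀ f₀ k')
    (H : UCoc Dg g s hs i₀ f₀ D₁ k θ hθ) :
    UCoc Dg g s hs i₀ f₀ D₁ k' (trans Dg i₀ (XX Dg g s i₀ f₀) ψ ≫ θ) hθ' :=
  ucoc_of_trans Dg g s hs i₀ f₀ D₁ ψ θ hθ hθ' (congrArg (fun m => _ ≫ m) H)

end Sec

end Stage


section Limit

variable {I : Type u} [SmallCategory I]
    (Dg : I ⥤ Scheme.{u}) (c : Limits.Cone Dg)
    {S S' : Scheme.{u}} (g : S' ⟶ S)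
    (s : ∀ i, Dg.obj i ⟶ S) (hs : ∀ {i j : I} (φ : i ⟶ j), Dg.map φ ≫ s j = s i)
    (ιa : c.pt ⟶ S) (hι : ∀ i, c.π.app i ≫ s i = ιa)
    (i₀ : I) {Ω₀ : Scheme.{u}} (f₀ : Ω₀ ⟶ Dg.obj i₀)
    {Ω : Scheme.{u}} (ω : Ω ⟶ c.pt) (q : Ω ⟶ Ω₀) (hΩ : IsPullback q ω f₀ (c.π.app i₀))
    (D₁ : SchDD g) (σ : Sec D₁ Ω) (hσt : σ.t = ω ≫ ιa)

/-- The limit object `X ×_{W_{i₀}} Spec 𝒪`. -/
noncomputable abbrev XA : Scheme.{u} := pullback (XX Dg g s i₀ f₀).hom (c.π.app i₀)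

/-- The limit object `Z ×_{W_{i₀}} Spec 𝒪`. -/
noncomputable abbrev ZA : Scheme.{u} := pullback (ZZo Dg g s i₀ f₀).hom (c.π.app i₀)

/-- The projection `X_a ⟶ Ω`. -/
noncomputable def toΩa : XA Dg c g s i₀ f₀ ⟶ Ω :=
  hΩ.lift (pullback.fst (XX Dg g s i₀ f₀).hom (c.π.app i₀) ≫ pullback.snd g (f₀ ≫ s i₀))
    (pullback.snd (XX Dg g s i₀ f₀).hom (c.π.app i₀)) (by
      rw [Category.assoc]
      exact pullback.condition (f := (XX Dg g s i₀ f₀).hom) (g := c.π.app i₀))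

omit hs hι hσt in
lemma toΩa_q : toΩa Dg c g s i₀ f₀ ω q hΩ ≫ q =
    pullback.fst (XX Dg g s i₀ f₀).hom (c.π.app i₀) ≫ pullback.snd g (f₀ ≫ s i₀) :=
  hΩ.lift_fst _ _ _

omit hs hι hσt in
lemma toΩa_ω : toΩa Dg c g s i₀ f₀ ω q hΩ ≫ ω =
    pullback.snd (XX Dg g s i₀ f₀).hom (c.π.app i₀) :=
  hΩ.lift_snd _ _ _

include hι hσt in
omit hs in
lemma lam_aux : (pullback.fst (XX Dg g s i₀ f₀).hom (c.π.app i₀) ≫ pullback.fst g (f₀ ≫ s i₀)) ≫ g =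
    toΩa Dg c g s i₀ f₀ ω q hΩ ≫ σ.t := by
  rw [hσt, ← Category.assoc, toΩa_ω, ← hι i₀, ← Category.assoc, ← pullback.condition,
    Category.assoc, pullback.condition]
  simp only [Category.assoc]
  rfl

/-- The comparison `X_a ⟶ S' ×_S Ω`. -/
noncomputable def lam : XA Dg c g s i₀ f₀ ⟶ pullback g σ.t :=
  pullback.lift _ _ (lam_aux Dg c g s ιa hι i₀ f₀ ω q hΩ D₁ σ hσt)

omit hs in
lemma lam_fst : lam Dg c g s ιa hι i₀ f₀ ω q hΩ D₁ σ hσt ≫ pullback.fst g σ.t =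
    pullback.fst (XX Dg g s i₀ f₀).hom (c.π.app i₀) ≫ pullback.fst g (f₀ ≫ s i₀) :=
  pullback.lift_fst _ _ _

omit hs in
lemma lam_snd : lam Dg c g s ιa hι i₀ f₀ ω q hΩ D₁ σ hσt ≫ pullback.snd g σ.t =
    toΩa Dg c g s i₀ f₀ ω q hΩ :=
  pullback.lift_snd _ _ _

include hι hσt hΩ in
omit hs in
lemma lamInv_aux1 : pullback.fst g σ.t ≫ g = (pullback.snd g σ.t ≫ q) ≫ f₀ ≫ s i₀ := by
  rw [pullback.condition, hσt, Category.assoc, ← Category.assoc q, hΩ.w, Category.assoc, hι]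

/-- The inverse comparison. -/
noncomputable def lamInv : pullback g σ.t ⟶ XA Dg c g s i₀ f₀ :=
  pullback.lift (pullback.lift (pullback.fst g σ.t) (pullback.snd g σ.t ≫ q)
    (lamInv_aux1 Dg c g s ιa hι i₀ f₀ ω q hΩ D₁ σ hσt)) (pullback.snd g σ.t ≫ ω) (by
      change pullback.lift _ _ _ ≫ pullback.snd g (f₀ ≫ s i₀) ≫ f₀ = _
      rw [pullback.lift_snd_assoc, Category.assoc, hΩ.w, Category.assoc])

omit hs in
lemma lam_lamInv : lam Dg c g s ιa hι i₀ f₀ ω q hΩ D₁ σ hσt ≫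
    lamInv Dg c g s ιa hι i₀ f₀ ω q hΩ D₁ σ hσt = 𝟙 _ := by
  unfold lamInv
  apply pullback.hom_ext
  · rw [Category.assoc, pullback.lift_fst, Category.id_comp]
    apply pullback.hom_ext
    · rw [Category.assoc, pullback.lift_fst, lam_fst]
    · rw [Category.assoc, pullback.lift_snd, ← Category.assoc, lam_snd, toΩa_q]
  · rw [Category.assoc, pullback.lift_snd, Category.id_comp, ← Category.assoc, lam_snd, toΩa_ω]

omit hs in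
lemma lamInv_lam : lamInv Dg c g s ιa hι i₀ f₀ ω q hΩ D₁ σ hσt ≫
    lam Dg c g s ιa hι i₀ f₀ ω q hΩ D₁ σ hσt = 𝟙 _ := by
  apply pullback.hom_ext
  · rw [Category.assoc, lam_fst, Category.id_comp]
    unfold lamInv
    rw [pullback.lift_fst_assoc, pullback.lift_fst]
  · rw [Category.assoc, lam_snd, Category.id_comp]
    apply hΩ.hom_ext
    · rw [Category.assoc, toΩa_q]
      unfold lamInv
      rw [pullback.lift_fst_assoc, pullback.lift_snd]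
    · rw [Category.assoc, toΩa_ω]
      unfold lamInv
      rw [pullback.lift_snd]

/-- The underlying morphism of a section, with explicit source. -/
noncomputable def sL : pullback g σ.t ⟶ D₁.obj.left := σ.a.hom.left

omit hs hι hσt in
lemma sL_hom : sL g D₁ σ ≫ D₁.obj.hom = pullback.fst g σ.t := Over.w σ.a.hom

omit hs hι hσt in
lemma pt_eq_sL {T' : Scheme.{u}} (x : T' ⟶ S') (τ : T' ⟶ Ω) (h : x ≫ g = τ ≫ σ.t) :
    (σ.pt x τ h).1 = pullback.lift x τ h ≫ sL g D₁ σ := rfl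

/-- The limit morphism `X_a ⟶ D₁`. -/
noncomputable def aX : XA Dg c g s i₀ f₀ ⟶ D₁.obj.left :=
  lam Dg c g s ιa hι i₀ f₀ ω q hΩ D₁ σ hσt ≫ sL g D₁ σ

omit hs in
lemma aX_hom : aX Dg c g s ιa hι i₀ f₀ ω q hΩ D₁ σ hσt ≫ D₁.obj.hom =
    pullback.fst (XX Dg g s i₀ f₀).hom (c.π.app i₀) ≫ pullback.fst g (f₀ ≫ s i₀) := by
  unfold aX
  rw [Category.assoc, sL_hom, lam_fst]


omit hs in
lemma aX_comp : aX Dg c g s ιa hι i₀ f₀ ω q hΩ D₁ σ hσt ≫ D₁.obj.hom ≫ g =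
    pullback.snd (XX Dg g s i₀ f₀).hom (c.π.app i₀) ≫ ιa := by
  rw [← Category.assoc, aX_hom, ← hι i₀]
  have h1 : pullback.fst (XX Dg g s i₀ f₀).hom (c.π.app i₀) ≫ (XX Dg g s i₀ f₀).hom =
      pullback.snd (XX Dg g s i₀ f₀).hom (c.π.app i₀) ≫ c.π.app i₀ := pullback.condition
  have h2 : (pullback.fst (XX Dg g s i₀ f₀).hom (c.π.app i₀) ≫ pullback.fst g (f₀ ≫ s i₀)) ≫ g =
      (pullback.fst (XX Dg g s i₀ f₀).hom (c.π.app i₀) ≫ (XX Dg g s i₀ f₀).hom) ≫ s i₀ := by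
    change _ = (pullback.fst (XX Dg g s i₀ f₀).hom (c.π.app i₀) ≫
      pullback.snd g (f₀ ≫ s i₀) ≫ f₀) ≫ s i₀
    simp only [Category.assoc, pullback.condition]
  rw [h2, h1, Category.assoc]

section LimCoc

variable [IsCofiltered I] [∀ (i j : I) (f : i ⟶ j), IsAffineHom (Dg.map f)]

/-- Limit-level projection `Z_a ⟶ X_a`. -/
noncomputable def Q₀ : ZA Dg c g s i₀ f₀ ⟶ XA Dg c g s i₀ f₀ :=
  pullback.lift (pullback.fst (ZZo Dg g s i₀ f₀).hom (c.π.app i₀) ≫ q₀ Dg g s i₀ f₀)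
    (pullback.snd (ZZo Dg g s i₀ f₀).hom (c.π.app i₀)) (by
      rw [Category.assoc, q₀_hom, pullback.condition])

/-- Limit-level projection `Z_a ⟶ X_a`. -/
noncomputable def Q₁ : ZA Dg c g s i₀ f₀ ⟶ XA Dg c g s i₀ f₀ :=
  pullback.lift (pullback.fst (ZZo Dg g s i₀ f₀).hom (c.π.app i₀) ≫ q₁ Dg g s i₀ f₀)
    (pullback.snd (ZZo Dg g s i₀ f₀).hom (c.π.app i₀)) (by
      rw [Category.assoc, q₁_hom, pullback.condition])

omit hs hι hσt [IsCofiltered I] [∀ (i j : I) (f : i ⟶ j), IsAffineHom (Dg.map f)] in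
lemma Q₀_fst : Q₀ Dg c g s i₀ f₀ ≫ pullback.fst (XX Dg g s i₀ f₀).hom (c.π.app i₀) =
    pullback.fst (ZZo Dg g s i₀ f₀).hom (c.π.app i₀) ≫ q₀ Dg g s i₀ f₀ := pullback.lift_fst _ _ _

omit hs hι hσt [IsCofiltered I] [∀ (i j : I) (f : i ⟶ j), IsAffineHom (Dg.map f)] in
lemma Q₁_fst : Q₁ Dg c g s i₀ f₀ ≫ pullback.fst (XX Dg g s i₀ f₀).hom (c.π.app i₀) =
    pullback.fst (ZZo Dg g s i₀ f₀).hom (c.π.app i₀) ≫ q₁ Dg g s i₀ f₀ := pullback.lift_fst _ _ _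

omit hs hι hσt [IsCofiltered I] [∀ (i j : I) (f : i ⟶ j), IsAffineHom (Dg.map f)] in
lemma Q₀_snd : Q₀ Dg c g s i₀ f₀ ≫ pullback.snd (XX Dg g s i₀ f₀).hom (c.π.app i₀) =
    pullback.snd (ZZo Dg g s i₀ f₀).hom (c.π.app i₀) := pullback.lift_snd _ _ _

omit hs hι hσt [IsCofiltered I] [∀ (i j : I) (f : i ⟶ j), IsAffineHom (Dg.map f)] in
lemma Q₁_snd : Q₁ Dg c g s i₀ f₀ ≫ pullback.snd (XX Dg g s i₀ f₀).hom (c.π.app i₀) =
    pullback.snd (ZZo Dg g s i₀ f₀).hom (c.π.app i₀) := pullback.lift_snd _ _ _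

omit hs hι hσt in
lemma proj_P₀ (k : Over i₀) : proj Dg c i₀ (ZZo Dg g s i₀ f₀) k ≫ P₀ Dg g s i₀ f₀ k =
    Q₀ Dg c g s i₀ f₀ ≫ proj Dg c i₀ (XX Dg g s i₀ f₀) k := by
  apply pullback.hom_ext
  · rw [Category.assoc, P₀_fst, proj_fst_assoc, Category.assoc, proj_fst, Q₀_fst]
  · rw [Category.assoc, P₀_snd, proj_snd, Category.assoc, proj_snd, ← Category.assoc, Q₀_snd]

omit hs hι hσt in
lemma proj_P₁ (k : Over i₀) : proj Dg c i₀ (ZZo Dg g s i₀ f₀) k ≫ P₁ Dg g s i₀ f₀ k =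
    Q₁ Dg c g s i₀ f₀ ≫ proj Dg c i₀ (XX Dg g s i₀ f₀) k := by
  apply pullback.hom_ext
  · rw [Category.assoc, P₁_fst, proj_fst_assoc, Category.assoc, proj_fst, Q₁_fst]
  · rw [Category.assoc, P₁_snd, proj_snd, Category.assoc, proj_snd, ← Category.assoc, Q₁_snd]

omit hs hι hσt in
lemma proj_xk (k : Over i₀) : proj Dg c i₀ (XX Dg g s i₀ f₀) k ≫ xk Dg g s i₀ f₀ k =
    pullback.fst (XX Dg g s i₀ f₀).hom (c.π.app i₀) ≫ pullback.fst g (f₀ ≫ s i₀) := by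
  unfold xk
  rw [proj_fst_assoc]

omit hs hι hσt [IsCofiltered I] [∀ (i j : I) (f : i ⟶ j), IsAffineHom (Dg.map f)] in
lemma Q_toΩa : Q₀ Dg c g s i₀ f₀ ≫ toΩa Dg c g s i₀ f₀ ω q hΩ =
    Q₁ Dg c g s i₀ f₀ ≫ toΩa Dg c g s i₀ f₀ ω q hΩ := by
  apply hΩ.hom_ext
  · rw [Category.assoc, Category.assoc, toΩa_q, ← Category.assoc, ← Category.assoc, Q₀_fst, Q₁_fst,
      Category.assoc, Category.assoc, q_snd]
  · rw [Category.assoc, Category.assoc, toΩa_ω, Q₀_snd, Q₁_snd]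

/-- The cocycle condition holds on the limit. -/
theorem limit_coc (k : Over i₀) (θ : TT Dg g s i₀ f₀ k ⟶ D₁.obj.left)
    (hθ : θ ≫ D₁.obj.hom = xk Dg g s i₀ f₀ k)
    (hlim : proj Dg c i₀ (XX Dg g s i₀ f₀) k ≫ θ = aX Dg c g s ιa hι i₀ f₀ ω q hΩ D₁ σ hσt) :
    proj Dg c i₀ (ZZo Dg g s i₀ f₀) k ≫
      (D₁.φ (P₀ Dg g s i₀ f₀ k ≫ xk Dg g s i₀ f₀ k) (P₁ Dg g s i₀ f₀ k ≫ xk Dg g s i₀ f₀ k)
        (P_xk_g Dg g s hs i₀ f₀ k) ⟨P₀ Dg g s i₀ f₀ k ≫ θ, by rw [Category.assoc, hθ]⟩).1 =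
      proj Dg c i₀ (ZZo Dg g s i₀ f₀) k ≫ P₁ Dg g s i₀ f₀ k ≫ θ := by
  obtain ⟨lm, hlm⟩ : ∃ lm : XA Dg c g s i₀ f₀ ⟶ pullback g σ.t,
    lm = lam Dg c g s ιa hι i₀ f₀ ω q hΩ D₁ σ hσt := ⟨_, rfl⟩
  have hlm1 : lm ≫ pullback.fst g σ.t =
      pullback.fst (XX Dg g s i₀ f₀).hom (c.π.app i₀) ≫ pullback.fst g (f₀ ≫ s i₀) := by
    rw [hlm, lam_fst]
  have hlm2 : lm ≫ pullback.snd g σ.t = toΩa Dg c g s i₀ f₀ ω q hΩ := by rw [hlm, lam_snd]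
  have haX : aX Dg c g s ιa hι i₀ f₀ ω q hΩ D₁ σ hσt = lm ≫ sL g D₁ σ := by rw [hlm]; rfl
  let y₀ : ZA Dg c g s i₀ f₀ ⟶ S' := Q₀ Dg c g s i₀ f₀ ≫ lm ≫ pullback.fst g σ.t
  let y₁ : ZA Dg c g s i₀ f₀ ⟶ S' := Q₁ Dg c g s i₀ f₀ ≫ lm ≫ pullback.fst g σ.t
  let τ' : ZA Dg c g s i₀ f₀ ⟶ Ω := Q₀ Dg c g s i₀ f₀ ≫ lm ≫ pullback.snd g σ.t
  have hτ : Q₁ Dg c g s i₀ f₀ ≫ lm ≫ pullback.snd g σ.t = τ' := by
    change _ = Q₀ Dg c g s i₀ f₀ ≫ lm ≫ pullback.snd g σ.t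
    rw [hlm2, Q_toΩa]
  have h₀ : y₀ ≫ g = τ' ≫ σ.t := by
    change (Q₀ Dg c g s i₀ f₀ ≫ lm ≫ pullback.fst g σ.t) ≫ g =
      (Q₀ Dg c g s i₀ f₀ ≫ lm ≫ pullback.snd g σ.t) ≫ σ.t
    simp only [Category.assoc, pullback.condition]
  have h₁ : y₁ ≫ g = τ' ≫ σ.t := by
    rw [← hτ]
    change (Q₁ Dg c g s i₀ f₀ ≫ lm ≫ pullback.fst g σ.t) ≫ g =
      (Q₁ Dg c g s i₀ f₀ ≫ lm ≫ pullback.snd g σ.t) ≫ σ.t
    simp only [Category.assoc, pullback.condition]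
  have hh : y₀ ≫ g = y₁ ≫ g := h₀.trans h₁.symm
  have hpt₀ : (σ.pt y₀ τ' h₀).1 = Q₀ Dg c g s i₀ f₀ ≫ lm ≫ sL g D₁ σ := by
    rw [pt_eq_sL, ← Category.assoc (Q₀ Dg c g s i₀ f₀)]
    congr 1
    apply pullback.hom_ext
    · rw [pullback.lift_fst, Category.assoc]
    · rw [pullback.lift_snd, Category.assoc]
  have hpt₁ : (σ.pt y₁ τ' h₁).1 = Q₁ Dg c g s i₀ f₀ ≫ lm ≫ sL g D₁ σ := by
    rw [pt_eq_sL, ← Category.assoc (Q₁ Dg c g s i₀ f₀)]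
    congr 1
    apply pullback.hom_ext
    · rw [pullback.lift_fst, Category.assoc]
    · rw [pullback.lift_snd, Category.assoc, hτ]
  have key1 := Sec.pt_φ σ y₀ y₁ τ' h₀ h₁ hh
  have key2 := φ_nat D₁ (proj Dg c i₀ (ZZo Dg g s i₀ f₀) k) (P_xk_g Dg g s hs i₀ f₀ k)
    ⟨P₀ Dg g s i₀ f₀ k ≫ θ, by rw [Category.assoc, hθ]⟩ hh (σ.pt y₀ τ' h₀)
    (by
      change Q₀ Dg c g s i₀ f₀ ≫ lm ≫ pullback.fst g σ.t = _
      rw [← Category.assoc _ (P₀ Dg g s i₀ f₀ k), proj_P₀, Category.assoc, proj_xk, hlm1])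
    (by
      change Q₁ Dg c g s i₀ f₀ ≫ lm ≫ pullback.fst g σ.t = _
      rw [← Category.assoc _ (P₁ Dg g s i₀ f₀ k), proj_P₁, Category.assoc, proj_xk, hlm1])
    (by
      rw [hpt₀]
      change _ = proj Dg c i₀ (ZZo Dg g s i₀ f₀) k ≫ P₀ Dg g s i₀ f₀ k ≫ θ
      rw [← Category.assoc _ (P₀ Dg g s i₀ f₀ k), proj_P₀, Category.assoc, hlim, haX])
  rw [← key2, key1, hpt₁, ← Category.assoc _ (P₁ Dg g s i₀ f₀ k), proj_P₁, Category.assoc, hlim, haX]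

end LimCoc


section OpenImm

variable [IsCofiltered I] [∀ (i j : I) (f : i ⟶ j), IsAffineHom (Dg.map f)]
  [∀ i, IsAffine (Dg.obj i)] [∀ i, IsOpenImmersion (s i)] (hc : IsLimit c)
  [LocallyOfFinitePresentation g] [QuasiCompact g] [QuasiSeparated g]
  [LocallyOfFinitePresentation D₁.obj.hom] [QuasiCompact D₁.obj.hom] [QuasiSeparated D₁.obj.hom]
  [LocallyOfFinitePresentation f₀] [QuasiCompact f₀] [QuasiSeparated f₀]

omit hs hι hσt [IsCofiltered I] [∀ (i j : I) (f : i ⟶ j), IsAffineHom (Dg.map f)]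
  [∀ i, IsAffine (Dg.obj i)] [∀ i, IsOpenImmersion (s i)] in
lemma proj_eq_lift (X : Over (Dg.obj i₀)) (k : Over i₀) :
    proj Dg c i₀ X k = pullback.lift (pullback.fst X.hom (c.π.app i₀))
      (pullback.snd X.hom (c.π.app i₀) ≫ c.π.app k.left) (by
        rw [Category.assoc, c.w k.hom]; exact pullback.condition) := by
  apply pullback.hom_ext
  · rw [proj_fst, pullback.lift_fst]
  · rw [proj_snd, pullback.lift_snd]

omit hs hι hσt [IsCofiltered I] [∀ (i j : I) (f : i ⟶ j), IsAffineHom (Dg.map f)]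
  [∀ i, IsAffine (Dg.obj i)] [∀ i, IsOpenImmersion (s i)] in
lemma trans_eq_lift (X : Over (Dg.obj i₀)) {k' k : Over i₀} (ψ : k' ⟶ k) :
    trans Dg i₀ X ψ = pullback.lift (pullback.fst X.hom (Dg.map k'.hom))
      (pullback.snd X.hom (Dg.map k'.hom) ≫ Dg.map ψ.left) (by
        rw [Category.assoc, ← Dg.map_comp, Over.w ψ]; exact pullback.condition) := by
  apply pullback.hom_ext
  · rw [trans_fst, pullback.lift_fst]
  · rw [trans_snd, pullback.lift_snd]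

omit hs hι hσt [IsCofiltered I] [∀ (i j : I) (f : i ⟶ j), IsAffineHom (Dg.map f)]
  [∀ i, IsAffine (Dg.obj i)] [∀ i, IsOpenImmersion (s i)] in
lemma isPullback_proj (X : Over (Dg.obj i₀)) (k : Over i₀) :
    IsPullback (proj Dg c i₀ X k) (pullback.snd X.hom (c.π.app i₀))
      (pullback.snd X.hom (Dg.map k.hom)) (c.π.app k.left) := by
  rw [proj_eq_lift]
  exact isPullback_stage X.hom (Dg.map k.hom) (c.π.app k.left) (c.π.app i₀) (c.w k.hom)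

omit hs hι hσt [IsCofiltered I] [∀ (i j : I) (f : i ⟶ j), IsAffineHom (Dg.map f)]
  [∀ i, IsAffine (Dg.obj i)] [∀ i, IsOpenImmersion (s i)] in
lemma isPullback_trans (X : Over (Dg.obj i₀)) {k' k : Over i₀} (ψ : k' ⟶ k) :
    IsPullback (trans Dg i₀ X ψ) (pullback.snd X.hom (Dg.map k'.hom))
      (pullback.snd X.hom (Dg.map k.hom)) (Dg.map ψ.left) := by
  rw [trans_eq_lift]
  exact isPullback_stage X.hom (Dg.map k.hom) (Dg.map ψ.left) (Dg.map k'.hom) (by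
    rw [← Dg.map_comp, Over.w ψ])

include hs hc hι in
omit hσt in
/-- The open immersion on the limit descends to a stage. -/
theorem exists_openImm_stage (k : Over i₀) (θ : TT Dg g s i₀ f₀ k ⟶ D₁.obj.left)
    (hθ : θ ≫ D₁.obj.hom = xk Dg g s i₀ f₀ k)
    (a : XA Dg c g s i₀ f₀ ⟶ D₁.obj.left)
    (hlim : proj Dg c i₀ (XX Dg g s i₀ f₀) k ≫ θ = a)
    (ha : a ≫ D₁.obj.hom ≫ g = pullback.snd (XX Dg g s i₀ f₀).hom (c.π.app i₀) ≫ ιa)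
    (hopen : IsOpenImmersion (pullback.lift a (pullback.snd (XX Dg g s i₀ f₀).hom (c.π.app i₀)) ha :
      XA Dg c g s i₀ f₀ ⟶ pullback (D₁.obj.hom ≫ g) ιa)) :
    ∃ (k' : Over i₀) (ψ : k' ⟶ k), IsOpenImmersion (trans Dg i₀ (XX Dg g s i₀ f₀) ψ ≫ θ) := by
  have hw : θ ≫ D₁.obj.hom ≫ g = wk Dg g s i₀ f₀ k ≫ s k.left := by
    rw [← Category.assoc, hθ, xk_comp Dg g s hs]
  obtain ⟨fθ, hfθ⟩ : ∃ fθ : TT Dg g s i₀ f₀ k ⟶ pullback (D₁.obj.hom ≫ g) (s k.left),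
    fθ = pullback.lift θ (wk Dg g s i₀ f₀ k) hw := ⟨_, rfl⟩
  have hfθ1 : fθ ≫ pullback.fst (D₁.obj.hom ≫ g) (s k.left) = θ := by rw [hfθ, pullback.lift_fst]
  have hfθ2 : fθ ≫ pullback.snd (D₁.obj.hom ≫ g) (s k.left) = wk Dg g s i₀ f₀ k := by
    rw [hfθ, pullback.lift_snd]
  obtain ⟨fa, hfa⟩ : ∃ fa : XA Dg c g s i₀ f₀ ⟶ pullback (D₁.obj.hom ≫ g) ιa,
    fa = pullback.lift a (pullback.snd (XX Dg g s i₀ f₀).hom (c.π.app i₀)) ha := ⟨_, rfl⟩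
  have hfa1 : fa ≫ pullback.fst (D₁.obj.hom ≫ g) ιa = a := by rw [hfa, pullback.lift_fst]
  have hfa2 : fa ≫ pullback.snd (D₁.obj.hom ≫ g) ιa =
      pullback.snd (XX Dg g s i₀ f₀).hom (c.π.app i₀) := by rw [hfa, pullback.lift_snd]
  haveI : IsOpenImmersion fa := by rw [hfa]; exact hopen
  have hY := isPullback_stage (D₁.obj.hom ≫ g) (s k.left) (c.π.app k.left) ιa (hι k.left)
  obtain ⟨qY, hqY⟩ : ∃ qY : pullback (D₁.obj.hom ≫ g) ιa ⟶ pullback (D₁.obj.hom ≫ g) (s k.left),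
    qY = pullback.lift (pullback.fst (D₁.obj.hom ≫ g) ιa)
      (pullback.snd (D₁.obj.hom ≫ g) ιa ≫ c.π.app k.left)
      (by rw [Category.assoc, hι k.left]; exact pullback.condition) := ⟨_, rfl⟩
  rw [← hqY] at hY
  have hqY1 : qY ≫ pullback.fst (D₁.obj.hom ≫ g) (s k.left) =
      pullback.fst (D₁.obj.hom ≫ g) ιa := by rw [hqY, pullback.lift_fst]
  have hqY2 : qY ≫ pullback.snd (D₁.obj.hom ≫ g) (s k.left) =
      pullback.snd (D₁.obj.hom ≫ g) ιa ≫ c.π.app k.left := by rw [hqY, pullback.lift_snd]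
  have hX : IsPullback (proj Dg c i₀ (XX Dg g s i₀ f₀) k) fa fθ qY := by
    refine IsPullback.of_bot ?_ ?_ hY
    · rw [hfa2, hfθ2]
      exact isPullback_proj Dg c i₀ (XX Dg g s i₀ f₀) k
    · apply pullback.hom_ext
      · rw [Category.assoc, hfθ1, Category.assoc, hqY1, hfa1, hlim]
      · rw [Category.assoc, hfθ2, Category.assoc, hqY2, ← Category.assoc, hfa2]
        exact proj_snd Dg c i₀ (XX Dg g s i₀ f₀) k
  haveI : LocallyOfFinitePresentation (XX Dg g s i₀ f₀).hom :=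
    inferInstanceAs (LocallyOfFinitePresentation (pullback.snd g (f₀ ≫ s i₀) ≫ f₀))
  haveI : QuasiCompact (XX Dg g s i₀ f₀).hom :=
    inferInstanceAs (QuasiCompact (pullback.snd g (f₀ ≫ s i₀) ≫ f₀))
  haveI : QuasiSeparated (XX Dg g s i₀ f₀).hom :=
    inferInstanceAs (QuasiSeparated (pullback.snd g (f₀ ≫ s i₀) ≫ f₀))
  haveI : LocallyOfFinitePresentation (fθ ≫ pullback.snd (D₁.obj.hom ≫ g) (s k.left)) := by
    rw [hfθ2]; unfold wk; infer_instance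
  haveI : QuasiCompact (fθ ≫ pullback.snd (D₁.obj.hom ≫ g) (s k.left)) := by
    rw [hfθ2]; unfold wk; infer_instance
  haveI : QuasiSeparated (fθ ≫ pullback.snd (D₁.obj.hom ≫ g) (s k.left)) := by
    rw [hfθ2]; unfold wk; infer_instance
  obtain ⟨i, φ, Xi, Yi, fi, gi, pY, pX, hY', hX', hfi⟩ :=
    Groth.Agent.S2580.result Dg c hc k.left fθ (pullback.snd (D₁.obj.hom ≫ g) (s k.left)) fa
      (pullback.snd (D₁.obj.hom ≫ g) ιa) qY (proj Dg c i₀ (XX Dg g s i₀ f₀) k) hY hX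
  refine ⟨Over.mk (φ ≫ k.hom), Over.homMk φ rfl, ?_⟩
  obtain ⟨ψ, hψ⟩ : ∃ ψ : Over.mk (φ ≫ k.hom) ⟶ k, ψ = Over.homMk φ rfl := ⟨_, rfl⟩
  have hψl : ψ.left = φ := by rw [hψ]; rfl
  rw [← hψ]
  have big : IsPullback pX (fi ≫ gi) (wk Dg g s i₀ f₀ k) (Dg.map φ) := by
    have := hX'.paste_vert hY'
    rwa [hfθ2] at this
  have hT : IsPullback (trans Dg i₀ (XX Dg g s i₀ f₀) ψ)
      (pullback.snd (XX Dg g s i₀ f₀).hom (Dg.map (Over.mk (φ ≫ k.hom)).hom))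
      (wk Dg g s i₀ f₀ k) (Dg.map φ) := by
    have := isPullback_trans Dg i₀ (XX Dg g s i₀ f₀) ψ
    rwa [hψl] at this
  let e := hT.isoIsPullback _ _ big
  have he1 : e.hom ≫ pX = trans Dg i₀ (XX Dg g s i₀ f₀) ψ := hT.isoIsPullback_hom_fst _ _ big
  have hbase : IsPullback (pY ≫ pullback.fst (D₁.obj.hom ≫ g) (s k.left)) gi (D₁.obj.hom ≫ g)
      (Dg.map φ ≫ s k.left) :=
    hY'.paste_horiz (IsPullback.of_hasPullback (D₁.obj.hom ≫ g) (s k.left))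
  haveI : IsOpenImmersion (Dg.map φ ≫ s k.left) := by rw [hs φ]; infer_instance
  haveI : IsOpenImmersion (pY ≫ pullback.fst (D₁.obj.hom ≫ g) (s k.left)) :=
    MorphismProperty.of_isPullback (P := @IsOpenImmersion) hbase.flip inferInstance
  have hfin : trans Dg i₀ (XX Dg g s i₀ f₀) ψ ≫ θ =
      e.hom ≫ fi ≫ pY ≫ pullback.fst (D₁.obj.hom ≫ g) (s k.left) := by
    rw [← he1, ← hfθ1, Category.assoc, ← Category.assoc pX, hX'.w, Category.assoc]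
  rw [hfin]
  infer_instance

end OpenImm


section Main

variable [IsCofiltered I] [∀ (i j : I) (f : i ⟶ j), IsAffineHom (Dg.map f)]
  [∀ i, IsAffine (Dg.obj i)] [∀ i, IsOpenImmersion (s i)] (hc : IsLimit c)
  [LocallyOfFinitePresentation g] [QuasiCompact g] [QuasiSeparated g]
  [Etale D₁.obj.hom] [QuasiCompact D₁.obj.hom] [QuasiSeparated D₁.obj.hom]
  [Etale f₀] [QuasiCompact f₀] [QuasiSeparated f₀]

omit hs hι hσt [IsCofiltered I] [∀ (i j : I) (f : i ⟶ j), IsAffineHom (Dg.map f)]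
  [∀ i, IsAffine (Dg.obj i)] [∀ i, IsOpenImmersion (s i)] in
lemma proj_trans (X : Over (Dg.obj i₀)) {k' k : Over i₀} (ψ : k' ⟶ k) :
    proj Dg c i₀ X k' ≫ trans Dg i₀ X ψ = proj Dg c i₀ X k := by
  apply pullback.hom_ext
  · rw [Category.assoc, trans_fst, proj_fst, proj_fst]
  · rw [Category.assoc, trans_snd, proj_snd_assoc, proj_snd, c.w]

include hs hc in
/-- **Spreading out**: a section over `Ω = Ω₀ ×_{W_{i₀}} Spec 𝒪` of the descended functor which is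
an open immersion on underlying schemes comes from an open immersion of descent data at a finite
stage. -/
theorem good_of_model
    (hopen : IsOpenImmersion (pullback.lift (aX Dg c g s ιa hι i₀ f₀ ω q hΩ D₁ σ hσt)
      (pullback.snd (XX Dg g s i₀ f₀).hom (c.π.app i₀))
      (aX_comp Dg c g s ιa hι i₀ f₀ ω q hΩ D₁ σ hσt) :
      XA Dg c g s i₀ f₀ ⟶ pullback (D₁.obj.hom ≫ g) ιa))
    (v : D₁.obj.left) (hv : v ∈ Set.range (sL g D₁ σ).base) :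
    Groth.Agent.Lib.Helper46.EtDescLocal.Good D₁ v := by
  -- compactness
  haveI : CompactSpace Ω₀ := QuasiCompact.compactSpace_of_compactSpace f₀
  haveI : QuasiSeparatedSpace Ω₀ := quasiSeparatedSpace_of_quasiSeparated f₀
  haveI : CompactSpace (XX Dg g s i₀ f₀).left :=
    (QuasiCompact.compactSpace_of_compactSpace (pullback.snd g (f₀ ≫ s i₀)) :
      CompactSpace ↥(pullback g (f₀ ≫ s i₀)))
  haveI : QuasiSeparatedSpace (XX Dg g s i₀ f₀).left :=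
    (quasiSeparatedSpace_of_quasiSeparated (pullback.snd g (f₀ ≫ s i₀)) :
      QuasiSeparatedSpace ↥(pullback g (f₀ ≫ s i₀)))
  haveI : CompactSpace (ZZo Dg g s i₀ f₀).left :=
    (QuasiCompact.compactSpace_of_compactSpace
      (pullback.fst (pullback.snd g (f₀ ≫ s i₀)) (pullback.snd g (f₀ ≫ s i₀))) :
      CompactSpace ↥(pullback (pullback.snd g (f₀ ≫ s i₀)) (pullback.snd g (f₀ ≫ s i₀))))
  -- Step 1: the morphism descends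
  obtain ⟨k₂, θ₂, hθ₂', hlim₂⟩ := exists_proj_comp_eq' Dg c hc i₀ (X := XX Dg g s i₀ f₀)
    (pullback.fst g (f₀ ≫ s i₀)) D₁.obj.hom (aX Dg c g s ιa hι i₀ f₀ ω q hΩ D₁ σ hσt)
    (aX_hom Dg c g s ιa hι i₀ f₀ ω q hΩ D₁ σ hσt)
  have hθ₂ : θ₂ ≫ D₁.obj.hom = xk Dg g s i₀ f₀ k₂ := hθ₂'
  -- Step 2: the cocycle condition descends
  have hPx : P₁ Dg g s i₀ f₀ k₂ ≫ xk Dg g s i₀ f₀ k₂ =
      pullback.fst (ZZo Dg g s i₀ f₀).hom (Dg.map k₂.hom) ≫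
        q₁ Dg g s i₀ f₀ ≫ pullback.fst g (f₀ ≫ s i₀) := by
    unfold xk
    rw [← Category.assoc, P₁_fst, Category.assoc]
  obtain ⟨k₃, ψ₃, h₃⟩ := exists_trans_comp_eq' Dg c hc i₀ (X := ZZo Dg g s i₀ f₀)
    (q₁ Dg g s i₀ f₀ ≫ pullback.fst g (f₀ ≫ s i₀)) D₁.obj.hom k₂
    (D₁.φ (P₀ Dg g s i₀ f₀ k₂ ≫ xk Dg g s i₀ f₀ k₂) (P₁ Dg g s i₀ f₀ k₂ ≫ xk Dg g s i₀ f₀ k₂)
      (P_xk_g Dg g s hs i₀ f₀ k₂) ⟨P₀ Dg g s i₀ f₀ k₂ ≫ θ₂, by rw [Category.assoc, hθ₂]⟩).1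
    (P₁ Dg g s i₀ f₀ k₂ ≫ θ₂)
    ((D₁.φ (P₀ Dg g s i₀ f₀ k₂ ≫ xk Dg g s i₀ f₀ k₂) (P₁ Dg g s i₀ f₀ k₂ ≫ xk Dg g s i₀ f₀ k₂)
      (P_xk_g Dg g s hs i₀ f₀ k₂) ⟨P₀ Dg g s i₀ f₀ k₂ ≫ θ₂, by rw [Category.assoc, hθ₂]⟩).2.trans
        hPx)
    (by rw [Category.assoc, hθ₂, hPx])
    (limit_coc Dg c g s hs ιa hι i₀ f₀ ω q hΩ D₁ σ hσt k₂ θ₂ hθ₂ hlim₂)
  have hθ₃ : (trans Dg i₀ (XX Dg g s i₀ f₀) ψ₃ ≫ θ₂) ≫ D₁.obj.hom = xk Dg g s i₀ f₀ k₃ := by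
    rw [Category.assoc, hθ₂, trans_xk]
  have hU₃ := ucoc_of_trans Dg g s hs i₀ f₀ D₁ ψ₃ θ₂ hθ₂ hθ₃ h₃
  have hlim₃ : proj Dg c i₀ (XX Dg g s i₀ f₀) k₃ ≫ trans Dg i₀ (XX Dg g s i₀ f₀) ψ₃ ≫ θ₂ =
      aX Dg c g s ιa hι i₀ f₀ ω q hΩ D₁ σ hσt := by
    rw [← Category.assoc, proj_trans, hlim₂]
  -- Step 3: the open immersion descends
  obtain ⟨k₄, ψ₄, hopen₄⟩ := exists_openImm_stage Dg c g s hs ιa hι i₀ f₀ D₁ hc k₃
    (trans Dg i₀ (XX Dg g s i₀ f₀) ψ₃ ≫ θ₂) hθ₃ (aX Dg c g s ιa hι i₀ f₀ ω q hΩ D₁ σ hσt) hlim₃ _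
    hopen
  obtain ⟨θ₄, hθ₄e⟩ : ∃ θ₄ : TT Dg g s i₀ f₀ k₄ ⟶ D₁.obj.left,
    θ₄ = trans Dg i₀ (XX Dg g s i₀ f₀) ψ₄ ≫ trans Dg i₀ (XX Dg g s i₀ f₀) ψ₃ ≫ θ₂ := ⟨_, rfl⟩
  have hθ₄ : θ₄ ≫ D₁.obj.hom = xk Dg g s i₀ f₀ k₄ := by
    rw [hθ₄e, Category.assoc, hθ₃, trans_xk]
  have hU₄ : UCoc Dg g s hs i₀ f₀ D₁ k₄ θ₄ hθ₄ := by
    subst hθ₄e
    exact ucoc_mono Dg g s hs i₀ f₀ D₁ ψ₄ _ hθ₃ _ hU₃
  have hlim₄ : proj Dg c i₀ (XX Dg g s i₀ f₀) k₄ ≫ θ₄ =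
      aX Dg c g s ιa hι i₀ f₀ ω q hΩ D₁ σ hσt := by
    rw [hθ₄e, ← Category.assoc, proj_trans, hlim₃]
  haveI : IsOpenImmersion θ₄ := by rw [hθ₄e]; exact hopen₄
  -- Step 4: the section at the stage `k₄`
  have hC₄ := coc_of_ucoc Dg g s hs i₀ f₀ D₁ k₄ θ₄ hθ₄ hU₄
  let d := secData Dg g s hs i₀ f₀ D₁ k₄ θ₄ hθ₄ hC₄
  haveI : IsIso (eKhom Dg g s hs i₀ f₀ k₄) :=
    ⟨(eK Dg g s hs i₀ f₀ k₄).inv, (eK Dg g s hs i₀ f₀ k₄).hom_inv_id,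
      (eK Dg g s hs i₀ f₀ k₄).inv_hom_id⟩
  refine ⟨Over.mk (tk Dg s i₀ f₀ k₄), ?_, d.toSec.a, ?_, ?_⟩
  · change Etale (pullback.snd f₀ (Dg.map k₄.hom) ≫ s k₄.left)
    infer_instance
  · change IsOpenImmersion (eKhom Dg g s hs i₀ f₀ k₄ ≫ θ₄)
    infer_instance
  · change v ∈ Set.range (eKhom Dg g s hs i₀ f₀ k₄ ≫ θ₄).base
    obtain ⟨z', hz'⟩ := hv
    let x' := (lamInv Dg c g s ιa hι i₀ f₀ ω q hΩ D₁ σ hσt).base z'
    have h1 : (aX Dg c g s ιa hι i₀ f₀ ω q hΩ D₁ σ hσt).base x' = v := by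
      have e : lamInv Dg c g s ιa hι i₀ f₀ ω q hΩ D₁ σ hσt ≫
          aX Dg c g s ιa hι i₀ f₀ ω q hΩ D₁ σ hσt = sL g D₁ σ := by
        unfold aX
        rw [← Category.assoc, lamInv_lam, Category.id_comp]
      have := congrArg (fun m => m.base z') e
      simp only [Scheme.Hom.comp_base, TopCat.hom_comp, ContinuousMap.comp_apply] at this
      rw [← hz']
      exact this
    let w := (proj Dg c i₀ (XX Dg g s i₀ f₀) k₄).base x'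
    have h2 : θ₄.base w = v := by
      rw [← h1]
      have := congrArg (fun m => m.base x') hlim₄
      simpa only [Scheme.Hom.comp_base, TopCat.hom_comp, ContinuousMap.comp_apply] using this
    refine ⟨(eK Dg g s hs i₀ f₀ k₄).inv.base w, ?_⟩
    have e : (eK Dg g s hs i₀ f₀ k₄).inv ≫ eKhom Dg g s hs i₀ f₀ k₄ ≫ θ₄ = θ₄ := by
      rw [← Category.assoc]
      have := (eK Dg g s hs i₀ f₀ k₄).inv_hom_id
      change (eK Dg g s hs i₀ f₀ k₄).inv ≫ eKhom Dg g s hs i₀ f₀ k₄ = 𝟙 _ at this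
      rw [this, Category.id_comp]
    have := congrArg (fun m => m.base w) e
    simp only [Scheme.Hom.comp_base, TopCat.hom_comp, ContinuousMap.comp_apply] at this
    rw [← h2]
    simpa only [Scheme.Hom.comp_base, TopCat.hom_comp, ContinuousMap.comp_apply] using this

end Main

end Limit


section Model

variable {I : Type u} [SmallCategory I] [IsCofiltered I]
    (Dg : I ⥤ Scheme.{u}) (c : Limits.Cone Dg) (hc : IsLimit c)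
    [∀ (i j : I) (f : i ⟶ j), IsAffineHom (Dg.map f)] [∀ i, IsAffine (Dg.obj i)]
    {Ω : Scheme.{u}} (ω : Ω ⟶ c.pt)

include hc in
/-- An étale quasi-compact quasi-separated scheme over the limit has an étale model over a
stage. -/
theorem exists_model [Etale ω] [QuasiCompact ω] [QuasiSeparated ω] :
    ∃ (i₀ : I) (Ω₀ : Scheme.{u}) (f₀ : Ω₀ ⟶ Dg.obj i₀) (q : Ω ⟶ Ω₀),
      Etale f₀ ∧ QuasiCompact f₀ ∧ QuasiSeparated f₀ ∧ IsPullback q ω f₀ (c.π.app i₀) := by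
  obtain ⟨i, Xi, fi, gq, h1, h2, h3, hX⟩ := Groth.Agent.S0591.result Dg c hc Ω ω
  haveI : CompactSpace Xi := QuasiCompact.compactSpace_of_compactSpace fi
  haveI : QuasiSeparatedSpace Xi := quasiSeparatedSpace_of_quasiSeparated fi
  obtain ⟨i', φ, Xi', Yi', fi', gi', pY, pX, hY', hX', hfi'⟩ :=
    Groth.Agent.S9192.result Dg c hc i fi (𝟙 (Dg.obj i)) ω (𝟙 c.pt) (c.π.app i) gq
      (IsPullback.id_vert (c.π.app i)) hX
  haveI : IsIso gi' := hY'.isIso_snd_of_isIso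
  have big : IsPullback pX (fi' ≫ gi') fi (Dg.map φ) := by
    have := hX'.paste_vert hY'
    rwa [Category.comp_id] at this
  have hw : gq ≫ fi = (ω ≫ c.π.app i') ≫ Dg.map φ := by
    rw [hX.w, Category.assoc, c.w]
  refine ⟨i', Xi', fi' ≫ gi', big.lift gq (ω ≫ c.π.app i') hw, inferInstance,
    MorphismProperty.of_isPullback (P := @QuasiCompact) big h2,
    MorphismProperty.of_isPullback (P := @QuasiSeparated) big h3, ?_⟩
  refine IsPullback.of_right ?_ (big.lift_snd _ _ _) big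
  rw [big.lift_fst, c.w]
  exact hX

end Model


section Final

variable {I : Type u} [SmallCategory I] [IsCofiltered I]
    (Dg : I ⥤ Scheme.{u}) (c : Limits.Cone Dg) (hc : IsLimit c)
    [∀ (i j : I) (f : i ⟶ j), IsAffineHom (Dg.map f)] [∀ i, IsAffine (Dg.obj i)]
    {S S' : Scheme.{u}} (g : S' ⟶ S)
    (s : ∀ i, Dg.obj i ⟶ S) (hs : ∀ {i j : I} (φ : i ⟶ j), Dg.map φ ≫ s j = s i)
    [∀ i, IsOpenImmersion (s i)]
    (ιa : c.pt ⟶ S) (hι : ∀ i, c.π.app i ≫ s i = ιa)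
    [LocallyOfFinitePresentation g] [QuasiCompact g] [QuasiSeparated g]
    (D₁ : SchDD g) [Etale D₁.obj.hom] [QuasiCompact D₁.obj.hom] [QuasiSeparated D₁.obj.hom]
    {Ω : Scheme.{u}} (ω : Ω ⟶ c.pt) [Etale ω] [QuasiCompact ω] [QuasiSeparated ω]
    (σ : Sec D₁ Ω) (hσt : σ.t = ω ≫ ιa)

include hc hs hι in
/-- **Spreading out** an open immersion of descent data from the limit to a stage. -/
theorem good_of_sec
    (hopen : IsOpenImmersion (pullback.lift (sL g D₁ σ) (pullback.snd g σ.t ≫ ω) (by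
        rw [← Category.assoc, sL_hom, pullback.condition, hσt, Category.assoc]) :
      pullback g σ.t ⟶ pullback (D₁.obj.hom ≫ g) ιa))
    (v : D₁.obj.left) (hv : v ∈ Set.range (sL g D₁ σ).base) :
    Groth.Agent.Lib.Helper46.EtDescLocal.Good D₁ v := by
  obtain ⟨i₀, Ω₀, f₀, q, h1, h2, h3, hΩ⟩ := exists_model Dg c hc ω
  refine good_of_model Dg c g s hs ιa hι i₀ f₀ ω q hΩ D₁ σ hσt hc ?_ v hv
  haveI : IsIso (lam Dg c g s ιa hι i₀ f₀ ω q hΩ D₁ σ hσt) :=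
    ⟨lamInv Dg c g s ιa hι i₀ f₀ ω q hΩ D₁ σ hσt, lam_lamInv Dg c g s ιa hι i₀ f₀ ω q hΩ D₁ σ hσt,
      lamInv_lam Dg c g s ιa hι i₀ f₀ ω q hΩ D₁ σ hσt⟩
  have e : pullback.lift (aX Dg c g s ιa hι i₀ f₀ ω q hΩ D₁ σ hσt)
      (pullback.snd (XX Dg g s i₀ f₀).hom (c.π.app i₀))
      (aX_comp Dg c g s ιa hι i₀ f₀ ω q hΩ D₁ σ hσt) =
      lam Dg c g s ιa hι i₀ f₀ ω q hΩ D₁ σ hσt ≫
        (pullback.lift (sL g D₁ σ) (pullback.snd g σ.t ≫ ω) (by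
          rw [← Category.assoc, sL_hom, pullback.condition, hσt, Category.assoc]) :
        pullback g σ.t ⟶ pullback (D₁.obj.hom ≫ g) ιa) := by
    apply pullback.hom_ext
    · rw [pullback.lift_fst, Category.assoc, pullback.lift_fst]
      rfl
    · rw [pullback.lift_snd, Category.assoc, pullback.lift_snd, ← Category.assoc, lam_snd, toΩa_ω]
  rw [e]
  infer_instance

end Final

end Groth.Agent.Lib.Helper46.EtDescStage
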