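import Mathlib
import Groth.Prelude.Def_DescFam
import Groth.Prelude.Def_SGA1
import Groth.Agent.Lib.Helper46.EtDescStage
import Groth.Agent.Lib.Helper46.EtLocalLQF
import Groth.Agent.Lib.Helper5.DescCover
import Groth.Agent.Lib.Helper5.DescProps
import Groth.Agent.Lib.Helper5.DescSepLQF

/-!
# Effectiveness of étale separated quasi-compact descent data (along a universally submersive
morphism) descends along fpqc base change (helper46)

* `exists_descend`: the descended functor `T ↦ Sec D T` satisfies the sheaf condition for a flat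
  surjective quasi-compact morphism.
-/

set_option autoImplicit false
universe u
open CategoryTheory CategoryTheory.Limits AlgebraicGeometry Desc Opposite

namespace Groth.Agent.Lib.Helper46.EtDescFpqc

open Groth.Agent.Lib.Helper46.EtDescStage Groth.Agent.Lib.Helper5.DescPull
  Groth.Agent.Lib.Helper5.DescFunctor Groth.Agent.Lib.Helper5.AffCore

set_option linter.style.haveILetI false

section Sheaf

variable {X S : Scheme.{u}} {p : X ⟶ S} (D : SchDD p)

/-- The sheaf condition of the descended functor for an fpqc morphism `P : T₁ ⟶ T`. -/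
theorem exists_descend {T₁ T : Scheme.{u}} (P : T₁ ⟶ T) [Flat P] [Surjective P] [QuasiCompact P]
    (s₁ : Sec D T₁) (h : s₁.pre (pullback.fst P P) = s₁.pre (pullback.snd P P)) :
    ∃ s : Sec D T, s.pre P = s₁ := by
  haveI : EffectiveEpi P := inferInstance
  have ht0 : pullback.fst P P ≫ s₁.t = pullback.snd P P ≫ s₁.t := Sec.t_eq_of_eq h
  let t : T ⟶ S := EffectiveEpi.desc P s₁.t (fun {Z} g₁ g₂ hg => by
    have := congrArg (fun m => pullback.lift g₁ g₂ hg ≫ m) ht0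
    simpa only [pullback.lift_fst_assoc, pullback.lift_snd_assoc] using this)
  have ht : P ≫ t = s₁.t := EffectiveEpi.fac _ _ _
  -- the base change of `P`
  have hsq := Groth.Agent.Lib.Helper46.isPullback_stage p t P s₁.t ht
  obtain ⟨P', hP'⟩ : ∃ P' : pullback p s₁.t ⟶ pullback p t,
    P' = pullback.lift (pullback.fst p s₁.t) (pullback.snd p s₁.t ≫ P)
      (by rw [Category.assoc, ht]; exact pullback.condition) := ⟨_, rfl⟩
  rw [← hP'] at hsq
  have hP'1 : P' ≫ pullback.fst p t = pullback.fst p s₁.t := by rw [hP', pullback.lift_fst]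
  have hP'2 : P' ≫ pullback.snd p t = pullback.snd p s₁.t ≫ P := by rw [hP', pullback.lift_snd]
  haveI : Flat P' := MorphismProperty.of_isPullback (P := @Flat) hsq.flip inferInstance
  haveI : Surjective P' := MorphismProperty.of_isPullback (P := @Surjective) hsq.flip inferInstance
  haveI : QuasiCompact P' :=
    MorphismProperty.of_isPullback (P := @QuasiCompact) hsq.flip inferInstance
  haveI : EffectiveEpi P' := inferInstance
  haveI : Epi P' := Flat.epi_of_flat_of_surjective _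
  -- the underlying morphism descends
  have hlift : ∀ {Z : Scheme.{u}} (m : Z ⟶ pullback p s₁.t),
      m = pullback.lift (m ≫ pullback.fst p s₁.t) (m ≫ pullback.snd p s₁.t)
        (by rw [Category.assoc, Category.assoc, pullback.condition]) := by
    intro Z m
    apply pullback.hom_ext
    · rw [pullback.lift_fst]
    · rw [pullback.lift_snd]
  let a : pullback p t ⟶ D.obj.left := EffectiveEpi.desc P' (sL p D s₁) (fun {Z} g₁ g₂ hg => by
    have hx : g₁ ≫ pullback.fst p s₁.t = g₂ ≫ pullback.fst p s₁.t := by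
      rw [← hP'1, ← Category.assoc, hg, Category.assoc]
    have hτ : (g₁ ≫ pullback.snd p s₁.t) ≫ P = (g₂ ≫ pullback.snd p s₁.t) ≫ P := by
      rw [Category.assoc, ← hP'2, ← Category.assoc, hg, Category.assoc, hP'2, Category.assoc]
    let ζ : Z ⟶ pullback P P := pullback.lift _ _ hτ
    have k₁ : (g₁ ≫ pullback.fst p s₁.t) ≫ p = (ζ ≫ pullback.fst P P) ≫ s₁.t := by
      rw [pullback.lift_fst, Category.assoc, Category.assoc, pullback.condition]
    have k₂ : (g₁ ≫ pullback.fst p s₁.t) ≫ p = (ζ ≫ pullback.snd P P) ≫ s₁.t := by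
      rw [pullback.lift_snd, hx, Category.assoc, Category.assoc, pullback.condition]
    have k₁' : (g₁ ≫ pullback.fst p s₁.t) ≫ p = ζ ≫ pullback.fst P P ≫ s₁.t := by
      rw [← Category.assoc]; exact k₁
    have k₂' : (g₁ ≫ pullback.fst p s₁.t) ≫ p = ζ ≫ pullback.snd P P ≫ s₁.t := by
      rw [← Category.assoc]; exact k₂
    have e1 := Sec.pre_pt s₁ (pullback.fst P P) (g₁ ≫ pullback.fst p s₁.t) ζ k₁' k₁
    have e2 := Sec.pre_pt s₁ (pullback.snd P P) (g₁ ≫ pullback.fst p s₁.t) ζ k₂' k₂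
    have e3 := Sec.pt_eq_of_eq h (g₁ ≫ pullback.fst p s₁.t) ζ k₁' k₂'
    have e4 : (s₁.pt (g₁ ≫ pullback.fst p s₁.t) (ζ ≫ pullback.fst P P) k₁).1 = g₁ ≫ sL p D s₁ := by
      rw [pt_eq_sL]
      congr 1
      apply pullback.hom_ext
      · rw [pullback.lift_fst]
      · rw [pullback.lift_snd, pullback.lift_fst]
    have e5 : (s₁.pt (g₁ ≫ pullback.fst p s₁.t) (ζ ≫ pullback.snd P P) k₂).1 = g₂ ≫ sL p D s₁ := by
      rw [pt_eq_sL]
      congr 1
      apply pullback.hom_ext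
      · rw [pullback.lift_fst, hx]
      · rw [pullback.lift_snd, pullback.lift_snd]
    rw [← e4, ← e5, ← e1, ← e2, e3])
  have ha : P' ≫ a = sL p D s₁ := EffectiveEpi.fac _ _ _
  have haX : a ≫ D.obj.hom = pullback.fst p t := by
    rw [← cancel_epi P', ← Category.assoc, ha, sL_hom, hP'1]
  -- the section
  let d : SecData D T :=
    { t := t
      m := fun T' x τ hx => ⟨pullback.lift x τ hx ≫ a, by
        rw [Category.assoc, haX, pullback.lift_fst]⟩
      nat := fun T' T'' r x τ hx hx' => by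
        change pullback.lift (r ≫ x) (r ≫ τ) hx' ≫ a = r ≫ pullback.lift x τ hx ≫ a
        rw [← Category.assoc]
        congr 1
        apply pullback.hom_ext
        · rw [pullback.lift_fst, Category.assoc, pullback.lift_fst]
        · rw [pullback.lift_snd, Category.assoc, pullback.lift_snd]
      comm := fun T' x₀ x₁ τ h₀ h₁ hh => by
        apply Subtype.ext
        change (D.φ x₀ x₁ hh ⟨pullback.lift x₀ τ h₀ ≫ a, _⟩).1 = pullback.lift x₁ τ h₁ ≫ a
        let e : pullback τ P ⟶ T' := pullback.fst τ P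
        let τ₁ : pullback τ P ⟶ T₁ := pullback.snd τ P
        have hτ₁ : e ≫ τ = τ₁ ≫ P := pullback.condition
        haveI : Epi e := Flat.epi_of_flat_of_surjective _
        have hk : ∀ (x : T' ⟶ X) (hx : x ≫ p = τ ≫ t), (e ≫ x) ≫ p = τ₁ ≫ s₁.t := by
          intro x hx
          rw [Category.assoc, hx, ← Category.assoc, hτ₁, Category.assoc, ht]
        have hpt : ∀ (x : T' ⟶ X) (hx : x ≫ p = τ ≫ t),
            e ≫ pullback.lift x τ hx ≫ a = (s₁.pt (e ≫ x) τ₁ (hk x hx)).1 := by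
          intro x hx
          rw [pt_eq_sL, ← ha, ← Category.assoc, ← Category.assoc]
          congr 1
          apply pullback.hom_ext
          · rw [Category.assoc, pullback.lift_fst, Category.assoc, hP'1, pullback.lift_fst]
          · rw [Category.assoc, pullback.lift_snd, Category.assoc, hP'2, pullback.lift_snd_assoc,
              hτ₁]
        rw [← cancel_epi e]
        have hh' : (e ≫ x₀) ≫ p = (e ≫ x₁) ≫ p := (hk x₀ h₀).trans (hk x₁ h₁).symm
        have key := φ_nat D e hh ⟨pullback.lift x₀ τ h₀ ≫ a, by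
          rw [Category.assoc, haX, pullback.lift_fst]⟩ hh' (s₁.pt (e ≫ x₀) τ₁ (hk x₀ h₀)) rfl rfl
          (hpt x₀ h₀).symm
        rw [← key, Sec.pt_φ s₁ (e ≫ x₀) (e ≫ x₁) τ₁ (hk x₀ h₀) (hk x₁ h₁) hh', hpt x₁ h₁] }
  refine ⟨d.toSec, ?_⟩
  refine Sec.ext' ht fun T' x τ k₁ k₂ => ?_
  have k₃ : x ≫ p = (τ ≫ P) ≫ t := by rw [Category.assoc, ht]; exact k₂
  have e : (pullback.lift x (τ ≫ P) k₃ : T' ⟶ pullback p t) = pullback.lift x τ k₂ ≫ P' := by
    apply pullback.hom_ext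
    · rw [pullback.lift_fst, Category.assoc, hP'1, pullback.lift_fst]
    · rw [pullback.lift_snd, Category.assoc, hP'2, pullback.lift_snd_assoc]
  rw [Sec.pre_pt d.toSec P x τ k₁ k₃, SecData.toSec_pt, pt_eq_sL, ← ha, ← Category.assoc, ← e]

end Sheaf


section Main

open Groth.Agent.Lib.Helper46.EtDescFull Groth.Agent.Lib.Helper81.EtDescent

variable {S S' S₁ : Scheme.{u}} {g : S' ⟶ S} (hg : SGA1.UnivSubmersive g) {p : S₁ ⟶ S}
  (D₁ : SchDD g) (U₁ : Over S₁) [Etale U₁.hom]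
  (θ₁ : (toDD (pullback.snd g p)).obj U₁ ≅ pullDD p (pullback.fst g p) pullback.condition D₁)

/-- The cartesian square defining `S' ×_S S₁`. -/
lemma hsq (g : S' ⟶ S) (p : S₁ ⟶ S) :
    IsPullback (pullback.fst g p) (pullback.snd g p) g p := IsPullback.of_hasPullback _ _

/-- The section of the descended functor of `D₁` over `U₁`. -/
noncomputable def sig : Sec D₁ U₁.left := bcSec D₁ (hsq g p) U₁ θ₁

lemma sig_t : (sig D₁ U₁ θ₁).t = U₁.hom ≫ p := rfl

/-- The isomorphism `S' ×_S U₁ ≅ D₁ ×_{S'} S'₁`. -/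
noncomputable def AA : pullback g (U₁.hom ≫ p) ⟶ pullback D₁.obj.hom (pullback.fst g p) :=
  (kappa (w := pullback.condition) (hsq g p) U₁).hom ≫ θL D₁ U₁ θ₁

/-- The underlying morphism of `θ₁.inv`. -/
noncomputable def θI : pullback D₁.obj.hom (pullback.fst g p) ⟶ pullback (pullback.snd g p) U₁.hom :=
  θ₁.inv.hom.left

lemma θI_fst : θI D₁ U₁ θ₁ ≫ pullback.fst (pullback.snd g p) U₁.hom =
    pullback.snd D₁.obj.hom (pullback.fst g p) := Over.w θ₁.inv.hom

lemma θI_θL : θI D₁ U₁ θ₁ ≫ θL D₁ U₁ θ₁ = 𝟙 _ := θ_inv_hom_left D₁ U₁ θ₁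

lemma θL_θI : θL D₁ U₁ θ₁ ≫ θI D₁ U₁ θ₁ = 𝟙 _ := θ_hom_inv_left D₁ U₁ θ₁

instance : IsIso (AA D₁ U₁ θ₁) := by
  have h00 : IsIso (θL D₁ U₁ θ₁) := isIso_θL D₁ U₁ θ₁
  unfold AA
  infer_instance

lemma sL_sig : sL g D₁ (sig D₁ U₁ θ₁) = AA D₁ U₁ θ₁ ≫ pullback.fst D₁.obj.hom (pullback.fst g p) :=
  rfl

lemma kappa_hom_snd : (kappa (w := pullback.condition) (hsq g p) U₁).hom ≫
    pullback.snd (pullback.snd g p) U₁.hom = pullback.snd g (U₁.hom ≫ p) :=
  pullback.lift_snd _ _ _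

lemma kappa_hom_fst_fst : (kappa (w := pullback.condition) (hsq g p) U₁).hom ≫
    pullback.fst (pullback.snd g p) U₁.hom ≫ pullback.fst g p = pullback.fst g (U₁.hom ≫ p) := by
  unfold kappa
  rw [pullback.lift_fst_assoc]
  exact (hsq g p).lift_fst _ _ _

lemma kappa_inv_fst : (kappa (w := pullback.condition) (hsq g p) U₁).inv ≫
    pullback.fst g (U₁.hom ≫ p) = pullback.fst (pullback.snd g p) U₁.hom ≫ pullback.fst g p :=
  pullback.lift_fst _ _ _

lemma kappa_inv_snd : (kappa (w := pullback.condition) (hsq g p) U₁).inv ≫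
    pullback.snd g (U₁.hom ≫ p) = pullback.snd (pullback.snd g p) U₁.hom :=
  pullback.lift_snd _ _ _

lemma AA_snd_fst : AA D₁ U₁ θ₁ ≫ pullback.snd D₁.obj.hom (pullback.fst g p) ≫ pullback.fst g p =
    pullback.fst g (U₁.hom ≫ p) := by
  unfold AA
  rw [Category.assoc, ← Category.assoc (θL D₁ U₁ θ₁), θ_left_snd, kappa_hom_fst_fst]

lemma AA_snd_snd : AA D₁ U₁ θ₁ ≫ pullback.snd D₁.obj.hom (pullback.fst g p) ≫ pullback.snd g p =
    pullback.snd g (U₁.hom ≫ p) ≫ U₁.hom := by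
  unfold AA
  rw [Category.assoc, ← Category.assoc (θL D₁ U₁ θ₁), θ_left_snd, pullback.condition,
    ← Category.assoc, kappa_hom_snd]

lemma Ai_AA : (θI D₁ U₁ θ₁ ≫ (kappa (w := pullback.condition) (hsq g p) U₁).inv) ≫ AA D₁ U₁ θ₁ =
    𝟙 _ := by
  unfold AA
  rw [Category.assoc, Iso.inv_hom_id_assoc, θI_θL]

lemma AA_Ai : AA D₁ U₁ θ₁ ≫ (θI D₁ U₁ θ₁ ≫ (kappa (w := pullback.condition) (hsq g p) U₁).inv) =
    𝟙 _ := by
  unfold AA
  rw [Category.assoc, ← Category.assoc (θL D₁ U₁ θ₁), θL_θI, Category.id_comp, Iso.hom_inv_id]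

variable (p) in
/-- The section over `U₁` together with the comparison isomorphism, with clean types. -/
structure SigData where
  /-- the section -/
  σ : Sec D₁ U₁.left
  ht : σ.t = U₁.hom ≫ p
  /-- the comparison isomorphism -/
  A : pullback g σ.t ⟶ pullback D₁.obj.hom (pullback.fst g p)
  /-- its inverse -/
  Ai : pullback D₁.obj.hom (pullback.fst g p) ⟶ pullback g σ.t
  A_Ai : A ≫ Ai = 𝟙 _
  Ai_A : Ai ≫ A = 𝟙 _
  sL_eq : sL g D₁ σ = A ≫ pullback.fst D₁.obj.hom (pullback.fst g p)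
  A_snd_fst : A ≫ pullback.snd D₁.obj.hom (pullback.fst g p) ≫ pullback.fst g p =
    pullback.fst g σ.t
  A_snd_snd : A ≫ pullback.snd D₁.obj.hom (pullback.fst g p) ≫ pullback.snd g p =
    pullback.snd g σ.t ≫ U₁.hom
  Ai_snd : Ai ≫ pullback.snd g σ.t = θI D₁ U₁ θ₁ ≫ pullback.snd (pullback.snd g p) U₁.hom

/-- The data attached to `θ₁`. -/
noncomputable def sigData : SigData p D₁ U₁ θ₁ where
  σ := sig D₁ U₁ θ₁
  ht := rfl
  A := AA D₁ U₁ θ₁
  Ai := θI D₁ U₁ θ₁ ≫ (kappa (w := pullback.condition) (hsq g p) U₁).inv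
  A_Ai := AA_Ai D₁ U₁ θ₁
  Ai_A := Ai_AA D₁ U₁ θ₁
  sL_eq := rfl
  A_snd_fst := AA_snd_fst D₁ U₁ θ₁
  A_snd_snd := AA_snd_snd D₁ U₁ θ₁
  Ai_snd := by
    have h := kappa_inv_snd (g := g) (p := p) U₁
    exact (Category.assoc _ _ _).trans (congrArg (fun m => θI D₁ U₁ θ₁ ≫ m) h)

variable {D₁ U₁ θ₁}

include hg in
/-- Injectivity: a point of `U₁` is determined by its image in `S₁` and the induced section. -/
theorem sig_pre_injective (Sg : SigData p D₁ U₁ θ₁) {T : Scheme.{u}} (v v' : T ⟶ U₁.left)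
    (hv : v ≫ U₁.hom = v' ≫ U₁.hom) (hs : Sg.σ.pre v = Sg.σ.pre v') : v = v' := by
  obtain ⟨σ, hσt, A, Ai, hAAi, hAiA, hsL, hA1, hA2, hAi⟩ := Sg
  change σ.pre v = σ.pre v' at hs
  haveI : IsIso A := ⟨Ai, hAAi, hAiA⟩
  let π : pullback g (v ≫ σ.t) ⟶ T := pullback.snd g (v ≫ σ.t)
  have k₁ : pullback.fst g (v ≫ σ.t) ≫ g = π ≫ (σ.pre v).t := pullback.condition
  have k₂ : pullback.fst g (v ≫ σ.t) ≫ g = π ≫ (σ.pre v').t := by
    rw [← Sec.t_eq_of_eq hs]; exact k₁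
  have k₁' : pullback.fst g (v ≫ σ.t) ≫ g = (π ≫ v) ≫ σ.t := by rw [Category.assoc]; exact k₁
  have k₂' : pullback.fst g (v ≫ σ.t) ≫ g = (π ≫ v') ≫ σ.t := by rw [Category.assoc]; exact k₂
  have e0 := Sec.pt_eq_of_eq hs (pullback.fst g (v ≫ σ.t)) π k₁ k₂
  rw [Sec.pre_pt σ v _ π k₁ k₁', Sec.pre_pt σ v' _ π k₂ k₂', pt_eq_sL, pt_eq_sL, hsL,
    ← Category.assoc, ← Category.assoc] at e0
  have e1 : pullback.lift (pullback.fst g (v ≫ σ.t)) (π ≫ v) k₁' ≫ A =
      pullback.lift (pullback.fst g (v ≫ σ.t)) (π ≫ v') k₂' ≫ A := by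
    apply pullback.hom_ext
    · exact e0
    · apply (hsq g p).hom_ext
      · rw [Category.assoc, Category.assoc, Category.assoc, Category.assoc, hA1, pullback.lift_fst,
          pullback.lift_fst]
      · rw [Category.assoc, Category.assoc, Category.assoc, Category.assoc, hA2,
          pullback.lift_snd_assoc, pullback.lift_snd_assoc, Category.assoc, Category.assoc, hv]
  have e2 := (cancel_mono A).mp e1
  have e3 : π ≫ v = π ≫ v' := by
    have := congrArg (fun m => m ≫ pullback.snd g σ.t) e2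
    simpa only [pullback.lift_snd] using this
  exact eq_of_comp_eq_of_surjective π (surjective_snd hg _) U₁.hom v v' hv e3

include hg in
/-- Surjectivity: every section of the descended functor over `T ⟶ S₁ ⟶ S` comes from a point of
`U₁`. -/
theorem sig_pre_surjective (Sg : SigData p D₁ U₁ θ₁) {T : Scheme.{u}} (s : Sec D₁ T)
    (x : T ⟶ S₁) (hs : s.t = x ≫ p) : ∃ v : T ⟶ U₁.left, v ≫ U₁.hom = x ∧ Sg.σ.pre v = s := by
  obtain ⟨σ, hσt, A, Ai, hAAi, hAiA, hsL, hA1, hA2, hAi⟩ := Sg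
  change ∃ v : T ⟶ U₁.left, v ≫ U₁.hom = x ∧ σ.pre v = s
  obtain ⟨π, hπ⟩ : ∃ π : pullback g s.t ⟶ T, π = pullback.snd g s.t := ⟨_, rfl⟩
  obtain ⟨a, ha0⟩ : ∃ a : pullback g s.t ⟶ D₁.obj.left, a = sL g D₁ s := ⟨_, rfl⟩
  have ha : a ≫ D₁.obj.hom = pullback.fst g s.t := by rw [ha0, sL_hom]
  have hcond : pullback.fst g s.t ≫ g = π ≫ s.t := by rw [hπ]; exact pullback.condition
  obtain ⟨y, hy1, hy2⟩ : ∃ y : pullback g s.t ⟶ pullback g p,
      y ≫ pullback.fst g p = pullback.fst g s.t ∧ y ≫ pullback.snd g p = π ≫ x :=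
    ⟨pullback.lift (pullback.fst g s.t) (π ≫ x) (by rw [Category.assoc, ← hs]; exact hcond),
      pullback.lift_fst _ _ _, pullback.lift_snd _ _ _⟩
  obtain ⟨B, hB1, hB2⟩ : ∃ B : pullback g s.t ⟶ pullback D₁.obj.hom (pullback.fst g p),
      B ≫ pullback.fst D₁.obj.hom (pullback.fst g p) = a ∧
      B ≫ pullback.snd D₁.obj.hom (pullback.fst g p) = y :=
    ⟨pullback.lift a y (by rw [ha, hy1]), pullback.lift_fst _ _ _, pullback.lift_snd _ _ _⟩
  obtain ⟨w, hw0⟩ : ∃ w : pullback g s.t ⟶ U₁.left,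
    w = B ≫ θI D₁ U₁ θ₁ ≫ pullback.snd (pullback.snd g p) U₁.hom := ⟨_, rfl⟩
  have hw : w ≫ U₁.hom = π ≫ x := by
    rw [hw0, Category.assoc, Category.assoc, ← pullback.condition, ← Category.assoc (θI D₁ U₁ θ₁),
      θI_fst, ← Category.assoc, hB2, hy2]
  have hcoc : pullback.fst π π ≫ w = pullback.snd π π ≫ w := by
    obtain ⟨z₀, hz₀⟩ : ∃ z₀ : pullback π π ⟶ pullback g s.t, z₀ = pullback.fst π π := ⟨_, rfl⟩
    obtain ⟨z₁, hz₁⟩ : ∃ z₁ : pullback π π ⟶ pullback g s.t, z₁ = pullback.snd π π := ⟨_, rfl⟩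
    have hz : z₀ ≫ π = z₁ ≫ π := by rw [hz₀, hz₁]; exact pullback.condition
    rw [← hz₀, ← hz₁]
    have h₀ : (z₀ ≫ pullback.fst g s.t) ≫ g = (z₀ ≫ π) ≫ s.t := by
      rw [Category.assoc, hcond, Category.assoc]
    have h₁ : (z₁ ≫ pullback.fst g s.t) ≫ g = (z₀ ≫ π) ≫ s.t := by
      rw [Category.assoc, hcond, hz, Category.assoc]
    have hx' : (z₀ ≫ pullback.fst g s.t) ≫ g = (z₁ ≫ pullback.fst g s.t) ≫ g := h₀.trans h₁.symm
    have hpt₀ : (s.pt (z₀ ≫ pullback.fst g s.t) (z₀ ≫ π) h₀).1 = z₀ ≫ a := by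
      rw [pt_eq_sL, ha0]
      congr 1
      apply pullback.hom_ext
      · rw [pullback.lift_fst]
      · rw [pullback.lift_snd]; exact congrArg (fun m => z₀ ≫ m) hπ
    have hpt₁ : (s.pt (z₁ ≫ pullback.fst g s.t) (z₀ ≫ π) h₁).1 = z₁ ≫ a := by
      rw [pt_eq_sL, ha0]
      congr 1
      apply pullback.hom_ext
      · rw [pullback.lift_fst]
      · rw [pullback.lift_snd, hz]; exact congrArg (fun m => z₁ ≫ m) hπ
    have key1 := Sec.pt_φ s (z₀ ≫ pullback.fst g s.t) (z₁ ≫ pullback.fst g s.t) (z₀ ≫ π) h₀ h₁ hx'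
    have hyy : (z₀ ≫ y) ≫ pullback.snd g p = (z₁ ≫ y) ≫ pullback.snd g p := by
      rw [Category.assoc, Category.assoc, hy2, ← Category.assoc, ← Category.assoc, hz]
    have h'' : ((z₀ ≫ y) ≫ pullback.fst g p) ≫ g = ((z₁ ≫ y) ≫ pullback.fst g p) ≫ g := by
      rw [Category.assoc z₀, Category.assoc z₁, hy1]; exact hx'
    let V₀ : Lifts (pullDD p (pullback.fst g p) pullback.condition D₁).obj (z₀ ≫ y) :=
      ⟨z₀ ≫ B, by
        change (z₀ ≫ B) ≫ pullback.snd D₁.obj.hom (pullback.fst g p) = _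
        rw [Category.assoc, hB2]⟩
    have key2 := pullDD_φ_fst p (pullback.fst g p) pullback.condition D₁ (z₀ ≫ y) (z₁ ≫ y) hyy h''
      V₀ ⟨z₀ ≫ a, by rw [Category.assoc, ha, Category.assoc, hy1]⟩ (by
        change z₀ ≫ a = (z₀ ≫ B) ≫ pullback.fst D₁.obj.hom (pullback.fst g p)
        rw [Category.assoc, hB1])
    have key2' : (D₁.φ ((z₀ ≫ y) ≫ pullback.fst g p) ((z₁ ≫ y) ≫ pullback.fst g p) h''
        ⟨z₀ ≫ a, by rw [Category.assoc, ha, Category.assoc, hy1]⟩).1 = z₁ ≫ a := by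
      rw [φ_congr D₁ h'' hx' ⟨z₀ ≫ a, by rw [Category.assoc, ha, Category.assoc, hy1]⟩
        (s.pt (z₀ ≫ pullback.fst g s.t) (z₀ ≫ π) h₀) (by rw [Category.assoc, hy1])
        (by rw [Category.assoc, hy1]) hpt₀.symm, key1, hpt₁]
    rw [key2'] at key2
    obtain ⟨φV, hφV⟩ : ∃ φV : pullback π π ⟶ pullback D₁.obj.hom (pullback.fst g p),
      φV = ((pullDD p (pullback.fst g p) pullback.condition D₁).φ (z₀ ≫ y) (z₁ ≫ y) hyy V₀).1 :=
      ⟨_, rfl⟩
    have hφV1 : φV ≫ pullback.fst D₁.obj.hom (pullback.fst g p) = z₁ ≫ a := by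
      rw [hφV]; exact key2
    have hφV2 : φV ≫ pullback.snd D₁.obj.hom (pullback.fst g p) = z₁ ≫ y := by
      rw [hφV]
      exact ((pullDD p (pullback.fst g p) pullback.condition D₁).φ (z₀ ≫ y) (z₁ ≫ y) hyy V₀).2
    have hφV3 : φV = z₁ ≫ B := by
      apply pullback.hom_ext
      · rw [hφV1, Category.assoc, hB1]
      · rw [hφV2, Category.assoc, hB2]
    have key3 := θ₁.inv.comm (z₀ ≫ y) (z₁ ≫ y) hyy V₀ (θ₁.inv.push V₀) rfl
    have key4 : (((toDD (pullback.snd g p)).obj U₁).φ (z₀ ≫ y) (z₁ ≫ y) hyy (θ₁.inv.push V₀)).1 ≫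
        pullback.snd (pullback.snd g p) U₁.hom =
        ((z₀ ≫ B) ≫ θI D₁ U₁ θ₁) ≫ pullback.snd (pullback.snd g p) U₁.hom := by
      change (canMap (pullback.snd g p) U₁ (z₀ ≫ y) (z₁ ≫ y) hyy (θ₁.inv.push V₀)).1 ≫ _ = _
      rw [canMap_val, pullback.lift_snd]
      rfl
    have key5 : (((toDD (pullback.snd g p)).obj U₁).φ (z₀ ≫ y) (z₁ ≫ y) hyy (θ₁.inv.push V₀)).1 ≫
        pullback.snd (pullback.snd g p) U₁.hom =
        (φV ≫ θI D₁ U₁ θ₁) ≫ pullback.snd (pullback.snd g p) U₁.hom := by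
      rw [key3, hφV]; rfl
    rw [key4, hφV3] at key5
    rw [hw0]
    simpa only [Category.assoc] using key5
  obtain ⟨v, ⟨hv1, hv2⟩, -⟩ := exists_unique_desc π x U₁.hom w hw hcoc (by
    rw [hπ]; exact univSubmersive_snd hg s.t)
  refine ⟨v, hv1, ?_⟩
  have ht : (σ.pre v).t = s.t := by
    change v ≫ σ.t = s.t
    rw [hσt, ← Category.assoc, hv1, hs]
  have hAi1 : Ai ≫ pullback.fst g σ.t =
      pullback.snd D₁.obj.hom (pullback.fst g p) ≫ pullback.fst g p := by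
    rw [← hA1, ← Category.assoc, hAiA, Category.id_comp]
  refine Sec.ext' ht fun T' x' τ' k₁ k₂ => ?_
  have k₁' : x' ≫ g = (τ' ≫ v) ≫ σ.t := by rw [Category.assoc]; exact k₁
  rw [Sec.pre_pt σ v x' τ' k₁ k₁', pt_eq_sL, pt_eq_sL, hsL, ← ha0]
  have claim : pullback.lift x' (τ' ≫ v) k₁' = pullback.lift x' τ' k₂ ≫ B ≫ Ai := by
    apply pullback.hom_ext
    · rw [pullback.lift_fst, Category.assoc, Category.assoc, hAi1, ← Category.assoc B, hB2, hy1,
        pullback.lift_fst]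
    · rw [pullback.lift_snd, Category.assoc, Category.assoc, hAi, ← hw0, ← hv2,
        ← Category.assoc, hπ, pullback.lift_snd]
  rw [claim, Category.assoc, Category.assoc, ← Category.assoc Ai, hAiA, Category.id_comp, hB1]

/-! ### The descent datum on `U₁` relative to `p` -/

section DD

variable (Sg : SigData p D₁ U₁ θ₁)

lemma pre_t_eq {T : Scheme.{u}} {x₀ x₁ : T ⟶ S₁} (h : x₀ ≫ p = x₁ ≫ p) (v : Lifts U₁ x₀) :
    (Sg.σ.pre v.1).t = x₁ ≫ p := by
  change v.1 ≫ Sg.σ.t = _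
  rw [Sg.ht, ← Category.assoc, v.2, h]

include hg in
lemma exists_tr {T : Scheme.{u}} {x₀ x₁ : T ⟶ S₁} (h : x₀ ≫ p = x₁ ≫ p) (v : Lifts U₁ x₀) :
    ∃ v₁ : Lifts U₁ x₁, Sg.σ.pre v₁.1 = Sg.σ.pre v.1 := by
  obtain ⟨v₁, h1, h2⟩ := sig_pre_surjective hg Sg (Sg.σ.pre v.1) x₁ (pre_t_eq Sg h v)
  exact ⟨⟨v₁, h1⟩, h2⟩

/-- Transport of points of `U₁`. -/
noncomputable def tr {T : Scheme.{u}} {x₀ x₁ : T ⟶ S₁} (h : x₀ ≫ p = x₁ ≫ p) (v : Lifts U₁ x₀) :
    Lifts U₁ x₁ := Classical.choose (exists_tr hg Sg h v)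

lemma tr_spec {T : Scheme.{u}} {x₀ x₁ : T ⟶ S₁} (h : x₀ ≫ p = x₁ ≫ p) (v : Lifts U₁ x₀) :
    Sg.σ.pre (tr hg Sg h v).1 = Sg.σ.pre v.1 := Classical.choose_spec (exists_tr hg Sg h v)

lemma tr_unique {T : Scheme.{u}} {x₀ x₁ : T ⟶ S₁} (h : x₀ ≫ p = x₁ ≫ p) (v : Lifts U₁ x₀)
    (v₁ : Lifts U₁ x₁) (hv₁ : Sg.σ.pre v₁.1 = Sg.σ.pre v.1) : v₁ = tr hg Sg h v := by
  apply Subtype.ext
  exact sig_pre_injective hg Sg v₁.1 (tr hg Sg h v).1 (v₁.2.trans (tr hg Sg h v).2.symm)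
    (hv₁.trans (tr_spec hg Sg h v).symm)

/-- The descent datum on `U₁` relative to `p` induced by the descended functor. -/
noncomputable def EE : SchDD p where
  obj := U₁
  φ T x₀ x₁ h :=
    { toFun := tr hg Sg h
      invFun := tr hg Sg h.symm
      left_inv := fun v => (tr_unique hg Sg h.symm (tr hg Sg h v) v (tr_spec hg Sg h v).symm).symm
      right_inv := fun v =>
        (tr_unique hg Sg h (tr hg Sg h.symm v) v (tr_spec hg Sg h.symm v).symm).symm }
  φ_natural T T' r x₀ x₁ h h' v v' hv := by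
    have key := tr_unique hg Sg h' v' ⟨r ≫ (tr hg Sg h v).1, by
      rw [Category.assoc, (tr hg Sg h v).2]⟩ (by
        change Sg.σ.pre (r ≫ (tr hg Sg h v).1) = Sg.σ.pre v'.1
        rw [hv, ← Sec.pre_pre, ← Sec.pre_pre, tr_spec])
    exact (congrArg Subtype.val key).symm
  φ_self T x v := (tr_unique hg Sg rfl v v rfl).symm
  φ_comp T x₀ x₁ x₂ h₀₁ h₁₂ v :=
    tr_unique hg Sg (h₀₁.trans h₁₂) v _ ((tr_spec hg Sg h₁₂ _).trans (tr_spec hg Sg h₀₁ v))

lemma EE_obj : (EE hg Sg).obj = U₁ := rfl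

lemma EE_φ_spec {T : Scheme.{u}} (x₀ x₁ : T ⟶ S₁) (h : x₀ ≫ p = x₁ ≫ p) (v : Lifts U₁ x₀) :
    Sg.σ.pre ((EE hg Sg).φ x₀ x₁ h v).1 = Sg.σ.pre v.1 := tr_spec hg Sg h v

end DD


/-! ### Effectiveness -/

section Final

include hg in
/-- Theorem F for a `SigData`. -/
theorem effective_of_sigData (Sg : SigData p D₁ U₁ θ₁) [Flat p] [Surjective p] [QuasiCompact p] [IsSeparated U₁.hom]
    [QuasiCompact U₁.hom] :
    ∃ U : Over S, Etale U.hom ∧ IsSeparated U.hom ∧ QuasiCompact U.hom ∧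
      Nonempty ((toDD g).obj U ≅ D₁) := by
  haveI : LocallyQuasiFinite U₁.hom := Groth.Agent.Lib.Helper46.lqf_of_etale U₁.hom
  have hE : Mor2.IsQuasiAffine (EE hg Sg).obj.hom :=
    Groth.Agent.Lib.Helper5.DescSepLQF.isQuasiAffine_of_sep_lqf U₁.hom
  obtain ⟨U, ⟨κ⟩⟩ :=
    Groth.Agent.Lib.Helper5.DescQAffHom.effective_of_isQuasiAffine p (EE hg Sg) hE
  have hUet : Etale U.hom :=
    Groth.Agent.Lib.Helper5.DescProps.of_iso_toDD @Etale κ (inferInstanceAs (Etale U₁.hom))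
  have hUsep : IsSeparated U.hom :=
    Groth.Agent.Lib.Helper5.DescProps.of_iso_toDD @IsSeparated κ
      (inferInstanceAs (IsSeparated U₁.hom))
  have hUqc : QuasiCompact U.hom :=
    Groth.Agent.Lib.Helper5.DescProps.of_iso_toDD @QuasiCompact κ
      (inferInstanceAs (QuasiCompact U₁.hom))
  obtain ⟨k, hk⟩ : ∃ k : pullback p U.hom ⟶ U₁.left, k = κ.hom.hom.left := ⟨_, rfl⟩
  have hk1 : k ≫ U₁.hom = pullback.fst p U.hom := by rw [hk]; exact Over.w κ.hom.hom
  haveI : IsIso k := by rw [hk]; exact Groth.Agent.Lib.Helper5.DescProps.isIso_hom_left κ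
  obtain ⟨P, hP⟩ : ∃ P : pullback p U.hom ⟶ U.left, P = pullback.snd p U.hom := ⟨_, rfl⟩
  haveI : Flat P := by rw [hP]; infer_instance
  haveI : Surjective P := by rw [hP]; infer_instance
  haveI : QuasiCompact P := by rw [hP]; infer_instance
  obtain ⟨s₁, hs₁⟩ : ∃ s₁ : Sec D₁ (pullback p U.hom), s₁ = Sg.σ.pre k := ⟨_, rfl⟩
  have heq : s₁.pre (pullback.fst P P) = s₁.pre (pullback.snd P P) := by
    rw [hs₁, Sec.pre_pre, Sec.pre_pre]
    obtain ⟨z₀, hz₀⟩ : ∃ z₀ : pullback P P ⟶ pullback p U.hom, z₀ = pullback.fst P P := ⟨_, rfl⟩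
    obtain ⟨z₁, hz₁⟩ : ∃ z₁ : pullback P P ⟶ pullback p U.hom, z₁ = pullback.snd P P := ⟨_, rfl⟩
    have hz : z₀ ≫ pullback.snd p U.hom = z₁ ≫ pullback.snd p U.hom := by
      rw [hz₀, hz₁, ← hP]; exact pullback.condition
    rw [← hz₀, ← hz₁]
    have hx : (z₀ ≫ pullback.fst p U.hom) ≫ p = (z₁ ≫ pullback.fst p U.hom) ≫ p := by
      rw [Category.assoc, Category.assoc, pullback.condition, ← Category.assoc, hz,
        Category.assoc]
    let V : Lifts ((toDD p).obj U).obj (z₀ ≫ pullback.fst p U.hom) := ⟨z₀, rfl⟩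
    have key := κ.hom.comm (z₀ ≫ pullback.fst p U.hom) (z₁ ≫ pullback.fst p U.hom) hx V
      (κ.hom.push V) rfl
    have hcan : (((toDD p).obj U).φ (z₀ ≫ pullback.fst p U.hom) (z₁ ≫ pullback.fst p U.hom) hx
        V).1 = z₁ := by
      change (canMap p U (z₀ ≫ pullback.fst p U.hom) (z₁ ≫ pullback.fst p U.hom) hx V).1 = z₁
      rw [canMap_val]
      apply pullback.hom_ext
      · rw [pullback.lift_fst]
      · rw [pullback.lift_snd]; exact hz
    have spec := EE_φ_spec hg Sg (z₀ ≫ pullback.fst p U.hom) (z₁ ≫ pullback.fst p U.hom) hx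
      (κ.hom.push V)
    rw [key, hcan] at spec
    rw [hk]
    exact spec.symm
  obtain ⟨sU, hsU⟩ := exists_descend D₁ P s₁ heq
  haveI : Epi P := Flat.epi_of_flat_of_surjective _
  have htt : P ≫ sU.t = k ≫ Sg.σ.t := by
    have h1 := Sec.t_eq_of_eq hsU
    rw [hs₁] at h1
    exact h1
  have hsUt : sU.t = U.hom := by
    rw [← cancel_epi P, htt, Sg.ht, ← Category.assoc, hk1, hP]
    exact pullback.condition
  -- the underlying morphism of `sU` is an isomorphism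
  obtain ⟨aU, haU⟩ : ∃ aU : pullback g sU.t ⟶ D₁.obj.left, aU = sL g D₁ sU := ⟨_, rfl⟩
  have haU1 : aU ≫ D₁.obj.hom = pullback.fst g sU.t := by rw [haU, sL_hom]
  obtain ⟨A, hA⟩ : ∃ A : pullback g Sg.σ.t ⟶ pullback D₁.obj.hom (pullback.fst g p), A = Sg.A :=
    ⟨_, rfl⟩
  haveI : IsIso A := by rw [hA]; exact ⟨Sg.Ai, Sg.A_Ai, Sg.Ai_A⟩
  obtain ⟨mapP, hmapP⟩ : ∃ mapP : pullback g (P ≫ sU.t) ⟶ pullback g sU.t,
    mapP = pullback.lift (pullback.fst g (P ≫ sU.t)) (pullback.snd g (P ≫ sU.t) ≫ P)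
      (by rw [Category.assoc]; exact pullback.condition) := ⟨_, rfl⟩
  have hleft : IsPullback mapP (pullback.snd g (P ≫ sU.t)) (pullback.snd g sU.t) P := by
    rw [hmapP]
    exact Groth.Agent.Lib.Helper46.isPullback_stage g sU.t P (P ≫ sU.t) rfl
  have hcondW : pullback.fst g (P ≫ sU.t) ≫ g = (pullback.snd g (P ≫ sU.t) ≫ k) ≫ Sg.σ.t := by
    rw [Category.assoc, ← htt]; exact pullback.condition
  obtain ⟨Lk, hLk⟩ : ∃ Lk : pullback g (P ≫ sU.t) ⟶ pullback g Sg.σ.t,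
    Lk = pullback.lift (pullback.fst g (P ≫ sU.t)) (pullback.snd g (P ≫ sU.t) ≫ k) hcondW :=
    ⟨_, rfl⟩
  have hLk1 : Lk ≫ pullback.fst g Sg.σ.t = pullback.fst g (P ≫ sU.t) := by
    rw [hLk, pullback.lift_fst]
  have hLk2 : Lk ≫ pullback.snd g Sg.σ.t = pullback.snd g (P ≫ sU.t) ≫ k := by
    rw [hLk, pullback.lift_snd]
  have hLkpb : IsPullback Lk (pullback.snd g (P ≫ sU.t)) (pullback.snd g Sg.σ.t) k := by
    have h0 := Groth.Agent.Lib.Helper46.isPullback_stage g Sg.σ.t k (P ≫ sU.t) htt.symm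
    have e : Lk = pullback.lift (pullback.fst g (P ≫ sU.t)) (pullback.snd g (P ≫ sU.t) ≫ k)
        (by rw [Category.assoc, ← htt]; exact pullback.condition) := hLk
    rw [e]
    exact h0
  haveI : IsIso Lk := hLkpb.flip.isIso_snd_of_isIso
  -- the key identity at the universal point
  have hkey : mapP ≫ aU = (Lk ≫ A) ≫ pullback.fst D₁.obj.hom (pullback.fst g p) := by
    have c₁ : pullback.fst g (P ≫ sU.t) ≫ g = pullback.snd g (P ≫ sU.t) ≫ (sU.pre P).t :=
      pullback.condition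
    have c₂ : pullback.fst g (P ≫ sU.t) ≫ g = pullback.snd g (P ≫ sU.t) ≫ s₁.t := by
      rw [← Sec.t_eq_of_eq hsU]; exact c₁
    have c₁' : pullback.fst g (P ≫ sU.t) ≫ g = (pullback.snd g (P ≫ sU.t) ≫ P) ≫ sU.t := by
      rw [Category.assoc]; exact c₁
    have e0 := Sec.pt_eq_of_eq hsU (pullback.fst g (P ≫ sU.t)) (pullback.snd g (P ≫ sU.t)) c₁ c₂
    rw [Sec.pre_pt sU P _ _ c₁ c₁', pt_eq_sL, ← haU, ← hmapP] at e0
    rw [e0]
    subst hs₁
    have c₂' : pullback.fst g (P ≫ sU.t) ≫ g = pullback.snd g (P ≫ sU.t) ≫ k ≫ Sg.σ.t := by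
      rw [← Category.assoc]; exact hcondW
    rw [Sec.pre_pt Sg.σ k _ _ c₂' hcondW, pt_eq_sL, ← hLk, Sg.sL_eq, ← hA, Category.assoc]
  -- the outer rectangle
  have hright : IsPullback (pullback.fst p U.hom) P p U.hom := by
    rw [hP]; exact IsPullback.of_hasPullback p U.hom
  have houter := hleft.flip.paste_horiz hright
  have hright' : IsPullback
      (pullback.snd D₁.obj.hom (pullback.fst g p) ≫ pullback.snd g p)
      (pullback.fst D₁.obj.hom (pullback.fst g p)) p (D₁.obj.hom ≫ g) :=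
    ((IsPullback.of_hasPullback D₁.obj.hom (pullback.fst g p)).paste_vert (hsq g p)).flip
  have etop : (Lk ≫ A) ≫ pullback.snd D₁.obj.hom (pullback.fst g p) ≫ pullback.snd g p =
      pullback.snd g (P ≫ sU.t) ≫ pullback.fst p U.hom := by
    rw [Category.assoc, hA, Sg.A_snd_snd, ← Category.assoc, hLk2, Category.assoc, hk1]
  have ebot : aU ≫ D₁.obj.hom ≫ g = pullback.snd g sU.t ≫ U.hom := by
    rw [← Category.assoc, haU1, ← hsUt]; exact pullback.condition
  rw [← etop, ← ebot] at houter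
  have hsquare : IsPullback (Lk ≫ A) mapP (pullback.fst D₁.obj.hom (pullback.fst g p)) aU :=
    IsPullback.of_right houter hkey.symm hright'
  have hiso : IsIso aU :=
    MorphismProperty.of_isPullback_of_descendsAlong (P := MorphismProperty.isomorphisms Scheme)
      (Q := @Surjective ⊓ @Flat ⊓ @QuasiCompact) hsquare
      ⟨⟨inferInstance, inferInstance⟩, inferInstance⟩ (inferInstanceAs (IsIso (Lk ≫ A)))
  have hiso' : IsIso sU.a.hom.left := by
    have h := hiso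
    rw [haU] at h
    exact h
  let ε : ((toDD g).obj (Over.mk sU.t)).obj ≅ D₁.obj :=
    Over.isoMk (@asIso _ _ _ _ sU.a.hom.left hiso') (Over.w sU.a.hom)
  refine ⟨Over.mk sU.t, ?_, ?_, ?_, ⟨Groth.Agent.Lib.Helper5.AffCore.isoMk _ _ ε sU.a.comm⟩⟩
  · change Etale sU.t
    rw [hsUt]; exact hUet
  · change IsSeparated sU.t
    rw [hsUt]; exact hUsep
  · change QuasiCompact sU.t
    rw [hsUt]; exact hUqc

include hg in
/-- **Theorem F**: effectiveness of an étale, separated, quasi-compact descent datum relative to a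
universally submersive morphism can be tested after an fpqc base change. -/
theorem effective_of_fpqc [Flat p] [Surjective p] [QuasiCompact p] (D₁ : SchDD g) (U₁ : Over S₁)
    [Etale U₁.hom] [IsSeparated U₁.hom] [QuasiCompact U₁.hom]
    (θ₁ : (toDD (pullback.snd g p)).obj U₁ ≅ pullDD p (pullback.fst g p) pullback.condition D₁) :
    ∃ U : Over S, Etale U.hom ∧ IsSeparated U.hom ∧ QuasiCompact U.hom ∧
      Nonempty ((toDD g).obj U ≅ D₁) :=
  effective_of_sigData hg (sigData D₁ U₁ θ₁)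

end Final

end Main

end Groth.Agent.Lib.Helper46.EtDescFpqc
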