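import Mathlib
import Groth.Prelude.Def_DescFam
import Groth.Prelude.Def_SGA1
import Groth.Agent.Lib.Helper46.EtDescFpqc
import Groth.Agent.Lib.Helper46.EtDescLocal
import Groth.Agent.Lib.Helper46.EtDescBC
import Groth.Agent.Lib.Helper46.DescComp
import Groth.Agent.Lib.Helper81.Submersive

/-!
# Effectiveness of étale descent data can be tested after an fpqc base change (family form), and
on the completions of the local rings (helper46)
-/

set_option autoImplicit false
universe u
open CategoryTheory CategoryTheory.Limits AlgebraicGeometry Desc Opposite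

namespace Groth.Agent.Lib.Helper46.EtDescLocal

open Groth.Agent.Lib.Helper46.DescBC Groth.Agent.Lib.Helper46.DescComp
  Groth.Agent.Lib.Helper46.EtDescFull Groth.Agent.Lib.Helper5.DescPull

set_option linter.style.haveILetI false

/-- Quasi-compactness descends along a surjective quasi-compact base change. -/
lemma quasiCompact_of_isPullback {P X Y Z : Scheme.{u}} {fst : P ⟶ X} {snd : P ⟶ Y} {f : X ⟶ Z}
    {g : Y ⟶ Z} (h : IsPullback fst snd f g) [Surjective g] [QuasiCompact g] [QuasiCompact snd] :
    QuasiCompact f := by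
  haveI : Surjective fst := MorphismProperty.of_isPullback (P := @Surjective) h.flip inferInstance
  refine ⟨fun U hU hUc => ?_⟩
  have h1 : IsCompact (g.base ⁻¹' U) := QuasiCompact.isCompact_preimage U hU hUc
  have h2 : IsCompact (snd.base ⁻¹' (g.base ⁻¹' U)) :=
    QuasiCompact.isCompact_preimage _ (hU.preimage g.continuous) h1
  have h3 : snd.base ⁻¹' (g.base ⁻¹' U) = fst.base ⁻¹' (f.base ⁻¹' U) := by
    rw [← Set.preimage_comp, ← Set.preimage_comp, ← TopCat.coe_comp, ← TopCat.coe_comp,
      ← Scheme.Hom.comp_base, ← Scheme.Hom.comp_base, h.w]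
  rw [h3] at h2
  have h4 : f.base ⁻¹' U = fst.base '' (fst.base ⁻¹' (f.base ⁻¹' U)) :=
    (Set.image_preimage_eq _ fst.surjective).symm
  rw [h4]
  exact h2.image fst.continuous

variable {S S' : Scheme.{u}} {g : S' ⟶ S}

/-- Effectiveness (by an étale scheme) of an étale, separated, quasi-compact descent datum relative
to a universally submersive quasi-compact morphism can be tested after an fpqc base change. -/
theorem effEt_of_fpqc (hg : SGA1.UnivSubmersive g) [QuasiCompact g]
    (D : SchDDFam (fun _ : PUnit.{1} => g)) [Etale (D.obj PUnit.unit).hom]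
    [IsSeparated (D.obj PUnit.unit).hom] [QuasiCompact (D.obj PUnit.unit).hom]
    {T : Scheme.{u}} (c : T ⟶ S) [Flat c] [Surjective c] [QuasiCompact c]
    (H : EffEt (pullback.snd g c) (pullD g c D)) : EffEt g D := by
  obtain ⟨U₁, hU₁, ⟨θ⟩⟩ := H
  let D₁ : SchDD g := (SchDDFam.toSchDD g).obj D
  haveI : Etale D₁.obj.hom := inferInstanceAs (Etale (D.obj PUnit.unit).hom)
  haveI : IsSeparated D₁.obj.hom := inferInstanceAs (IsSeparated (D.obj PUnit.unit).hom)
  haveI : QuasiCompact D₁.obj.hom := inferInstanceAs (QuasiCompact (D.obj PUnit.unit).hom)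
  let θ₁ : (toDD (pullback.snd g c)).obj U₁ ≅
      pullDD c (pullback.fst g c) pullback.condition D₁ :=
    (SchDDFam.toSchDD (pullback.snd g c)).mapIso θ
  have hg' : SGA1.UnivSubmersive (pullback.snd g c) := univSubmersive_snd hg c
  haveI : Surjective (pullback.snd g c) := ⟨surjective_snd hg c⟩
  obtain ⟨k, hk⟩ : ∃ k : pullback (pullback.snd g c) U₁.hom ⟶
      pullback D₁.obj.hom (pullback.fst g c), k = θ₁.hom.hom.left := ⟨_, rfl⟩
  haveI : IsIso k := by rw [hk]; exact Groth.Agent.Lib.Helper5.DescProps.isIso_hom_left θ₁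
  have hk1 : k ≫ pullback.snd D₁.obj.hom (pullback.fst g c) =
      pullback.fst (pullback.snd g c) U₁.hom := by rw [hk]; exact Over.w θ₁.hom.hom
  haveI : IsSeparated (pullback.fst (pullback.snd g c) U₁.hom) := by
    rw [← hk1]; infer_instance
  haveI : QuasiCompact (pullback.fst (pullback.snd g c) U₁.hom) := by
    rw [← hk1]; infer_instance
  have hpb : IsPullback (pullback.snd (pullback.snd g c) U₁.hom)
      (pullback.fst (pullback.snd g c) U₁.hom) U₁.hom (pullback.snd g c) :=
    (IsPullback.of_hasPullback (pullback.snd g c) U₁.hom).flip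
  haveI : IsSeparated U₁.hom :=
    Groth.Agent.Lib.Helper81.Submersive.isSeparated_of_isPullback hpb hg'
  haveI : QuasiCompact U₁.hom := quasiCompact_of_isPullback hpb
  obtain ⟨U, hU, -, -, ⟨κ⟩⟩ :=
    Groth.Agent.Lib.Helper46.EtDescFpqc.effective_of_fpqc hg D₁ U₁ θ₁
  exact ⟨U, hU, ⟨(SchDDFam.ofSchDD g).mapIso κ⟩⟩

/-- Effectiveness over `T₁ ⟶ S` (a composite `c ≫ j`) gives effectiveness of the datum pulled back
in two steps. -/
theorem effEt_comp {D : SchDDFam (fun _ : PUnit.{1} => g)} {T T₁ : Scheme.{u}} (j : T ⟶ S)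
    (c : T₁ ⟶ T) (H : EffEt (pullback.snd g (c ≫ j)) (pullD g (c ≫ j) D)) :
    EffEt (pullback.snd (pullback.snd g j) c) (pullD (pullback.snd g j) c (pullD g j D)) := by
  obtain ⟨U, hU, ⟨θ⟩⟩ := H
  let e : pullback (pullback.snd g j) c ⟶ pullback g (c ≫ j) :=
    pullback.lift (pullback.fst (pullback.snd g j) c ≫ pullback.fst g j)
      (pullback.snd (pullback.snd g j) c) (by
        rw [Category.assoc, pullback.condition, ← Category.assoc, pullback.condition,
          Category.assoc])
  have w : ∀ _ : PUnit.{1}, e ≫ pullback.snd g (c ≫ j) =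
      pullback.snd (pullback.snd g j) c ≫ 𝟙 T₁ :=
    fun _ => (pullback.lift_snd _ _ _).trans (Category.comp_id _).symm
  have hr' : ∀ _ : PUnit.{1}, pullback.fst (pullback.snd g j) c ≫ pullback.fst g j =
      e ≫ pullback.fst g (c ≫ j) := fun _ => (pullback.lift_fst _ _ _).symm
  have w'' : ∀ _ : PUnit.{1}, (pullback.fst (pullback.snd g j) c ≫ pullback.fst g j) ≫ g =
      pullback.snd (pullback.snd g j) c ≫ (c ≫ j) := fun _ => by
    rw [Category.assoc, pullback.condition, ← Category.assoc, pullback.condition, Category.assoc]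
  refine ⟨bcOver U (𝟙 T₁), ?_, ⟨bcIso (f := fun _ : PUnit.{1} => pullback.snd g (c ≫ j))
      (f' := fun _ : PUnit.{1} => pullback.snd (pullback.snd g j) c) (α := id) (p := 𝟙 T₁)
      (p' := fun _ => e) w U ≪≫
    (pullDDFam (f := fun _ : PUnit.{1} => pullback.snd g (c ≫ j))
      (f' := fun _ : PUnit.{1} => pullback.snd (pullback.snd g j) c) (α := id) (p := 𝟙 T₁)
      (p' := fun _ => e) w).mapIso θ ≪≫
    compIso (f := fun _ : PUnit.{1} => g) (f' := fun _ : PUnit.{1} => pullback.snd g (c ≫ j))
      (f'' := fun _ : PUnit.{1} => pullback.snd (pullback.snd g j) c) (α := id) (α' := id)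
      (p := c ≫ j) (q := 𝟙 T₁) (p' := fun _ => pullback.fst g (c ≫ j)) (q' := fun _ => e)
      (fun _ => pullback.condition) w (r := c ≫ j)
      (r' := fun _ => pullback.fst (pullback.snd g j) c ≫ pullback.fst g j) w'' hr' D ≪≫
    (compIso (f := fun _ : PUnit.{1} => g) (f' := fun _ : PUnit.{1} => pullback.snd g j)
      (f'' := fun _ : PUnit.{1} => pullback.snd (pullback.snd g j) c) (α := id) (α' := id)
      (p := j) (q := c) (p' := fun _ => pullback.fst g j)
      (q' := fun _ => pullback.fst (pullback.snd g j) c)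
      (fun _ => pullback.condition) (fun _ => pullback.condition) (r := c ≫ j)
      (r' := fun _ => pullback.fst (pullback.snd g j) c ≫ pullback.fst g j) w''
      (fun _ => rfl) D).symm⟩⟩
  change Etale (pullback.snd U.hom (𝟙 T₁))
  infer_instance

end Groth.Agent.Lib.Helper46.EtDescLocal
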