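import Mathlib
import Groth.Prelude.Def_DescFam
import Groth.Prelude.Def_SGA1
import Groth.Agent.Lib.Helper46.EtDescGood
import Groth.Agent.Lib.Helper46.EtDescStage

/-!
# Spreading out effectiveness of an étale descent datum from `Spec 𝒪_{S,a}` (helper46)
-/

set_option autoImplicit false
universe u
open CategoryTheory CategoryTheory.Limits AlgebraicGeometry Desc Opposite

namespace Groth.Agent.Lib.Helper46.EtDescLocal

open Groth.Agent.Lib.Helper46.EtDescStage Groth.Agent.Lib.Helper5.DescPull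
  Groth.Agent.Lib.Helper5.DescFunctor Groth.Agent.Lib.Helper50.StalkLim

set_option linter.style.haveILetI false

variable {S S' : Scheme.{u}} {g : S' ⟶ S}

/-- The restriction of a section along an open immersion, on underlying schemes. -/
lemma pre_props (D₁ : SchDD g) {T T₁ : Scheme.{u}} (σa : Sec D₁ T) (h : T₁ ⟶ T)
    [IsOpenImmersion h] :
    ∃ mp : pullback g (σa.pre h).t ⟶ pullback g σa.t,
      mp ≫ pullback.fst g σa.t = pullback.fst g (σa.pre h).t ∧
      mp ≫ pullback.snd g σa.t = pullback.snd g (σa.pre h).t ≫ h ∧ IsOpenImmersion mp ∧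
      sL g D₁ (σa.pre h) = mp ≫ sL g D₁ σa ∧
      Set.range mp.base = (pullback.snd g σa.t).base ⁻¹' Set.range h.base := by
  refine ⟨pullback.map g (h ≫ σa.t) g σa.t (𝟙 S') h (𝟙 S) (by simp) (by simp), ?_, ?_,
    ?_, rfl, ?_⟩
  · exact (pullback.lift_fst _ _ _).trans (Category.comp_id _)
  · exact pullback.lift_snd _ _ _
  · exact Scheme.pullback_map_isOpenImmersion g (h ≫ σa.t) g σa.t (𝟙 S') h (𝟙 S)
      (by simp) (by simp)
  · refine (Scheme.Pullback.range_map g (h ≫ σa.t) g σa.t (𝟙 S') h (𝟙 S)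
      (by simp) (by simp)).trans ?_
    ext t
    simp

/-- Spreading out: if the base change of `D` to `Spec 𝒪_{S,a}` is effective (by an étale scheme),
every point of `D` over a generization of `a` is good. -/
theorem good_of_effEt_stalk (hg : SGA1.UnivSubmersive g)
    [LocallyOfFinitePresentation g] [QuasiCompact g] [QuasiSeparated g]
    (D : SchDDFam (fun _ : PUnit.{1} => g)) [Etale (D.obj PUnit.unit).hom]
    [QuasiCompact (D.obj PUnit.unit).hom] [QuasiSeparated (D.obj PUnit.unit).hom] (a : S)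
    (H : EffEt (pullback.snd g (S.fromSpecStalk a)) (pullD g (S.fromSpecStalk a) D))
    (v : (D.obj PUnit.unit).left)
    (hv : ((D.obj PUnit.unit).hom ≫ g).base v ∈ Set.range (S.fromSpecStalk a).base) :
    Good ((SchDDFam.toSchDD g).obj D) v := by
  obtain ⟨Ua, hUa, ⟨θa⟩⟩ := H
  obtain ⟨ιa, hιa⟩ : ∃ ιa : Spec (S.presheaf.stalk a) ⟶ S, ιa = S.fromSpecStalk a := ⟨_, rfl⟩
  rw [← hιa] at θa hv
  let D₁ : SchDD g := (SchDDFam.toSchDD g).obj D
  haveI : Etale D₁.obj.hom := inferInstanceAs (Etale (D.obj PUnit.unit).hom)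
  haveI : QuasiCompact D₁.obj.hom := inferInstanceAs (QuasiCompact (D.obj PUnit.unit).hom)
  haveI : QuasiSeparated D₁.obj.hom := inferInstanceAs (QuasiSeparated (D.obj PUnit.unit).hom)
  have hsq : IsPullback (pullback.fst g ιa) (pullback.snd g ιa) g ιa :=
    IsPullback.of_hasPullback _ _
  let θ₁ : (toDD (pullback.snd g ιa)).obj Ua ≅
      pullDD ιa (pullback.fst g ιa) pullback.condition D₁ :=
    (SchDDFam.toSchDD (pullback.snd g ιa)).mapIso θa
  have hv' : D₁.obj.hom.base v ∈ Set.range (pullback.fst g ιa).base := by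
    obtain ⟨y, hy⟩ := hv
    obtain ⟨z, hz1, -⟩ := Scheme.Pullback.exists_preimage_pullback (f := g) (g := ιa)
      (D₁.obj.hom.base v) y hy.symm
    exact ⟨z, hz1⟩
  obtain ⟨σa, hσat, ⟨z, hz⟩, hΦ⟩ : ∃ (σa : Sec D₁ Ua.left) (hσat : σa.t = Ua.hom ≫ ιa),
      v ∈ Set.range (sL g D₁ σa).base ∧
      IsIso (pullback.lift (sL g D₁ σa) (pullback.snd g σa.t ≫ Ua.hom) (by
        rw [← Category.assoc, sL_hom, pullback.condition, hσat, Category.assoc]) :
        pullback g σa.t ⟶ pullback (D₁.obj.hom ≫ g) ιa) := by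
    refine ⟨bcSec D₁ hsq Ua θ₁, rfl, mem_range_bcSec D₁ hsq Ua θ₁ v hv', ?_⟩
    have h00 : IsIso (θL D₁ Ua θ₁) := isIso_θL D₁ Ua θ₁
    have hκ : (kappa (w := pullback.condition) hsq Ua).hom ≫
        pullback.snd (pullback.snd g ιa) Ua.hom = pullback.snd g (Ua.hom ≫ ιa) :=
      pullback.lift_snd _ _ _
    have hΨsnd : ((kappa (w := pullback.condition) hsq Ua).hom ≫ θL D₁ Ua θ₁) ≫
        pullback.snd D₁.obj.hom (pullback.fst g ιa) ≫ pullback.snd g ιa =
        pullback.snd g (Ua.hom ≫ ιa) ≫ Ua.hom := by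
      rw [Category.assoc, ← Category.assoc (θL D₁ Ua θ₁), θ_left_snd, pullback.condition,
        ← Category.assoc, hκ]
    have hcd : pullback.fst D₁.obj.hom (pullback.fst g ιa) ≫ D₁.obj.hom ≫ g =
        pullback.snd D₁.obj.hom (pullback.fst g ιa) ≫ pullback.snd g ιa ≫ ιa := by
      rw [pullback.condition_assoc, pullback.condition]
    have hw0 : (((kappa (w := pullback.condition) hsq Ua).hom ≫ θL D₁ Ua θ₁) ≫
        pullback.fst D₁.obj.hom (pullback.fst g ιa)) ≫ D₁.obj.hom ≫ g =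
        (pullback.snd g (Ua.hom ≫ ιa) ≫ Ua.hom) ≫ ιa := by
      rw [← hΨsnd]
      simp only [Category.assoc]
      rw [hcd]
    change IsIso (pullback.lift (((kappa (w := pullback.condition) hsq Ua).hom ≫ θL D₁ Ua θ₁) ≫
        pullback.fst D₁.obj.hom (pullback.fst g ιa)) (pullback.snd g (Ua.hom ≫ ιa) ≫ Ua.hom) hw0 :
      pullback g (Ua.hom ≫ ιa) ⟶ pullback (D₁.obj.hom ≫ g) ιa)
    have e : (pullback.lift (((kappa (w := pullback.condition) hsq Ua).hom ≫ θL D₁ Ua θ₁) ≫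
        pullback.fst D₁.obj.hom (pullback.fst g ιa)) (pullback.snd g (Ua.hom ≫ ιa) ≫ Ua.hom) hw0 :
        pullback g (Ua.hom ≫ ιa) ⟶ pullback (D₁.obj.hom ≫ g) ιa) =
        ((kappa (w := pullback.condition) hsq Ua).hom ≫ θL D₁ Ua θ₁) ≫
          (pullbackRightPullbackFstIso g ιa D₁.obj.hom).hom := by
      apply pullback.hom_ext
      · rw [pullback.lift_fst, Category.assoc _ _ (pullback.fst (D₁.obj.hom ≫ g) ιa),
          pullbackRightPullbackFstIso_hom_fst]
      · rw [pullback.lift_snd, Category.assoc _ _ (pullback.snd (D₁.obj.hom ≫ g) ιa),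
          pullbackRightPullbackFstIso_hom_snd, hΨsnd]
    rw [e]
    infer_instance
  -- an affine open neighbourhood of the image of `z` in `U_a`
  obtain ⟨Ωo, hΩo, huΩ⟩ : ∃ Ωo : Ua.left.Opens, IsAffineOpen Ωo ∧
      (pullback.snd g σa.t).base z ∈ Ωo := by
    obtain ⟨_, ⟨Ωo, hΩo, rfl⟩, huΩ, -⟩ := Ua.left.isBasis_affineOpens.exists_subset_of_mem_open
      (Set.mem_univ ((pullback.snd g σa.t).base z)) isOpen_univ
    exact ⟨Ωo, hΩo, huΩ⟩
  haveI : IsAffine (Ωo : Scheme.{u}) := hΩo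
  obtain ⟨ω, hω⟩ : ∃ ω : (Ωo : Scheme.{u}) ⟶ (nhdCone S a).pt, ω = Ωo.ι ≫ Ua.hom := ⟨_, rfl⟩
  haveI : Etale ω := by
    rw [hω]
    exact (inferInstance : @Etale _ (Spec (S.presheaf.stalk a)) (Ωo.ι ≫ Ua.hom))
  haveI : IsAffine (nhdCone S a).pt := inferInstanceAs (IsAffine (Spec (S.presheaf.stalk a)))
  obtain ⟨σ, hσ⟩ : ∃ σ : Sec D₁ (Ωo : Scheme.{u}), σ = σa.pre Ωo.ι := ⟨_, rfl⟩
  have hσt' : σ.t = Ωo.ι ≫ σa.t := by rw [hσ]; rfl
  have hσt : σ.t = ω ≫ ιa := by
    rw [hσt', hσat, hω]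
    exact (Category.assoc _ _ _).symm
  -- the open immersion `S' ×_S Ω ⟶ S' ×_S U_a`
  obtain ⟨mp, hmp⟩ : ∃ mp : pullback g σ.t ⟶ pullback g σa.t,
      mp ≫ pullback.fst g σa.t = pullback.fst g σ.t ∧
      mp ≫ pullback.snd g σa.t = pullback.snd g σ.t ≫ Ωo.ι ∧ IsOpenImmersion mp ∧
      sL g D₁ σ = mp ≫ sL g D₁ σa ∧
      Set.range mp.base = (pullback.snd g σa.t).base ⁻¹' Set.range Ωo.ι.base := by
    rw [hσ]
    exact pre_props D₁ σa Ωo.ι
  obtain ⟨hmp1, hmp2, hmpo, hmpL, hmpr⟩ := hmp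
  haveI := hmpo
  have hΦw : sL g D₁ σa ≫ D₁.obj.hom ≫ g = (pullback.snd g σa.t ≫ Ua.hom) ≫ ιa := by
    rw [← Category.assoc, sL_hom, pullback.condition, hσat, Category.assoc]
  haveI := hΦ
  have hσt2 : sL g D₁ σ ≫ D₁.obj.hom ≫ g = (pullback.snd g σ.t ≫ ω) ≫ ιa := by
    rw [← Category.assoc, sL_hom, pullback.condition, hσt, Category.assoc]
  have hopen : IsOpenImmersion (pullback.lift (sL g D₁ σ) (pullback.snd g σ.t ≫ ω) hσt2 :
      pullback g σ.t ⟶ pullback (D₁.obj.hom ≫ g) ιa) := by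
    have e : (pullback.lift (sL g D₁ σ) (pullback.snd g σ.t ≫ ω) hσt2 :
        pullback g σ.t ⟶ pullback (D₁.obj.hom ≫ g) ιa) =
        mp ≫ pullback.lift (sL g D₁ σa) (pullback.snd g σa.t ≫ Ua.hom) hΦw := by
      apply pullback.hom_ext
      · rw [pullback.lift_fst, Category.assoc, pullback.lift_fst, hmpL]
      · rw [pullback.lift_snd, Category.assoc, pullback.lift_snd, ← Category.assoc, hmp2, hω,
          Category.assoc]
    rw [e]
    infer_instance
  have hv'' : v ∈ Set.range (sL g D₁ σ).base := by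
    have hzr : z ∈ Set.range mp.base := by
      rw [hmpr]
      exact (Scheme.Opens.range_ι Ωo).symm.le huΩ
    obtain ⟨z', hz'⟩ := hzr
    refine ⟨z', ?_⟩
    rw [hmpL, ← hz, ← hz']
    rfl
  subst hιa
  let sW : ∀ W : AffNhd S a, (nhdDiagram S a).obj W ⟶ S := fun W => W.1.ι
  haveI : ∀ W : AffNhd S a, IsOpenImmersion (sW W) :=
    fun W => inferInstanceAs (IsOpenImmersion W.1.ι)
  exact good_of_sec (nhdDiagram S a) (nhdCone S a) (isLimitNhdCone S a) g sW
    (fun φ => nhdDiagram_map_ι S a φ) (S.fromSpecStalk a)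
    (fun W => Scheme.Opens.fromSpecStalkOfMem_ι W.1 a W.2.2) D₁ ω σ hσt hopen v hv''

/-- Effectiveness over `Spec 𝒪_{S,a}` spreads out to an open neighbourhood of `a`. -/
theorem exists_nhd_effEt (hg : SGA1.UnivSubmersive g)
    [LocallyOfFinitePresentation g] [QuasiCompact g] [QuasiSeparated g]
    (D : SchDDFam (fun _ : PUnit.{1} => g)) [Etale (D.obj PUnit.unit).hom]
    [QuasiCompact (D.obj PUnit.unit).hom] [QuasiSeparated (D.obj PUnit.unit).hom] (a : S)
    (H : EffEt (pullback.snd g (S.fromSpecStalk a)) (pullD g (S.fromSpecStalk a) D)) :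
    ∃ W : S.Opens, a ∈ W ∧ EffEt (pullback.snd g W.ι) (pullD g W.ι D) := by
  let D₁ : SchDD g := (SchDDFam.toSchDD g).obj D
  haveI : QuasiCompact (D₁.obj.hom ≫ g) :=
    inferInstanceAs (QuasiCompact ((D.obj PUnit.unit).hom ≫ g))
  obtain ⟨W, haW, hW⟩ := exists_nhd_good D₁ a (fun v hv => good_of_effEt_stalk hg D a H v hv)
  exact ⟨W, haW, effEt_of_good hg D W hW⟩

end Groth.Agent.Lib.Helper46.EtDescLocal
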