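import Mathlib
import Groth.Agent.Lib.Helper46.EtDescCompl
import Groth.Agent.Lib.Helper46.EtDescSpread

/-!
# Effectiveness of étale descent data can be tested on faithfully flat extensions of the local
rings (helper46)
-/

set_option autoImplicit false
universe u
open CategoryTheory CategoryTheory.Limits AlgebraicGeometry Desc Opposite

namespace Groth.Agent.Lib.Helper46.EtDescLocal

set_option linter.style.haveILetI false

variable {S S' : Scheme.{u}} {g : S' ⟶ S}

/-- Effectiveness over a faithfully flat algebra over the local ring gives effectiveness over the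
local ring. -/
theorem effEt_stalk_of_faithfullyFlat (hg : SGA1.UnivSubmersive g) [QuasiCompact g]
    (D : SchDDFam (fun _ : PUnit.{1} => g)) [Etale (D.obj PUnit.unit).hom]
    [QuasiCompact (D.obj PUnit.unit).hom] [IsSeparated (D.obj PUnit.unit).hom] (a : S)
    (B : Type u) [CommRing B] [Algebra (S.presheaf.stalk a) B]
    [Module.FaithfullyFlat (S.presheaf.stalk a) B]
    (H : EffEt (pullback.snd g (Spec.map (CommRingCat.ofHom (algebraMap (S.presheaf.stalk a) B)) ≫
          S.fromSpecStalk a))
      (pullD g (Spec.map (CommRingCat.ofHom (algebraMap (S.presheaf.stalk a) B)) ≫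
            S.fromSpecStalk a) D)) :
    EffEt (pullback.snd g (S.fromSpecStalk a)) (pullD g (S.fromSpecStalk a) D) := by
  obtain ⟨c, hc⟩ : ∃ c : Spec (CommRingCat.of B) ⟶ Spec (S.presheaf.stalk a),
      c = Spec.map (CommRingCat.ofHom (algebraMap (S.presheaf.stalk a) B)) := ⟨_, rfl⟩
  rw [← hc] at H
  have hff : (CommRingCat.ofHom (algebraMap (S.presheaf.stalk a) B)).hom.FaithfullyFlat := by
    change (algebraMap (S.presheaf.stalk a) B).FaithfullyFlat
    exact RingHom.faithfullyFlat_algebraMap_iff.mpr inferInstance
  have hfs := (flat_and_surjective_SpecMap_iff _).mpr hff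
  haveI : Flat c := by rw [hc]; exact hfs.1
  haveI : Surjective c := by rw [hc]; exact hfs.2
  have H' := effEt_comp (S.fromSpecStalk a) c H
  have hg' : SGA1.UnivSubmersive (pullback.snd g (S.fromSpecStalk a)) :=
    Groth.Agent.Lib.Helper46.EtDescFull.univSubmersive_snd hg _
  haveI : Etale ((pullD g (S.fromSpecStalk a) D).obj PUnit.unit).hom :=
    inferInstanceAs (Etale (pullback.snd (D.obj PUnit.unit).hom (pullback.fst g (S.fromSpecStalk a))))
  haveI : IsSeparated ((pullD g (S.fromSpecStalk a) D).obj PUnit.unit).hom :=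
    inferInstanceAs (IsSeparated
      (pullback.snd (D.obj PUnit.unit).hom (pullback.fst g (S.fromSpecStalk a))))
  haveI : QuasiCompact ((pullD g (S.fromSpecStalk a) D).obj PUnit.unit).hom :=
    inferInstanceAs (QuasiCompact
      (pullback.snd (D.obj PUnit.unit).hom (pullback.fst g (S.fromSpecStalk a))))
  exact effEt_of_fpqc hg' _ c H'

/-- Effectiveness can be tested on one faithfully flat extension of each local ring. -/
theorem effEt_of_forall_stalk_faithfullyFlat (hg : SGA1.UnivSubmersive g)
    [LocallyOfFinitePresentation g] [QuasiCompact g] [QuasiSeparated g]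
    (D : SchDDFam (fun _ : PUnit.{1} => g)) [Etale (D.obj PUnit.unit).hom]
    [QuasiCompact (D.obj PUnit.unit).hom] [IsSeparated (D.obj PUnit.unit).hom]
    (H : ∀ a : S, EffEt (pullback.snd g (S.fromSpecStalk a)) (pullD g (S.fromSpecStalk a) D)) :
    EffEt g D := by
  choose W haW hW using fun a : S => exists_nhd_effEt hg D a (H a)
  refine effEt_of_openCover hg D W ?_ hW
  rw [eq_top_iff]
  intro x _
  exact TopologicalSpace.Opens.mem_iSup.mpr ⟨x, haW x⟩

end Groth.Agent.Lib.Helper46.EtDescLocal
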