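import Mathlib
import Groth.Agent.Lib.Helper46.LocPChart
import Groth.Agent.Lib.Helper36.AlgSpCharts
import Groth.Agent.Lib.Helper23.AlgSpQc2
import Groth.Agent.S0116
import Groth.Agent.S0065
import Groth.Agent.S0565

/-!
# Descent of etale-local properties of algebraic spaces along surjective morphisms (helper46)

For a property `P` of schemes that ascends along etale morphisms and descends along etale
surjective morphisms, every etale chart of a space with `EtaleLocally P` has `P`; if moreover `P`
descends along surjective morphisms with a property `Q`, then `EtaleLocally P` descends along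
surjective morphisms of algebraic spaces with `LocP Q`.  Instances: locally Noetherian, regular.
-/

set_option autoImplicit false
universe u
open CategoryTheory CategoryTheory.Limits AlgebraicGeometry Opposite

namespace Groth.Agent.Lib.Helper46.EtLocDescent

open AlgSp Groth.Agent.Lib.Helper46 Groth.Agent.Lib.Helper46.LocPChart
open Groth.Agent.Lib.Helper36.AlgSpCharts Groth.Agent.Lib.Helper23.AlgSpMor

variable {S : Scheme.{u}}

/-- every etale chart of a sheaf that has `P` etale locally has `P` -/
theorem prop_of_etale_chart (P : Scheme.{u} → Prop)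
    (hasc : ∀ {W U : Scheme.{u}} (g : W ⟶ U), Etale g → P U → P W)
    (hdesc : ∀ {W U : Scheme.{u}} (g : W ⟶ U), Etale g → Surjective g → P W → P U)
    {X : Sp S} (hX : EtaleLocally P X) {U : Over S}
    (a : (yon S).obj U ⟶ X) (ha : RepWith @Etale a) : P U.left := by
  obtain ⟨U₀, p₀, hp₀e, hp₀s, hU₀⟩ := hX
  obtain ⟨W, p1, p2, sq⟩ := exists_isPullback_yon a p₀ hp₀e.rep
  have h2 : Etale p2.left := prop_snd_of_isPullback sq ha
  have h1e : Etale p1.left := prop_fst_of_isPullback sq hp₀e
  have h1s : Surjective p1.left := prop_fst_of_isPullback sq hp₀s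
  exact hdesc p1.left h1e h1s (hasc p2.left h2 hU₀)

/-- descent of `EtaleLocally P` along surjective morphisms with `LocP Q` -/
theorem etaleLocally_of_surjective (P : Scheme.{u} → Prop) (Q : MorphismProperty Scheme.{u})
    (hasc : ∀ {W U : Scheme.{u}} (g : W ⟶ U), Etale g → P U → P W)
    (hdesc : ∀ {W U : Scheme.{u}} (g : W ⟶ U), Etale g → Surjective g → P W → P U)
    (hQ : ∀ {U V : Scheme.{u}} (h : U ⟶ V), Q h → Surjective h → P U → P V)
    {X Y : Sp S} (hX : IsAlgSpace X) (hY : IsAlgSpace Y) (f : X ⟶ Y) (hf : LocP Q f)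
    (hs : IsSurjectiveMor f) (hXP : EtaleLocally P X) : EtaleLocally P Y := by
  obtain ⟨V, b, hbe, hbs⟩ := hY.atlas
  obtain ⟨U, a, h, d, hde, hds, -, hd, hae, comm, -⟩ := exists_chart hX hY.diag f b hbe
  have hh : Q h.left := hf a b h hae hbe comm
  have hU : P U.left := prop_of_etale_chart P hasc hdesc hXP a hae
  have hsurj : Surjective h.left := by
    have h1 : IsSurjectiveMor (d ≫ pullback.snd f b) :=
      isSurjectiveMor_comp _ _ (isSurjectiveMor_of_repWith_surjective d hds)
        (isSurjectiveMor_of_isPullback (IsPullback.of_hasPullback f b) hs)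
    rw [← hd] at h1
    exact (repWith_yon_map_iff @Surjective h).1
      (repWith_surjective_of_isSurjectiveMor _ (representable_of_yon _) h1)
  exact ⟨V, b, hbe, hbs, hQ h.left hh hsurj hU⟩

/-! ### locally Noetherian -/

theorem locNoeth_asc {W U : Scheme.{u}} (g : W ⟶ U) (hg : Etale g)
    (hU : IsLocallyNoetherian U) : IsLocallyNoetherian W :=
  LocallyOfFiniteType.isLocallyNoetherian g

theorem locNoeth_desc {W U : Scheme.{u}} (g : W ⟶ U) (hf : Flat g)
    (hp : LocallyOfFinitePresentation g) (hs : Surjective g) (hW : IsLocallyNoetherian W) :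
    IsLocallyNoetherian U :=
  Groth.Agent.S0116.result g

theorem locNoeth_desc_etale {W U : Scheme.{u}} (g : W ⟶ U) (hg : Etale g) (hs : Surjective g)
    (hW : IsLocallyNoetherian W) : IsLocallyNoetherian U :=
  locNoeth_desc g inferInstance inferInstance hs hW

/-- locally Noetherian descends along fppf surjective morphisms of algebraic spaces -/
theorem isLocNoethSp_of_fppf_surjective {X Y : Sp S} (hX : IsAlgSpace X) (hY : IsAlgSpace Y)
    (f : X ⟶ Y) (hfp : LocP @LocallyOfFinitePresentation f) (hfl : LocP @Flat f)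
    (hs : IsSurjectiveMor f) (hXN : IsLocNoethSp X) : IsLocNoethSp Y := by
  refine etaleLocally_of_surjective (fun U => IsLocallyNoetherian U)
    (@Flat ⊓ @LocallyOfFinitePresentation) locNoeth_asc locNoeth_desc_etale
    (fun h hh hsurj hU => locNoeth_desc h hh.1 hh.2 hsurj hU) hX hY f ?_ hs hXN
  intro U V a b h ha hb w
  exact ⟨hfl a b h ha hb w, hfp a b h ha hb w⟩

/-! ### regular -/

/-- the scheme is locally Noetherian with regular local rings -/
def Reg (U : Scheme.{u}) : Prop :=
  IsLocallyNoetherian U ∧ ∀ u : ↥U, IsRegularLocalRing ↥(U.presheaf.stalk u)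

theorem reg_asc {W U : Scheme.{u}} (g : W ⟶ U) (hg : Etale g) (hU : Reg U) : Reg W := by
  have := hU.1
  refine ⟨LocallyOfFiniteType.isLocallyNoetherian g, fun w => ?_⟩
  exact (Groth.Agent.S0065.result g w).2 (hU.2 _)

theorem reg_desc {W U : Scheme.{u}} (g : W ⟶ U) (hf : Flat g)
    (hp : LocallyOfFinitePresentation g) (hs : Surjective g) (hW : Reg W) : Reg U := by
  have := hW.1
  have hN : IsLocallyNoetherian U := Groth.Agent.S0116.result g
  refine ⟨hN, fun u => ?_⟩
  obtain ⟨w, rfl⟩ := g.surjective u
  have hreg := hW.2 w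
  algebraize [(g.stalkMap w).hom]
  have hflat : Module.Flat (U.presheaf.stalk (g w)) (W.presheaf.stalk w) := Flat.stalkMap g w
  have hloc : IsLocalHom (algebraMap (U.presheaf.stalk (g w)) (W.presheaf.stalk w)) :=
    g.toLRSHom.prop w
  exact Groth.Agent.S0565.result (U.presheaf.stalk (g w)) (W.presheaf.stalk w)

theorem reg_desc_etale {W U : Scheme.{u}} (g : W ⟶ U) (hg : Etale g) (hs : Surjective g)
    (hW : Reg W) : Reg U :=
  reg_desc g inferInstance inferInstance hs hW

/-- regularity descends along fppf surjective morphisms of algebraic spaces -/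
theorem regular_of_fppf_surjective {X Y : Sp S} (hX : IsAlgSpace X) (hY : IsAlgSpace Y)
    (f : X ⟶ Y) (hfp : LocP @LocallyOfFinitePresentation f) (hfl : LocP @Flat f)
    (hs : IsSurjectiveMor f) (hXN : EtaleLocally Reg X) : EtaleLocally Reg Y := by
  refine etaleLocally_of_surjective Reg
    (@Flat ⊓ @LocallyOfFinitePresentation) reg_asc reg_desc_etale
    (fun h hh hsurj hU => reg_desc h hh.1 hh.2 hsurj hU) hX hY f ?_ hs hXN
  intro U V a b h ha hb w
  exact ⟨hfl a b h ha hb w, hfp a b h ha hb w⟩

end Groth.Agent.Lib.Helper46.EtLocDescent
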