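import Mathlib

/-!
Universe-generalised variant of `Groth.Agent.Lib.Helper50.FGLim`: a ring `B : Type u` is the
filtered colimit of its finitely generated `R₀`-subalgebras, where `R₀ : Type w` may live in a
different universe (e.g. `R₀ = ℤ`).
-/

set_option autoImplicit false
universe w u
open CategoryTheory CategoryTheory.Limits AlgebraicGeometry Opposite

namespace Groth.Agent.Lib.Helper46

section FG

variable (R₀ : Type w) (B : Type u) [CommRing R₀] [CommRing B] [Algebra R₀ B]

/-- The directed system of finitely generated subalgebras. -/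
abbrev FGSubZ : Type u := {S : Subalgebra R₀ B // S.FG}

instance : IsDirected (FGSubZ R₀ B) (· ≤ ·) :=
  ⟨fun S T ↦ ⟨⟨S.1 ⊔ T.1, S.2.sup T.2⟩,
    (le_sup_left : S.1 ≤ S.1 ⊔ T.1), (le_sup_right : T.1 ≤ S.1 ⊔ T.1)⟩⟩

instance : Nonempty (FGSubZ R₀ B) := ⟨⟨⊥, Subalgebra.fg_bot⟩⟩

/-- The diagram of finitely generated subalgebras. -/
def fgDiagramZ : FGSubZ R₀ B ⥤ CommRingCat.{u} where
  obj S := CommRingCat.of S.1
  map {S T} h := CommRingCat.ofHom (Subalgebra.inclusion (leOfHom h)).toRingHom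
  map_id S := rfl
  map_comp f g := rfl

/-- The cocone of inclusions of the finitely generated subalgebras. -/
def fgCoconeZ : Cocone (fgDiagramZ R₀ B) where
  pt := CommRingCat.of B
  ι :=
    { app := fun S => CommRingCat.ofHom S.1.val.toRingHom
      naturality := fun S T h => rfl }

/-- A ring is the filtered colimit of its finitely generated subalgebras. -/
noncomputable def isColimitFgCoconeZ : IsColimit (fgCoconeZ R₀ B) := by
  have h2 : ReflectsColimitsOfShape (FGSubZ R₀ B) (forget CommRingCat.{u}) :=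
    reflectsColimitsOfShape_of_reflectsIsomorphisms
  apply isColimitOfReflects (forget CommRingCat)
  apply Types.FilteredColimit.isColimitOf'
  · intro x
    change B at x
    have hfg : (Algebra.adjoin R₀ ({x} : Set B)).FG := by
      have := Subalgebra.fg_adjoin_finset (R := R₀) ({x} : Finset B)
      simpa using this
    exact ⟨⟨Algebra.adjoin R₀ {x}, hfg⟩, ⟨x, Algebra.subset_adjoin rfl⟩, rfl⟩
  · intro j y y' e
    refine ⟨j, 𝟙 j, ?_⟩
    change j.1 at y y'
    have : (y : B) = y' := e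
    have h3 : y = y' := Subtype.ext this
    rw [h3]

/-- `Spec` of the diagram of finitely generated subalgebras. -/
noncomputable def fgSpecDiagramZ : (FGSubZ R₀ B)ᵒᵖ ⥤ Scheme.{u} :=
  (fgDiagramZ R₀ B).op ⋙ Scheme.Spec

/-- The cone `Spec B ⟶ Spec S`. -/
noncomputable def fgSpecConeZ : Cone (fgSpecDiagramZ R₀ B) :=
  Scheme.Spec.mapCone (fgCoconeZ R₀ B).op

/-- `Spec B` is the limit of the `Spec S`, `S` a finitely generated subalgebra. -/
noncomputable def isLimitFgSpecConeZ : IsLimit (fgSpecConeZ R₀ B) :=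
  isLimitOfPreserves Scheme.Spec (isColimitFgCoconeZ R₀ B).op

instance (i : (FGSubZ R₀ B)ᵒᵖ) : IsAffine ((fgSpecDiagramZ R₀ B).obj i) :=
  inferInstanceAs (IsAffine (Spec _))

instance (i j : (FGSubZ R₀ B)ᵒᵖ) (φ : i ⟶ j) : IsAffineHom ((fgSpecDiagramZ R₀ B).map φ) :=
  inferInstance

lemma fgSpecConeZ_pt : (fgSpecConeZ R₀ B).pt = Spec (CommRingCat.of B) := rfl

lemma fgSpecConeZ_π_app (S : FGSubZ R₀ B) :
    (fgSpecConeZ R₀ B).π.app (op S) = Spec.map (CommRingCat.ofHom S.1.val.toRingHom) := rfl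

lemma fgSpecDiagramZ_obj (S : FGSubZ R₀ B) :
    (fgSpecDiagramZ R₀ B).obj (op S) = Spec (CommRingCat.of S.1) := rfl

end FG

end Groth.Agent.Lib.Helper46
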