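import Mathlib
import Groth.Agent.Lib.Helper73.DimFormula.OpenFT

set_option autoImplicit false
universe u
open CategoryTheory AlgebraicGeometry Limits

namespace Groth.Agent.Lib.Helper46

/-- The local fibre dimension is bounded by the dimension of the fibre. -/
theorem fibreDimAt_le_topologicalKrullDim_fiber {X Y : Scheme.{u}} (f : X ⟶ Y) (x : X) :
    FlatMor.fibreDimAt f x ≤ topologicalKrullDim ↥(f.fiber (f.base x)) := by
  unfold FlatMor.fibreDimAt FlatMor.localDim
  refine iInf_le_of_le ⟨⊤, trivial⟩ (le_of_eq ?_)
  exact IsHomeomorph.topologicalKrullDim_eq _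
    (Homeomorph.Set.univ ↥(f.fiber (f.base x))).isHomeomorph

/-- A fibre has dimension exactly `d` iff all its local dimensions are `≤ d` and one of them is
`≥ d`. -/
theorem topologicalKrullDim_fiber_eq_iff {X Y : Scheme.{u}} (f : X ⟶ Y) [LocallyOfFiniteType f]
    (y : Y) (d : ℕ) :
    topologicalKrullDim ↥(f.fiber y) = ((d : ℕ) : WithBot ℕ∞) ↔
      (∀ x : X, f.base x = y → FlatMor.fibreDimAt f x ≤ ((d : ℕ) : WithBot ℕ∞)) ∧
        ∃ x : X, f.base x = y ∧ ((d : ℕ) : WithBot ℕ∞) ≤ FlatMor.fibreDimAt f x := by
  constructor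
  · intro h
    refine ⟨(Groth.Agent.Lib.Helper73.topologicalKrullDim_fiber_le_iff f y d).mp h.le, ?_⟩
    by_contra hne
    push_neg at hne
    rcases d with _ | n
    · have hemp : IsEmpty ↥(f.fiber y) := by
        refine ⟨fun z => ?_⟩
        have hz : f.base ((f.fiberι y).base z) = y := by
          have := (f.fiberHomeo y z).2
          exact this
        have h1 := hne _ hz
        obtain ⟨m, hm⟩ := Groth.Agent.Lib.Helper73.exists_fibreDimAt_eq_natCast f
          ((f.fiberι y).base z)
        rw [hm] at h1
        have : m < 0 := by exact_mod_cast h1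
        omega
      have hemp' : IsEmpty (TopologicalSpace.IrreducibleCloseds ↥(f.fiber y)) :=
        ⟨fun Z => hemp.elim Z.isIrreducible.nonempty.some⟩
      have h2 : topologicalKrullDim ↥(f.fiber y) = ⊥ := by
        unfold topologicalKrullDim
        exact Order.krullDim_eq_bot
      rw [h2] at h
      exact absurd h (by simp)
    · have h1 : topologicalKrullDim ↥(f.fiber y) ≤ ((n : ℕ) : WithBot ℕ∞) := by
        rw [Groth.Agent.Lib.Helper73.topologicalKrullDim_fiber_le_iff]
        intro x hx
        obtain ⟨m, hm⟩ := Groth.Agent.Lib.Helper73.exists_fibreDimAt_eq_natCast f x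
        have h2 := hne x hx
        rw [hm] at h2 ⊢
        have : m < n + 1 := by exact_mod_cast h2
        have : m ≤ n := by omega
        exact_mod_cast this
      rw [h] at h1
      have : n + 1 ≤ n := by exact_mod_cast h1
      omega
  · rintro ⟨h1, x, rfl, hx⟩
    exact le_antisymm ((Groth.Agent.Lib.Helper73.topologicalKrullDim_fiber_le_iff f _ d).mpr h1)
      (hx.trans (fibreDimAt_le_topologicalKrullDim_fiber f x))

end Groth.Agent.Lib.Helper46
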