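import Mathlib
import Groth.Prelude.Def_Red2
import Groth.Prelude.Def_Pi1
import Groth.Agent.Lib.Lead.GaTorsor
import Groth.Agent.Lib.Helper50.CurveReg

/-!
# Fixed points transfer along an isomorphism of group objects (helper46, for helper71's S15592)
-/

set_option autoImplicit false
universe u
open CategoryTheory CategoryTheory.Limits MonoidalCategory CartesianMonoidalCategory MonObj
  AlgebraicGeometry Polynomial
open Groth.Agent.Lib.Lead.GaTorsor (ov ovMap smul)

namespace Groth.Agent.Lib.Helper46.FixPtT3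

theorem act_assoc_aux {C : Type*} [Category C] [MonoidalCategory C] {G H X : C} (φ : H ⟶ G)
    (act : G ⊗ X ⟶ X) :
    (φ ⊗ₘ φ) ▷ X ≫ (α_ G G X).hom ≫ G ◁ act ≫ act =
      (α_ H H X).hom ≫ H ◁ (φ ▷ X ≫ act) ≫ φ ▷ X ≫ act := by
  rw [MonoidalCategory.tensorHom_def, comp_whiskerRight, Category.assoc,
    associator_naturality_middle_assoc, associator_naturality_left_assoc,
    MonoidalCategory.whiskerLeft_comp, Category.assoc, whisker_exchange_assoc,
    ← MonoidalCategory.whiskerLeft_comp_assoc]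
  rw [whisker_exchange_assoc, MonoidalCategory.whiskerLeft_comp, Category.assoc]

theorem fixed_of_iso {S : Scheme.{u}} {G H X : Over S} [GrpObj G] [GrpObj H]
    (e : Grp.mk G ≅ Grp.mk H)
    (hH : ∀ a' : AlgGrp.Action H X, ∃ x : 𝟙_ (Over S) ⟶ X, a'.IsFixedPt x)
    (a : AlgGrp.Action G X) : ∃ x : 𝟙_ (Over S) ⟶ X, a.IsFixedPt x := by
  obtain ⟨φ, hφ⟩ : ∃ φ : H ⟶ G, φ = e.inv.hom.hom := ⟨_, rfl⟩
  obtain ⟨ψ, hψ⟩ : ∃ ψ : G ⟶ H, ψ = e.hom.hom.hom := ⟨_, rfl⟩
  haveI : IsMonHom φ := by rw [hφ]; infer_instance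
  have hψφ : ψ ≫ φ = 𝟙 G := by
    rw [hφ, hψ]
    have := congrArg (fun m => m.hom.hom) e.hom_inv_id
    exact this
  let a' : AlgGrp.Action H X :=
    { act := (φ ▷ X) ≫ a.act
      one_act := by
        rw [← comp_whiskerRight_assoc, IsMonHom.one_hom, a.one_act]
      mul_act := by
        rw [← comp_whiskerRight_assoc, IsMonHom.mul_hom, comp_whiskerRight_assoc, a.mul_act]
        exact act_assoc_aux φ a.act }
  obtain ⟨x, hx⟩ := hH a'
  refine ⟨x, fun T g => ?_⟩
  have h := hx T (g ≫ ψ)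
  change lift (g ≫ ψ) (toUnit T ≫ x) ≫ (φ ▷ X) ≫ a.act = toUnit T ≫ x at h
  rw [← Category.assoc, lift_whiskerRight, Category.assoc, hψφ, Category.comp_id] at h
  exact h

end Groth.Agent.Lib.Helper46.FixPtT3
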