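import Mathlib
import Groth.Agent.Lib.Helper64.HartogsRel

/-!
# Hartogs extension on schemes flat over a locally Noetherian scheme (helper46)

`ResBij X U`: for every open `P` of `X`, restriction `Γ(X, P) → Γ(X, P ⊓ U)` is bijective.
This holds for a locally Noetherian scheme with depth `≥ 2` off `U` (helper64), and it passes to
any scheme flat over it (flat base change of sections, Mathlib).  From it we derive the relative
Hartogs extension theorem for morphisms into schemes affine over a base.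
-/

set_option autoImplicit false
set_option linter.style.haveILetI false
universe u

open CategoryTheory CategoryTheory.Limits Opposite TopologicalSpace AlgebraicGeometry

namespace Groth.Agent.Lib.Helper46.FlatHartogs

open Groth.Agent.Lib.Helper64.HartogsRing Groth.Agent.Lib.Helper64.HartogsRel
  Groth.Agent.Lib.Helper64

/-- Restriction of sections from any open `P` to `P ⊓ U` is bijective. -/
def ResBij (X : Scheme.{u}) (U : X.Opens) : Prop :=
  ∀ P : X.Opens, Function.Bijective (X.presheaf.map (homOfLE (inf_le_left : P ⊓ U ≤ P)).op)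

theorem resBij_of_hreg {X : Scheme.{u}} [IsLocallyNoetherian X] (U : X.Opens)
    (hreg : ∀ x : X, x ∉ U → HasRegPair (X.presheaf.stalk x)) : ResBij X U :=
  fun P => bijective_res_inf U hreg P

theorem ResBij.bijective_res {X : Scheme.{u}} {U : X.Opens} (h : ResBij X U) {V W : X.Opens}
    (hWV : W ≤ V) (hW : W = V ⊓ U) : Function.Bijective (X.presheaf.map (homOfLE hWV).op) := by
  subst hW
  exact h V

theorem isCompact_inf_of_isAffineOpen {S : Scheme.{u}} [IsLocallyNoetherian S] (U US : S.Opens)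
    (hUS : IsAffineOpen US) : IsCompact ((US ⊓ U : S.Opens) : Set S) := by
  haveI : IsNoetherianRing Γ(S, US) := IsLocallyNoetherian.component_noetherian ⟨US, hUS⟩
  haveI : NoetherianSpace ↥US := noetherianSpace_of_isAffineOpen US hUS
  have h1 : IsCompact ((Subtype.val : ↥US → S) ⁻¹' (U : Set S)) := NoetherianSpace.isCompact _
  have h2 := h1.image continuous_subtype_val
  have e : ((US ⊓ U : S.Opens) : Set S) = (Subtype.val : ↥US → S) '' ((Subtype.val : ↥US → S) ⁻¹' (U : Set S)) := by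
    ext x
    constructor
    · rintro ⟨h1, h2⟩
      exact ⟨⟨x, h1⟩, h2, rfl⟩
    · rintro ⟨⟨y, hy⟩, h2, rfl⟩
      exact ⟨hy, h2⟩
  rw [e]
  exact h2

/-- Flat base change of the Hartogs property, on nice affine opens. -/
theorem bijective_res_of_flat_of_isAffineOpen {S T : Scheme.{u}} [IsLocallyNoetherian S]
    (U : S.Opens) (hS : ResBij S U) (t : T ⟶ S) [Flat t] (US : S.Opens) (hUS : IsAffineOpen US)
    (UT : T.Opens) (hUT : IsAffineOpen UT) (hUST : UT ≤ t ⁻¹ᵁ US) :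
    Function.Bijective (T.presheaf.map (homOfLE (inf_le_left : UT ⊓ t ⁻¹ᵁ U ≤ UT)).op) := by
  have H : IsPullback t (𝟙 T) (𝟙 S) t := IsPullback.of_vert_isIso ⟨by simp⟩
  have hUSX : US ⊓ U ≤ (𝟙 S) ⁻¹ᵁ US := inf_le_left
  have hUY : UT ⊓ t ⁻¹ᵁ U = t ⁻¹ᵁ (US ⊓ U) ⊓ (𝟙 T) ⁻¹ᵁ UT := by
    ext x
    constructor
    · rintro ⟨h1, h2⟩
      exact ⟨⟨hUST h1, h2⟩, h1⟩
    · rintro ⟨⟨-, h2⟩, h1⟩
      exact ⟨h1, h2⟩
  have hiso := isIso_pushoutSection_of_isQuasiSeparated_of_flat_right H hUST hUSX hUY hUS hUT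
    (isCompact_inf_of_isAffineOpen U US hUS) (IsQuasiSeparated.of_quasiSeparatedSpace _)
  have h1 : IsIso ((𝟙 S : S ⟶ S).appLE US (US ⊓ U) hUSX) := by
    have e : (𝟙 S : S ⟶ S).appLE US (US ⊓ U) hUSX =
        S.presheaf.map (homOfLE (inf_le_left : US ⊓ U ≤ US)).op := by
      simp only [Scheme.Hom.appLE, Scheme.Hom.id_app]
      exact Category.id_comp _
    rw [e]
    exact (ConcreteCategory.isIso_iff_bijective _).2 (hS US)
  have h2 : pushout.inr ((𝟙 S : S ⟶ S).appLE US (US ⊓ U) hUSX) (t.appLE US UT hUST) ≫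
      pushoutSection H hUST hUSX hUY = (𝟙 T : T ⟶ T).appLE UT (UT ⊓ t ⁻¹ᵁ U) (by simp) :=
    pushout.inr_desc _ _ _
  have h3 : IsIso ((𝟙 T : T ⟶ T).appLE UT (UT ⊓ t ⁻¹ᵁ U) (by simp)) := by
    rw [← h2]
    infer_instance
  have e : (𝟙 T : T ⟶ T).appLE UT (UT ⊓ t ⁻¹ᵁ U) (by simp) =
      T.presheaf.map (homOfLE (inf_le_left : UT ⊓ t ⁻¹ᵁ U ≤ UT)).op := by
    simp only [Scheme.Hom.appLE, Scheme.Hom.id_app]
    exact Category.id_comp _
  rw [e] at h3
  exact (ConcreteCategory.isIso_iff_bijective _).1 h3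

/-- The Hartogs property passes to schemes flat over a locally Noetherian scheme. -/
theorem resBij_of_flat {S T : Scheme.{u}} [IsLocallyNoetherian S] (U : S.Opens) (hS : ResBij S U)
    (t : T ⟶ S) [Flat t] : ResBij T (t ⁻¹ᵁ U) := by
  intro V
  refine HartogsGlue.bijective_res_inf_of_basis T.sheaf (t ⁻¹ᵁ U)
    {A : T.Opens | IsAffineOpen A ∧ ∃ US : S.Opens, IsAffineOpen US ∧ A ≤ t ⁻¹ᵁ US} ?_ ?_ V
  · rw [Opens.isBasis_iff_nbhd]
    intro W x hx
    obtain ⟨_, ⟨(US : S.Opens), hUS, rfl⟩, hxUS, -⟩ :=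
      S.isBasis_affineOpens.exists_subset_of_mem_open (Set.mem_univ (t x)) isOpen_univ
    obtain ⟨_, ⟨(A : T.Opens), hA, rfl⟩, hxA, hAW⟩ :=
      T.isBasis_affineOpens.exists_subset_of_mem_open
        (show x ∈ ((W ⊓ t ⁻¹ᵁ US : T.Opens) : Set T) from ⟨hx, hxUS⟩) (W ⊓ t ⁻¹ᵁ US).2
    exact ⟨A, ⟨hA, US, hUS, fun y hy => (hAW hy).2⟩, hxA, fun y hy => (hAW hy).1⟩
  · rintro A ⟨hA, US, hUS, hAUS⟩
    exact bijective_res_of_flat_of_isAffineOpen U hS t US hUS A hA hAUS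

/-- Morphisms to affine schemes extend uniquely from the part of any open subscheme lying over
`U`. -/
def AffExt (X : Scheme.{u}) (U : X.Opens) : Prop :=
  ∀ {V' W' Z : Scheme.{u}} [IsAffine Z] (i : V' ⟶ X) [IsOpenImmersion i] (j : W' ⟶ V')
    [IsOpenImmersion j], Set.range j = i ⁻¹' (U : Set X) → ∀ ψ : W' ⟶ Z, ∃! φ : V' ⟶ Z, j ≫ φ = ψ

theorem ResBij.bijective_appTop {X W : Scheme.{u}} {U : X.Opens} (h : ResBij X U) (j : W ⟶ X)
    [IsOpenImmersion j] (hj : Set.range j = (U : Set X)) : Function.Bijective j.appTop := by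
  have hU : j.opensRange = U := by
    ext x
    exact Set.ext_iff.1 hj x
  subst hU
  have h1 : Function.Bijective j.opensRange.ι.appTop := by
    have e : j.opensRange.ι.appTop =
        X.presheaf.map (homOfLE (by simp : j.opensRange.ι ''ᵁ (j.opensRange.ι ⁻¹ᵁ ⊤) ≤ ⊤)).op :=
      Scheme.Opens.ι_app j.opensRange ⊤
    rw [e]
    exact h.bijective_res _ (by simp)
  have h2 : j = j.isoOpensRange.hom ≫ j.opensRange.ι := (Scheme.Hom.isoOpensRange_hom_ι j).symm
  rw [h2, Scheme.Hom.comp_appTop]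
  have h3 : Function.Bijective j.isoOpensRange.hom.appTop := by
    haveI : IsIso j.isoOpensRange.hom.appTop :=
      ⟨j.isoOpensRange.inv.appTop, by simp [← Scheme.Hom.comp_appTop],
        by simp [← Scheme.Hom.comp_appTop]⟩
    exact (ConcreteCategory.isIso_iff_bijective _).1 inferInstance
  exact h3.comp h1

/-- A scheme flat over a locally Noetherian scheme with the Hartogs property has the affine
extension property. -/
theorem affExt_of_flat {S : Scheme.{u}} [IsLocallyNoetherian S] (U : S.Opens) (hS : ResBij S U)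
    {X : Scheme.{u}} (t : X ⟶ S) [Flat t] : AffExt X (t ⁻¹ᵁ U) := by
  intro V' W' Z _ i _ j _ hj ψ
  haveI : Flat (i ≫ t) := inferInstance
  have h := resBij_of_flat U hS (i ≫ t)
  apply existsUnique_of_bijective_appTop
  refine h.bijective_appTop j ?_
  rw [hj]
  rfl

variable {X S Y : Scheme.{u}}

/-- Local existence and uniqueness over an affine open `T` of the base. -/
theorem local_existsUnique (U : X.Opens) (hE : AffExt X U)
    (f : X ⟶ S) (g : Y ⟶ S) [IsAffineHom g] (ψ : (U : Scheme.{u}) ⟶ Y)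
    (hψ : ψ ≫ g = U.ι ≫ f) (T : S.Opens) (hT : IsAffineOpen T) {P W : Scheme.{u}} (i : P ⟶ X)
    [IsOpenImmersion i] (p : P ⟶ (T : Scheme.{u})) (hp : i ≫ f = p ≫ T.ι) (j : W ⟶ P)
    [IsOpenImmersion j] (hj : Set.range j = i ⁻¹' (U : Set X)) (k : W ⟶ (U : Scheme.{u}))
    (hk : k ≫ U.ι = j ≫ i) :
    ∃! φ : P ⟶ Y, φ ≫ g = i ≫ f ∧ j ≫ φ = k ≫ ψ := by
  have hYT : IsAffineOpen (g ⁻¹ᵁ T) := hT.preimage g
  haveI : IsAffine ((g ⁻¹ᵁ T : Y.Opens) : Scheme.{u}) := hYT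
  haveI : IsAffine (T : Scheme.{u}) := hT
  have h0 : (k ≫ ψ) ≫ g = (j ≫ p) ≫ T.ι := by
    rw [Category.assoc, hψ, ← Category.assoc, hk, Category.assoc, hp, Category.assoc]
  obtain ⟨ψ', hψ'⟩ := exists_lift_preimage g T (k ≫ ψ) (j ≫ p) h0
  obtain ⟨φ', hφ', huniq⟩ := hE i j hj ψ'
  have hφg : φ' ≫ (g ∣_ T) = p := by
    obtain ⟨q, -, hq⟩ := hE i j hj (j ≫ p)
    have e1 : φ' ≫ (g ∣_ T) = q := by
      apply hq
      rw [← cancel_mono T.ι]
      calc (j ≫ φ' ≫ (g ∣_ T)) ≫ T.ι = (j ≫ φ') ≫ ((g ∣_ T) ≫ T.ι) := by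
            simp only [Category.assoc]
        _ = ψ' ≫ ((g ⁻¹ᵁ T).ι ≫ g) := by rw [hφ', morphismRestrict_ι]
        _ = (ψ' ≫ (g ⁻¹ᵁ T).ι) ≫ g := by rw [Category.assoc]
        _ = (j ≫ p) ≫ T.ι := by rw [hψ', h0]
    have e2 : p = q := hq _ rfl
    rw [e1, e2]
  refine ⟨φ' ≫ (g ⁻¹ᵁ T).ι, ⟨?_, ?_⟩, ?_⟩
  · rw [Category.assoc, ← morphismRestrict_ι, ← Category.assoc, hφg, hp]
  · rw [← Category.assoc, hφ', hψ']
  · rintro φ₂ ⟨h1, h2⟩
    obtain ⟨φ₂', hφ₂'⟩ := exists_lift_preimage g T φ₂ p (h1.trans hp)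
    have : φ₂' = φ' := by
      apply huniq
      rw [← cancel_mono (g ⁻¹ᵁ T).ι, Category.assoc, hφ₂', h2, hψ']
    rw [← hφ₂', this]

/-- **Relative Hartogs**: `X` locally Noetherian, `U ⊆ X` open with regular pairs off `U`,
`g : Y ⟶ S` affine.  Every `S`-morphism `U ⟶ Y` extends uniquely to an `S`-morphism `X ⟶ Y`. -/
theorem existsUnique_extension_of_isAffineHom (U : X.Opens) (hE : AffExt X U)
    (f : X ⟶ S) (g : Y ⟶ S) [IsAffineHom g] (ψ : (U : Scheme.{u}) ⟶ Y)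
    (hψ : ψ ≫ g = U.ι ≫ f) :
    ∃! φ : X ⟶ Y, φ ≫ g = f ∧ U.ι ≫ φ = ψ := by
  let 𝒰 : X.OpenCover := S.directedAffineCover.pullback₁ f
  -- local data
  have hloc : ∀ T : S.affineOpens, ∃! φ : pullback f T.1.ι ⟶ Y,
      φ ≫ g = pullback.fst f T.1.ι ≫ f ∧
      pullback.snd U.ι (pullback.fst f T.1.ι) ≫ φ = pullback.fst U.ι (pullback.fst f T.1.ι) ≫ ψ :=
    fun T => local_existsUnique U hE f g ψ hψ T.1 T.2 (pullback.fst f T.1.ι)
      (pullback.snd f T.1.ι) pullback.condition (pullback.snd U.ι (pullback.fst f T.1.ι))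
      (by rw [Scheme.Pullback.range_snd, Scheme.Opens.range_ι]) (pullback.fst U.ι _)
      pullback.condition
  choose φT hφT huniq using hloc
  have hcompat' : ∀ (T T' : S.affineOpens) (t : pullback f T.1.ι ⟶ pullback f T'.1.ι),
      t ≫ pullback.fst f T'.1.ι = pullback.fst f T.1.ι → t ≫ φT T' = φT T := by
    intro T T' t htr
    apply huniq T
    constructor
    · rw [Category.assoc, (hφT T').1, ← Category.assoc, htr]
    · let m : pullback U.ι (pullback.fst f T.1.ι) ⟶ pullback U.ι (pullback.fst f T'.1.ι) :=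
        pullback.lift (pullback.fst U.ι _) (pullback.snd U.ι _ ≫ t)
          (by rw [Category.assoc, htr, pullback.condition])
      have hm1 : m ≫ pullback.fst U.ι _ = pullback.fst U.ι _ := pullback.lift_fst _ _ _
      have hm2 : m ≫ pullback.snd U.ι _ = pullback.snd U.ι _ ≫ t :=
        pullback.lift_snd _ _ _
      rw [← Category.assoc, ← hm2, Category.assoc, (hφT T').2, ← Category.assoc, hm1]
  have hcompat : ∀ {T T' : 𝒰.I₀} (hij : T ⟶ T'), 𝒰.trans hij ≫ φT T' = φT T :=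
    fun {T T'} hij => hcompat' T T' (𝒰.trans hij) (𝒰.trans_map hij)
  let φ : X ⟶ Y := 𝒰.glueMorphismsOfLocallyDirected φT hcompat
  have hφ : ∀ T : S.affineOpens, pullback.fst f T.1.ι ≫ φ = φT T :=
    fun T => 𝒰.map_glueMorphismsOfLocallyDirected φT hcompat T
  refine ⟨φ, ⟨?_, ?_⟩, ?_⟩
  · refine 𝒰.hom_ext _ _ (fun (T : S.affineOpens) => ?_)
    show pullback.fst f T.1.ι ≫ φ ≫ g = pullback.fst f T.1.ι ≫ f
    rw [← Category.assoc, hφ, (hφT T).1]
  · refine Scheme.Cover.hom_ext (𝒰.pullback₁ U.ι) _ _ (fun (T : S.affineOpens) => ?_)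
    show pullback.fst U.ι (pullback.fst f T.1.ι) ≫ U.ι ≫ φ =
      pullback.fst U.ι (pullback.fst f T.1.ι) ≫ ψ
    rw [← Category.assoc, pullback.condition, Category.assoc, hφ, (hφT T).2]
  · rintro φ₂ ⟨h1, h2⟩
    refine 𝒰.hom_ext _ _ (fun (T : S.affineOpens) => ?_)
    show pullback.fst f T.1.ι ≫ φ₂ = pullback.fst f T.1.ι ≫ φ
    rw [hφ]
    apply huniq T
    constructor
    · rw [Category.assoc, h1]
    · rw [← Category.assoc, ← pullback.condition, Category.assoc, h2]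

/-- **Relative Hartogs**, open immersion form. -/
theorem existsUnique_extension_of_isAffineHom' {W : Scheme.{u}}
    (j : W ⟶ X) [IsOpenImmersion j] (hE : AffExt X j.opensRange)
    (f : X ⟶ S) (g : Y ⟶ S) [IsAffineHom g] (ψ : W ⟶ Y) (hψ : ψ ≫ g = j ≫ f) :
    ∃! φ : X ⟶ Y, φ ≫ g = f ∧ j ≫ φ = ψ := by
  have hj : j.isoOpensRange.hom ≫ j.opensRange.ι = j := Scheme.Hom.isoOpensRange_hom_ι j
  have hj' : j.isoOpensRange.inv ≫ j = j.opensRange.ι := Scheme.Hom.isoOpensRange_inv_comp j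
  obtain ⟨φ, ⟨h1, h2⟩, huniq⟩ := existsUnique_extension_of_isAffineHom j.opensRange hE f g
    (j.isoOpensRange.inv ≫ ψ) (by rw [Category.assoc, hψ, ← Category.assoc, hj'])
  refine ⟨φ, ⟨h1, ?_⟩, ?_⟩
  · calc j ≫ φ = (j.isoOpensRange.hom ≫ j.opensRange.ι) ≫ φ := by rw [hj]
      _ = j.isoOpensRange.hom ≫ (j.opensRange.ι ≫ φ) := by rw [Category.assoc]
      _ = ψ := by rw [h2, Iso.hom_inv_id_assoc]
  · rintro φ₂ ⟨h3, h4⟩
    apply huniq
    refine ⟨h3, ?_⟩
    rw [← h4, ← Category.assoc, hj']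


/-- **Relative Hartogs for flat schemes.**  Let `S₀` be locally Noetherian with the Hartogs
property for the open `U`, `t : X ⟶ S₀` flat, `j : W ⟶ X` an open immersion onto `t⁻¹ U`, and
`g : Y ⟶ S` an affine morphism.  Every `S`-morphism `W ⟶ Y` extends uniquely to `X ⟶ Y`. -/
theorem existsUnique_extension_of_flat {S₀ : Scheme.{u}} [IsLocallyNoetherian S₀] (U : S₀.Opens)
    (hS : ResBij S₀ U) (t : X ⟶ S₀) [Flat t] {W : Scheme.{u}} (j : W ⟶ X) [IsOpenImmersion j]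
    (hj : Set.range j = t ⁻¹' (U : Set S₀)) (f : X ⟶ S) (g : Y ⟶ S) [IsAffineHom g] (ψ : W ⟶ Y)
    (hψ : ψ ≫ g = j ≫ f) : ∃! φ : X ⟶ Y, φ ≫ g = f ∧ j ≫ φ = ψ := by
  have hU : j.opensRange = t ⁻¹ᵁ U := by
    ext x
    exact Set.ext_iff.1 hj x
  have hE : AffExt X j.opensRange := by
    rw [hU]
    exact affExt_of_flat U hS t
  exact existsUnique_extension_of_isAffineHom' j hE f g ψ hψ

end Groth.Agent.Lib.Helper46.FlatHartogs
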