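import Mathlib
import Groth.Agent.Lib.Helper46.FlatStage

/-!
# Noetherian approximation of flat finitely presented algebras
-/

set_option autoImplicit false
set_option linter.style.haveILetI false
universe u

namespace Groth.Agent.Lib.Helper46.FlatModel

open TensorProduct CategoryTheory AlgebraicGeometry Groth.Agent.Lib.Helper46.FlatStage

theorem exists_flat_model_aux (k N A B : Type u) [CommRing k] [CommRing N] [CommRing A] [CommRing B]
    [Algebra k N] [Algebra k A] [Algebra A B] [Algebra.FiniteType ℤ k]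
    [Algebra.FinitePresentation k N] (e₀ : A ⊗[k] N ≃ₐ[A] B) [Module.Flat A B] :
    ∃ (A₁ M₁ : Type u) (_ : CommRing A₁) (_ : CommRing M₁) (_ : Algebra A₁ A)
      (_ : Algebra A₁ M₁) (_ : A ⊗[A₁] M₁ ≃ₐ[A] B),
      Algebra.FiniteType ℤ A₁ ∧ Function.Injective (algebraMap A₁ A) ∧
      Algebra.FinitePresentation A₁ M₁ ∧ Module.Flat A₁ M₁ := by
  classical
  haveI : IsNoetherianRing k := Algebra.FiniteType.isNoetherianRing ℤ _
  have hfl : Module.Flat A (A ⊗[k] N) := Module.Flat.of_linearEquiv e₀.toLinearEquiv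
  obtain ⟨A₁, hA₁, hff⟩ := exists_fg_flat (k := k) (R := A) (N := N) hfl
  let e₁ : A ⊗[↥A₁] (↥A₁ ⊗[k] N) ≃ₐ[A] A ⊗[k] N :=
    Algebra.TensorProduct.cancelBaseChange k ↥A₁ A A N
  refine ⟨↥A₁, ↥A₁ ⊗[k] N, inferInstance, inferInstance, inferInstance, inferInstance,
    e₁.trans e₀, ?_, Subtype.val_injective, inferInstance, hff⟩
  haveI : Algebra.FiniteType k ↥A₁ := (Subalgebra.fg_iff_finiteType A₁).1 hA₁
  exact Algebra.FiniteType.trans (S := k) inferInstance inferInstance

/-- A flat finitely presented algebra is a base change of a flat finitely presented algebra over a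
finitely generated `ℤ`-subalgebra. -/
theorem exists_flat_model (A B : Type u) [CommRing A] [CommRing B] [Algebra A B]
    [Algebra.FinitePresentation A B] [Module.Flat A B] :
    ∃ (A₁ M₁ : Type u) (_ : CommRing A₁) (_ : CommRing M₁) (_ : Algebra A₁ A)
      (_ : Algebra A₁ M₁) (_ : A ⊗[A₁] M₁ ≃ₐ[A] B),
      Algebra.FiniteType ℤ A₁ ∧ Function.Injective (algebraMap A₁ A) ∧
      Algebra.FinitePresentation A₁ M₁ ∧ Module.Flat A₁ M₁ :=
  exists_flat_model_aux (Algebra.Presentation.ofFinitePresentation A B).Core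
    ((Algebra.Presentation.ofFinitePresentation A B).ModelOfHasCoeffs
      (Algebra.Presentation.ofFinitePresentation A B).Core) A B
    ((Algebra.Presentation.ofFinitePresentation A B).tensorModelOfHasCoeffsEquiv
      (Algebra.Presentation.ofFinitePresentation A B).Core)

end Groth.Agent.Lib.Helper46.FlatModel
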