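import Mathlib
import Groth.Agent.Lib.Helper46.FppfSourceSm
import Groth.Agent.Lib.Helper5.LocPSource
import Groth.Agent.Lib.Helper30.AlgSpEtaleMor

/-!
# Smooth / étale descend along fppf covers of the SOURCE (algebraic spaces)
-/

set_option autoImplicit false
universe u
open CategoryTheory CategoryTheory.Limits AlgebraicGeometry Opposite TopologicalSpace

namespace Groth.Agent.Lib.Helper46.FppfSourceSp

open AlgSp Groth.Agent.Lib.Helper5.LocPSource Groth.Agent.Lib.Helper46.FppfSourceSch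
  Groth.Agent.Lib.Helper46

/-- Descent of `P` along a jointly surjective family of `Q`-morphisms, from descent along a single
surjective `Q`-morphism. -/
theorem desc_family (Q P : MorphismProperty Scheme.{u}) [IsZariskiLocalAtSource P]
    [IsZariskiLocalAtSource Q]
    (hdesc : ∀ {X' X Y : Scheme.{u}} (e : X' ⟶ X) (f : X ⟶ Y), Q e → Surjective e →
      P (e ≫ f) → P f)
    ⦃U C : Scheme.{u}⦄ (h : U ⟶ C) {ι : Type u} (E : ι → Scheme.{u})
    (k : ∀ i, E i ⟶ U) (hk : ∀ i, Q (k i)) (hs : ∀ z : ↥U, ∃ i, z ∈ Set.range (k i))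
    (H : ∀ i, P (k i ≫ h)) : P h := by
  let e : (∐ E) ⟶ U := Sigma.desc k
  have he1 : Q e := IsZariskiLocalAtSource.sigmaDesc (P := Q) hk
  have hes : Surjective e := by
    refine ⟨fun x => ?_⟩
    obtain ⟨i, u, hu⟩ := hs x
    refine ⟨Sigma.ι E i u, ?_⟩
    rw [← Scheme.Hom.comp_apply, Sigma.ι_desc]
    exact hu
  have hef : P (e ≫ h) := by
    have : e ≫ h = Sigma.desc fun x => k x ≫ h := by
      apply Sigma.hom_ext
      intro x
      simp [e]
    rw [this]
    exact IsZariskiLocalAtSource.sigmaDesc (P := P) H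
  exact hdesc e h he1 hes hef

variable {S : Scheme.{u}}

/-- A property that descends along fppf surjections of the source of schemes descends along
surjective flat lfp morphisms of algebraic spaces. -/
theorem locP_of_fppf_comp (P : MorphismProperty Scheme.{u}) [IsZariskiLocalAtSource P]
    (hdesc : ∀ {X' X Y : Scheme.{u}} (e : X' ⟶ X) (f : X ⟶ Y), Flat e →
      LocallyOfFinitePresentation e → Surjective e → P (e ≫ f) → P f)
    {X Y B : Sp S} (hX : IsAlgSpace X) (hY : IsAlgSpace Y) (f : X ⟶ Y) (q : Y ⟶ B)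
    (hs : IsSurjectiveMor f) (hfl : LocP @Flat f) (hfp : LocP @LocallyOfFinitePresentation f)
    (h : LocP P (f ≫ q)) : LocP P q := by
  refine locP_of_forall_precomp (Q := @Flat ⊓ @LocallyOfFinitePresentation)
    (EtLocal.inf Groth.Agent.Lib.Helper46.etLocal_flat
      Groth.Agent.Lib.Helper30.EtLocalInst.etLocal_lfp) ?_ hY (fun _ : PUnit.{u+1} => X)
    (fun _ => hX) (fun _ => f) (fun _ => locP_inf f hfl hfp) (fun x => ⟨PUnit.unit, hs x⟩) q
    (fun _ => h)
  intro U C h ι E k hk hsurj H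
  exact desc_family (@Flat ⊓ @LocallyOfFinitePresentation) P
    (fun e f he hs h => hdesc e f he.1 he.2 hs h) h E k hk hsurj H

theorem locP_smooth_of_fppf_comp {X Y B : Sp S} (hX : IsAlgSpace X) (hY : IsAlgSpace Y)
    (f : X ⟶ Y) (q : Y ⟶ B)
    (hs : IsSurjectiveMor f) (hfl : LocP @Flat f) (hfp : LocP @LocallyOfFinitePresentation f)
    (h : LocP @Smooth (f ≫ q)) : LocP @Smooth q :=
  locP_of_fppf_comp @Smooth (fun e f _ _ _ h => by
    have : Smooth (e ≫ f) := h
    exact smooth_of_fppf_surjective_comp e f) hX hY f q hs hfl hfp h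

theorem locP_etale_of_fppf_comp {X Y B : Sp S} (hX : IsAlgSpace X) (hY : IsAlgSpace Y)
    (f : X ⟶ Y) (q : Y ⟶ B)
    (hs : IsSurjectiveMor f) (hfl : LocP @Flat f) (hfp : LocP @LocallyOfFinitePresentation f)
    (h : LocP @Etale (f ≫ q)) : LocP @Etale q :=
  locP_of_fppf_comp @Etale (fun e f _ _ _ h => by
    have : Etale (e ≫ f) := h
    exact etale_of_fppf_surjective_comp e f) hX hY f q hs hfl hfp h

theorem isEtaleMor_of_fppf_comp {X Y B : Sp S} (hX : IsAlgSpace X) (hY : IsAlgSpace Y)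
    (hB : IsAlgSpace B) (f : X ⟶ Y) (q : Y ⟶ B)
    (hs : IsSurjectiveMor f) (hfl : LocP @Flat f) (hfp : LocP @LocallyOfFinitePresentation f)
    (h : IsEtaleMor (f ≫ q)) : IsEtaleMor q :=
  Groth.Agent.Lib.Helper30.AlgSpEtaleMor.isEtaleMor_of_locP_etale hB q
    (locP_etale_of_fppf_comp hX hY f q hs hfl hfp
      (Groth.Agent.Lib.Helper30.AlgSpEtaleMor.locP_etale_of_isEtaleMor _ h))

end Groth.Agent.Lib.Helper46.FppfSourceSp
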