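import Mathlib
import Groth.Agent.Lib.Helper46.FppfSourceSp
import Groth.Agent.Lib.Helper79.LfpOfComp
import Groth.Agent.Lib.Helper36.OpenSubspace

/-!
# Morphisms through which an fppf-locally surjective morphism factors (Stacks 0AHC / 0AHD)

If `E ⟶ U ⟶ V` has `P ∈ {flat, lft, lfp}` and `E ⟶ U` admits sections fppf-locally on `U`,
then `U ⟶ V` has `P`.  Version for algebraic spaces with `Sheaf.IsLocallySurjective`.
-/

set_option autoImplicit false
universe u
open CategoryTheory CategoryTheory.Limits AlgebraicGeometry Opposite TopologicalSpace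

namespace Groth.Agent.Lib.Helper46.FppfLift

open TensorProduct in
/-- Flatness descends to a pure subring: `A → B → M → C` with `M` flat over `A` and `C`
faithfully flat over `B`; then `B` is flat over `A`. -/
lemma flat_of_flat_of_pure (A B M C : Type*) [CommRing A] [CommRing B] [CommRing M] [CommRing C]
    [Algebra A B] [Algebra A M] [Algebra A C] [Algebra B M] [Algebra B C] [Algebra M C]
    [IsScalarTower A B M] [IsScalarTower A B C] [IsScalarTower B M C]
    [Module.Flat A M] [Module.FaithfullyFlat B C] : Module.Flat A B := by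
  rw [Module.Flat.iff_lTensor_preserves_injective_linearMap]
  intro N N' _ _ _ _ l hl
  let β : B →ₗ[A] M := (IsScalarTower.toAlgHom A B M).toLinearMap
  let γ : M →ₗ[A] C := ((IsScalarTower.toAlgHom B M C).restrictScalars A).toLinearMap
  have hβ : ∀ (N : Type _) [AddCommGroup N] [Module A N], Function.Injective (β.rTensor N) := by
    intro N _ _
    have h1 : Function.Injective ((γ ∘ₗ β).rTensor N) := by
      have h2 := Module.FaithfullyFlat.tensorProduct_mk_injective (A := B) (B := C) (B ⊗[A] N)
      have e : ((γ ∘ₗ β).rTensor N : B ⊗[A] N → C ⊗[A] N) =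
          (AlgebraTensorModule.cancelBaseChange A B C C N) ∘
            (TensorProduct.mk B C (B ⊗[A] N) 1) := by
        ext x
        induction x with
        | zero => simp
        | tmul b n =>
          simp [γ, β, Algebra.smul_def]
          rw [← IsScalarTower.algebraMap_apply]
        | add x y hx hy =>
          simp only [map_add, Function.comp_apply] at hx hy ⊢
          rw [hx, hy]
      rw [e]
      exact (AlgebraTensorModule.cancelBaseChange A B C C N).injective.comp h2
    rw [LinearMap.rTensor_comp, LinearMap.coe_comp] at h1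
    exact Function.Injective.of_comp h1
  have h3 : Function.Injective (β.rTensor N' ∘ₗ l.lTensor B) := by
    rw [LinearMap.rTensor_comp_lTensor, ← LinearMap.lTensor_comp_rTensor, LinearMap.coe_comp]
    exact (Module.Flat.lTensor_preserves_injective_linearMap (M := M) l hl).comp (hβ N)
  rw [LinearMap.coe_comp] at h3
  exact Function.Injective.of_comp h3

lemma ringHom_flat_of_pure {A B M C : Type*} [CommRing A] [CommRing B] [CommRing M] [CommRing C]
    (φ : A →+* B) (β : B →+* M) (γ : M →+* C) (h1 : (β.comp φ).Flat)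
    (h2 : (γ.comp β).FaithfullyFlat) : φ.Flat := by
  letI := φ.toAlgebra
  letI := β.toAlgebra
  letI := γ.toAlgebra
  letI := (β.comp φ).toAlgebra
  letI := (γ.comp β).toAlgebra
  letI := (γ.comp (β.comp φ)).toAlgebra
  haveI : IsScalarTower A B M := IsScalarTower.of_algebraMap_eq' rfl
  haveI : IsScalarTower A B C := IsScalarTower.of_algebraMap_eq' rfl
  haveI : IsScalarTower B M C := IsScalarTower.of_algebraMap_eq' rfl
  haveI : Module.Flat A M := h1
  haveI : Module.FaithfullyFlat B C := h2
  exact flat_of_flat_of_pure A B M C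

variable {E U V : Scheme.{u}} (p : E ⟶ U) (k : U ⟶ V) {ι : Type u} (Ei : ι → Scheme.{u})
  (s : ∀ i, Ei i ⟶ E)

/-- Stacks 0AHC, flat case. -/
theorem flat_of_lift (hfl : ∀ i, Flat (s i ≫ p))
    (hsurj : ∀ x : ↥U, ∃ i, x ∈ Set.range (s i ≫ p)) (h : Flat (p ≫ k)) : Flat k := by
  rw [Flat.iff_flat_stalkMap]
  intro x
  obtain ⟨i, e, rfl⟩ := hsurj x
  have h1 : ((p.stalkMap (s i e)).hom.comp (k.stalkMap (p (s i e))).hom).Flat := by
    have h' := Flat.stalkMap (p ≫ k) (s i e)
    have e1 : (p ≫ k).stalkMap (s i e) = k.stalkMap (p (s i e)) ≫ p.stalkMap (s i e) :=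
      Scheme.Hom.stalkMap_comp p k (s i e)
    rw [e1] at h'
    exact h'
  have h2 : (((s i).stalkMap e).hom.comp (p.stalkMap (s i e)).hom).FaithfullyFlat := by
    haveI := hfl i
    have h' := Flat.stalkMap (s i ≫ p) e
    have e1 : (s i ≫ p).stalkMap e = p.stalkMap (s i e) ≫ (s i).stalkMap e :=
      Scheme.Hom.stalkMap_comp (s i) p e
    have hloc : IsLocalHom ((s i ≫ p).stalkMap e).hom := (s i ≫ p).toLRSHom.prop e
    rw [e1] at h' hloc
    algebraize [((s i).stalkMap e).hom.comp (p.stalkMap (s i e)).hom]
    exact @Module.FaithfullyFlat.of_flat_of_isLocalHom _ _ _ _ _ _ _ h' hloc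
  exact ringHom_flat_of_pure _ _ _ h1 h2

open Groth.Agent.Lib.Helper46.FppfSourceSp Groth.Agent.Lib.Helper46.FppfSourceSch in
/-- Stacks 0AHC, locally of finite type case. -/
theorem locallyOfFiniteType_of_lift (hfl : ∀ i, Flat (s i ≫ p))
    (hfp : ∀ i, LocallyOfFinitePresentation (s i ≫ p))
    (hsurj : ∀ x : ↥U, ∃ i, x ∈ Set.range (s i ≫ p)) (h : LocallyOfFiniteType (p ≫ k)) :
    LocallyOfFiniteType k := by
  refine desc_family (@Flat ⊓ @LocallyOfFinitePresentation) @LocallyOfFiniteType
    (fun e f he hs h => ?_) k Ei (fun i => s i ≫ p) (fun i => ⟨hfl i, hfp i⟩) hsurj (fun i => ?_)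
  · haveI : Flat e := he.1
    haveI : LocallyOfFinitePresentation e := he.2
    haveI : Surjective e := hs
    haveI : LocallyOfFiniteType (e ≫ f) := h
    exact locallyOfFiniteType_of_fppf_surjective_comp e f
  · haveI := hfp i
    haveI : LocallyOfFiniteType (s i) := locallyOfFiniteType_of_comp (s i) p
    rw [Category.assoc]
    infer_instance

open Groth.Agent.Lib.Helper46.FppfSourceSp Groth.Agent.Lib.Helper46.FppfSourceSch in
/-- Stacks 0AHC, locally of finite presentation case. -/
theorem locallyOfFinitePresentation_of_lift (hfl : ∀ i, Flat (s i ≫ p))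
    (hfp : ∀ i, LocallyOfFinitePresentation (s i ≫ p))
    (hsurj : ∀ x : ↥U, ∃ i, x ∈ Set.range (s i ≫ p))
    (h : LocallyOfFinitePresentation (p ≫ k)) :
    LocallyOfFinitePresentation k := by
  have hk : LocallyOfFiniteType k :=
    locallyOfFiniteType_of_lift p k Ei s hfl hfp hsurj inferInstance
  have hp : LocallyOfFinitePresentation p := Groth.Agent.Lib.Helper79.lfp_of_comp h hk
  have hs : ∀ i, LocallyOfFinitePresentation (s i) := fun i =>
    Groth.Agent.Lib.Helper79.lfp_of_comp (hfp i) inferInstance
  refine desc_family (@Flat ⊓ @LocallyOfFinitePresentation) @LocallyOfFinitePresentation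
    (fun e f he hs h => ?_) k Ei (fun i => s i ≫ p) (fun i => ⟨hfl i, hfp i⟩) hsurj (fun i => ?_)
  · haveI : Flat e := he.1
    haveI : LocallyOfFinitePresentation e := he.2
    haveI : Surjective e := hs
    haveI : LocallyOfFinitePresentation (e ≫ f) := h
    exact locallyOfFinitePresentation_of_fppf_surjective_comp e f
  · haveI := hs i
    rw [Category.assoc]
    infer_instance

end Groth.Agent.Lib.Helper46.FppfLift
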