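import Mathlib
import Groth.Agent.Lib.Helper46.FppfLift

/-!
# Stacks 0AHD: `X ⟶ Y ⟶ Z` algebraic spaces, `X ⟶ Y` a surjection of fppf sheaves,
`X ⟶ Z` has `P ∈ {flat, lft, lfp}` ⇒ `Y ⟶ Z` has `P`.
-/

set_option autoImplicit false
universe u
open CategoryTheory CategoryTheory.Limits AlgebraicGeometry Opposite TopologicalSpace

namespace Groth.Agent.Lib.Helper46.FppfLiftSp

open AlgSp Groth.Agent.Lib.Helper36.AlgSpCharts Groth.Agent.Lib.Helper23.AlgSpMor

variable {S : Scheme.{u}}

set_option backward.isDefEq.respectTransparency false in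
/-- Covering sieves of the fppf topology over `S` contain, through every point, a flat lfp
morphism. -/
theorem exists_fppf_mem_of_mem_J {T : Over S} (R : Sieve T) (hR : R ∈ J S T) (t : ↥T.left) :
    ∃ (T' : Over S) (φ : T' ⟶ T), R φ ∧ Flat φ.left ∧ LocallyOfFinitePresentation φ.left ∧
      t ∈ Set.range φ.left := by
  rw [J_eq, GrothendieckTopology.mem_over_iff] at hR
  have : MorphismProperty.IsMultiplicative
      (@LocallyOfFinitePresentation : MorphismProperty Scheme.{u}) :=
    { id_mem := fun _ => inferInstance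
      comp_mem := fun f g hf hg => by
        have : LocallyOfFinitePresentation f := hf
        have : LocallyOfFinitePresentation g := hg
        exact (inferInstance : LocallyOfFinitePresentation (f ≫ g)) }
  obtain ⟨𝒰, h𝒰⟩ := (Scheme.mem_grothendieckTopology_iff
    (P := @Flat ⊓ @LocallyOfFinitePresentation)).1 hR
  obtain ⟨i, y, hy⟩ := 𝒰.exists_eq t
  have h1 : Sieve.overEquiv T R (𝒰.f i) := h𝒰 _ _ (Presieve.ofArrows.mk i)
  rw [Sieve.overEquiv_iff] at h1
  have h2 : (@Flat ⊓ @LocallyOfFinitePresentation : MorphismProperty Scheme.{u}) (𝒰.f i) :=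
    𝒰.map_prop i
  exact ⟨_, _, h1, h2.1, h2.2, y, hy⟩

/-- Local lifts of a section through a locally surjective morphism, along flat lfp morphisms. -/
theorem exists_fppf_lift {X Y : Sp S} (g : X ⟶ Y) [hg : Sheaf.IsLocallySurjective g] {U : Over S}
    (a : (yon S).obj U ⟶ Y) (t : ↥U.left) :
    ∃ (T' : Over S) (φ : T' ⟶ U) (x : (yon S).obj T' ⟶ X), x ≫ g = (yon S).map φ ≫ a ∧
      Flat φ.left ∧ LocallyOfFinitePresentation φ.left ∧ t ∈ Set.range φ.left := by
  have hmem := Presheaf.imageSieve_mem (J S) g.hom ((J S).uliftYonedaEquiv a)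
  obtain ⟨T', φ, ⟨z, hz⟩, h1, h2, h3⟩ := exists_fppf_mem_of_mem_J _ hmem t
  refine ⟨T', φ, (J S).uliftYonedaEquiv.symm z, ?_, h1, h2, h3⟩
  apply (J S).uliftYonedaEquiv.injective
  rw [GrothendieckTopology.uliftYonedaEquiv_comp, Equiv.apply_symm_apply,
    ← GrothendieckTopology.uliftYonedaEquiv_naturality]
  exact hz

/-- Stacks 0AHD, generic form. -/
theorem locP_of_locallySurjective (P : MorphismProperty Scheme.{u})
    (hA : ∀ {E U V : Scheme.{u}} (p : E ⟶ U) (k : U ⟶ V) {ι : Type u} (Ei : ι → Scheme.{u})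
      (s : ∀ i, Ei i ⟶ E), (∀ i, Flat (s i ≫ p)) →
      (∀ i, LocallyOfFinitePresentation (s i ≫ p)) →
      (∀ x : ↥U, ∃ i, x ∈ Set.range (s i ≫ p)) → P (p ≫ k) → P k)
    {X Y Z : Sp S} (hX : IsAlgSpace X) (hY : IsAlgSpace Y) (g : X ⟶ Y) (h : Y ⟶ Z)
    [hg : Sheaf.IsLocallySurjective g] (H : LocP P (g ≫ h)) : LocP P h := by
  intro U V a b k ha hb comm
  have hT : IsAlgSpace (pullback g a) :=
    isAlgSpace_of_isPullback hX (IsAlgSpace.yon_obj U) hY.diag (IsPullback.of_hasPullback g a)
  obtain ⟨E, d, hde, hds⟩ := hT.atlas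
  obtain ⟨p, hp⟩ := (yon S).map_surjective (d ≫ pullback.snd g a)
  have hfst : RepWith @Etale (pullback.fst g a) :=
    MorphismProperty.pullback_fst (P := RepWith @Etale) g a ha
  have he : RepWith @Etale (d ≫ pullback.fst g a) := (RepWith @Etale).comp_mem _ _ hde hfst
  have hP : P (p ≫ k).left := by
    refine H (d ≫ pullback.fst g a) b (p ≫ k) he hb ?_
    rw [Category.assoc, ← Category.assoc (pullback.fst g a), pullback.condition, Category.assoc,
      comm, Functor.map_comp, hp, Category.assoc, Category.assoc]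
  rw [Over.comp_left] at hP
  -- local lifts
  choose T' φ x hx hφfl hφfp hφs using fun t : ↥U.left => exists_fppf_lift g a t
  let l : ∀ t, (yon S).obj (T' t) ⟶ pullback g a := fun t =>
    pullback.lift (x t) ((yon S).map (φ t)) (hx t)
  choose E' q1 q2 sq using fun t => exists_isPullback_yon (l t) d hde.rep
  have hq1e : ∀ t, Etale (q1 t).left := fun t => prop_fst_of_isPullback (sq t) hde
  have hq1s : ∀ t, Surjective (q1 t).left := fun t => prop_fst_of_isPullback (sq t) hds
  have hcomp : ∀ t, q2 t ≫ p = q1 t ≫ φ t := fun t => by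
    apply (yon S).map_injective
    rw [Functor.map_comp, Functor.map_comp, hp, ← Category.assoc, ← (sq t).w, Category.assoc]
    congr 1
    exact pullback.lift_snd _ _ _
  have hcompl : ∀ t, (q2 t).left ≫ p.left = (q1 t).left ≫ (φ t).left := fun t => by
    rw [← Over.comp_left, hcomp, Over.comp_left]
  refine hA p.left k.left (fun t => (E' t).left) (fun t => (q2 t).left) (fun t => ?_)
    (fun t => ?_) (fun t => ?_) hP
  · rw [hcompl]
    haveI := hq1e t
    haveI := hφfl t
    infer_instance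
  · rw [hcompl]
    haveI := hq1e t
    haveI := hφfp t
    infer_instance
  · refine ⟨t, ?_⟩
    rw [hcompl]
    obtain ⟨y, hy⟩ := hφs t
    obtain ⟨z, hz⟩ := (hq1s t).surj y
    exact ⟨z, by rw [Scheme.Hom.comp_apply, hz, hy]⟩

end Groth.Agent.Lib.Helper46.FppfLiftSp
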