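import Mathlib
import Groth.Prelude.Def_Desc
import Groth.Agent.S0117
import Groth.Agent.Lib.Helper81.EtDescent
import Groth.Agent.Lib.Helper5.DescCover
import Groth.Agent.Lib.Helper5.DescGlue
import Groth.Agent.Lib.Helper5.DescQAffHom
import Groth.Agent.Lib.Helper5.DescProps

/-!
# Descent of étale schemes along faithfully flat quasi-compact radicial morphisms (helper46)

For `p : X ⟶ S` universally injective, every étale `X`-scheme carries a unique descent datum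
relative to `p` (the diagonal of `p` is a surjective closed immersion, and the étale site is
insensitive to those, `S0117`).  For `p` moreover fpqc, all these descent data are effective.
-/

set_option autoImplicit false
universe u
open CategoryTheory CategoryTheory.Limits AlgebraicGeometry Desc Opposite

namespace Groth.Agent.Lib.Helper46.RadDesc

open Groth.Agent.Lib.Helper5.DescPull Groth.Agent.Lib.Helper5.DescFunctor
  Groth.Agent.Lib.Helper5.AffCore Groth.Agent.Lib.Helper81.EtDescent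

set_option linter.style.haveILetI false

variable {X S : Scheme.{u}} {p : X ⟶ S}

section general

lemma φ_eq_self (D : SchDD p) {T : Scheme.{u}} (y y' : T ⟶ X) (e : y = y')
    (h : y ≫ p = y' ≫ p) (w : Lifts D.obj y) : (D.φ y y' h w).1 = w.1 := by
  subst e
  rw [D.φ_self]

/-- The gluing bijections of a descent datum are the identity where the two points agree. -/
lemma φ_rel (D : SchDD p) {T T' : Scheme.{u}} (x₀ x₁ : T ⟶ X) (h : x₀ ≫ p = x₁ ≫ p)
    (v : Lifts D.obj x₀) (r : T' ⟶ T) (hr : r ≫ x₀ = r ≫ x₁) :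
    r ≫ (D.φ x₀ x₁ h v).1 = r ≫ v.1 := by
  have h' : (r ≫ x₀) ≫ p = (r ≫ x₁) ≫ p := by rw [hr]
  have key := D.φ_natural r x₀ x₁ h h' v ⟨r ≫ v.1, by rw [Category.assoc, v.2]⟩ rfl
  rw [← key]
  exact φ_eq_self D _ _ hr h' _

end general

section eq

variable (p)

/-- The locus where two points of `X` with the same image in `S` agree. -/
noncomputable def Eq {T : Scheme.{u}} (x₀ x₁ : T ⟶ X) (h : x₀ ≫ p = x₁ ≫ p) : Scheme.{u} :=
  pullback (pullback.lift x₀ x₁ h) (pullback.diagonal p)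

/-- The inclusion of the locus where the two points agree. -/
noncomputable def eqι {T : Scheme.{u}} (x₀ x₁ : T ⟶ X) (h : x₀ ≫ p = x₁ ≫ p) :
    Eq p x₀ x₁ h ⟶ T :=
  pullback.fst _ _

/-- The common point on the locus where the two points agree. -/
noncomputable def eqσ {T : Scheme.{u}} (x₀ x₁ : T ⟶ X) (h : x₀ ≫ p = x₁ ≫ p) :
    Eq p x₀ x₁ h ⟶ X :=
  pullback.snd _ _

lemma eqι_cond {T : Scheme.{u}} (x₀ x₁ : T ⟶ X) (h : x₀ ≫ p = x₁ ≫ p) :
    eqι p x₀ x₁ h ≫ pullback.lift x₀ x₁ h = eqσ p x₀ x₁ h ≫ pullback.diagonal p :=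
  pullback.condition

lemma eqι_fst {T : Scheme.{u}} (x₀ x₁ : T ⟶ X) (h : x₀ ≫ p = x₁ ≫ p) :
    eqι p x₀ x₁ h ≫ x₀ = eqσ p x₀ x₁ h := by
  have := congrArg (fun m => m ≫ pullback.fst p p) (eqι_cond p x₀ x₁ h)
  rw [Category.assoc, pullback.lift_fst, Category.assoc, pullback.diagonal_fst,
    Category.comp_id] at this
  exact this

lemma eqι_snd {T : Scheme.{u}} (x₀ x₁ : T ⟶ X) (h : x₀ ≫ p = x₁ ≫ p) :
    eqι p x₀ x₁ h ≫ x₁ = eqσ p x₀ x₁ h := by
  have := congrArg (fun m => m ≫ pullback.snd p p) (eqι_cond p x₀ x₁ h)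
  rw [Category.assoc, pullback.lift_snd, Category.assoc, pullback.diagonal_snd,
    Category.comp_id] at this
  exact this

lemma eqι_comp {T : Scheme.{u}} (x₀ x₁ : T ⟶ X) (h : x₀ ≫ p = x₁ ≫ p) :
    eqι p x₀ x₁ h ≫ x₀ = eqι p x₀ x₁ h ≫ x₁ := by
  rw [eqι_fst, eqι_snd]

lemma surjective_eqι [UniversallyInjective p] {T : Scheme.{u}} (x₀ x₁ : T ⟶ X)
    (h : x₀ ≫ p = x₁ ≫ p) : Surjective (eqι p x₀ x₁ h) := by
  have hd : Surjective (pullback.diagonal p) := (AlgebraicGeometry.UniversallyInjective.iff_diagonal (f := p)).1 inferInstance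
  exact MorphismProperty.pullback_fst (P := @Surjective) _ _ hd

lemma isClosedImmersion_diagonal [UniversallyInjective p] :
    IsClosedImmersion (pullback.diagonal p) := by
  have hd : Surjective (pullback.diagonal p) := (AlgebraicGeometry.UniversallyInjective.iff_diagonal (f := p)).1 inferInstance
  apply IsClosedImmersion.of_isPreimmersion
  rw [Set.range_eq_univ.mpr hd.surj]
  exact isClosed_univ

lemma isClosedImmersion_eqι [UniversallyInjective p] {T : Scheme.{u}} (x₀ x₁ : T ⟶ X)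
    (h : x₀ ≫ p = x₁ ≫ p) : IsClosedImmersion (eqι p x₀ x₁ h) := by
  have hd := isClosedImmersion_diagonal p
  exact MorphismProperty.pullback_fst (P := @IsClosedImmersion) _ _ hd

end eq

section exist

variable [UniversallyInjective p] (W : Over X) [Etale W.hom]

/-- Uniqueness of the transported point. -/
theorem rel_unique {T : Scheme.{u}} (x₀ x₁ : T ⟶ X) (h : x₀ ≫ p = x₁ ≫ p)
    (v' v'' : Lifts W x₁) (hv : eqι p x₀ x₁ h ≫ v'.1 = eqι p x₀ x₁ h ≫ v''.1) : v' = v'' := by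
  apply Subtype.ext
  exact eq_of_comp_eq_of_surjective (eqι p x₀ x₁ h) (surjective_eqι p x₀ x₁ h).surj W.hom v'.1 v''.1
    (v'.2.trans v''.2.symm) hv

/-- Existence of the transported point (topological invariance of the étale site). -/
theorem exists_rel {T : Scheme.{u}} (x₀ x₁ : T ⟶ X) (h : x₀ ≫ p = x₁ ≫ p) (v : Lifts W x₀) :
    ∃ v' : Lifts W x₁, eqι p x₀ x₁ h ≫ v'.1 = eqι p x₀ x₁ h ≫ v.1 := by
  obtain ⟨i, hi⟩ : ∃ i : Eq p x₀ x₁ h ⟶ T, i = eqι p x₀ x₁ h := ⟨_, rfl⟩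
  haveI : IsClosedImmersion i := by rw [hi]; exact isClosedImmersion_eqι p x₀ x₁ h
  haveI : Surjective i := by rw [hi]; exact surjective_eqι p x₀ x₁ h
  have hix : i ≫ x₀ = i ≫ x₁ := by rw [hi]; exact eqι_comp p x₀ x₁ h
  rw [← hi]
  let XT : Over T := Over.mk (pullback.snd W.hom x₁)
  haveI : Etale XT.hom := inferInstanceAs (Etale (pullback.snd W.hom x₁))
  let YT : Over T := Over.mk (𝟙 T)
  have hbij := Groth.Agent.S0117.result i XT YT
  obtain ⟨s, hs⟩ : ∃ s : pullback (𝟙 T) i ⟶ Eq p x₀ x₁ h, s = pullback.snd (𝟙 T) i := ⟨_, rfl⟩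
  haveI : IsIso s := by rw [hs]; infer_instance
  have hfs : pullback.fst (𝟙 T) i = s ≫ i := by
    rw [hs, ← pullback.condition, Category.comp_id]
  let a : pullback (𝟙 T) i ⟶ pullback W.hom x₁ :=
    pullback.lift (s ≫ i ≫ v.1) (s ≫ i) (by
      rw [Category.assoc, Category.assoc, v.2, hix, Category.assoc])
  let ψl : pullback (𝟙 T) i ⟶ pullback (pullback.snd W.hom x₁) i :=
    pullback.lift a s (by rw [pullback.lift_snd])
  let ψ : (Over.pullback i).obj YT ⟶ (Over.pullback i).obj XT :=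
    Over.homMk ψl (by
      change ψl ≫ pullback.snd (pullback.snd W.hom x₁) i = pullback.snd (𝟙 T) i
      rw [pullback.lift_snd, hs])
  obtain ⟨φ, hφ⟩ := hbij.2 ψ
  obtain ⟨f, hf⟩ : ∃ f : T ⟶ pullback W.hom x₁, f = φ.left := ⟨_, rfl⟩
  have hf1 : f ≫ pullback.snd W.hom x₁ = 𝟙 T := by rw [hf]; exact Over.w φ
  have hφ' := congrArg (fun m => m.left ≫ pullback.fst (pullback.snd W.hom x₁) i) hφ
  have e1 : pullback.fst (𝟙 T) i ≫ f = a := by
    have e2 : ((Over.pullback i).map φ).left ≫ pullback.fst (pullback.snd W.hom x₁) i =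
        pullback.fst (𝟙 T) i ≫ f := by
      rw [hf]
      exact pullback.lift_fst _ _ _
    have e3 : ψ.left ≫ pullback.fst (pullback.snd W.hom x₁) i = a := pullback.lift_fst _ _ _
    exact e2.symm.trans (hφ'.trans e3)
  refine ⟨⟨f ≫ pullback.fst W.hom x₁, ?_⟩, ?_⟩
  · rw [Category.assoc, pullback.condition, ← Category.assoc, hf1, Category.id_comp]
  · change i ≫ f ≫ pullback.fst W.hom x₁ = i ≫ v.1
    rw [← cancel_epi s]
    calc s ≫ i ≫ f ≫ pullback.fst W.hom x₁ = (s ≫ i) ≫ f ≫ pullback.fst W.hom x₁ := by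
          rw [Category.assoc]
      _ = pullback.fst (𝟙 T) i ≫ f ≫ pullback.fst W.hom x₁ := by rw [hfs]
      _ = a ≫ pullback.fst W.hom x₁ := by rw [← Category.assoc, e1]
      _ = s ≫ i ≫ v.1 := pullback.lift_fst _ _ _

end exist


section radDD

variable [UniversallyInjective p] (W : Over X) [Etale W.hom]

/-- Transport of points along the unique descent datum. -/
noncomputable def tr {T : Scheme.{u}} (x₀ x₁ : T ⟶ X) (h : x₀ ≫ p = x₁ ≫ p) (v : Lifts W x₀) :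
    Lifts W x₁ := Classical.choose (exists_rel W x₀ x₁ h v)

lemma tr_spec {T : Scheme.{u}} (x₀ x₁ : T ⟶ X) (h : x₀ ≫ p = x₁ ≫ p) (v : Lifts W x₀) :
    eqι p x₀ x₁ h ≫ (tr W x₀ x₁ h v).1 = eqι p x₀ x₁ h ≫ v.1 :=
  Classical.choose_spec (exists_rel W x₀ x₁ h v)

lemma tr_unique {T : Scheme.{u}} (x₀ x₁ : T ⟶ X) (h : x₀ ≫ p = x₁ ≫ p) (v : Lifts W x₀)
    (v' : Lifts W x₁) (hv' : eqι p x₀ x₁ h ≫ v'.1 = eqι p x₀ x₁ h ≫ v.1) :
    v' = tr W x₀ x₁ h v :=
  rel_unique W x₀ x₁ h _ _ (hv'.trans (tr_spec W x₀ x₁ h v).symm)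

omit [UniversallyInjective p] [Etale W.hom] in
/-- Every morphism equalizing the two points factors through the locus where they agree. -/
lemma exists_eqLift {T T' : Scheme.{u}} (x₀ x₁ : T ⟶ X) (h : x₀ ≫ p = x₁ ≫ p) (r : T' ⟶ T)
    (hr : r ≫ x₀ = r ≫ x₁) : ∃ l : T' ⟶ Eq p x₀ x₁ h, l ≫ eqι p x₀ x₁ h = r := by
  refine ⟨pullback.lift r (r ≫ x₀) ?_, pullback.lift_fst _ _ _⟩
  apply pullback.hom_ext
  · rw [Category.assoc, pullback.lift_fst, Category.assoc, pullback.diagonal_fst, Category.comp_id]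
  · rw [Category.assoc, pullback.lift_snd, Category.assoc, pullback.diagonal_snd, Category.comp_id,
      hr]

lemma tr_rel {T T' : Scheme.{u}} (x₀ x₁ : T ⟶ X) (h : x₀ ≫ p = x₁ ≫ p) (v : Lifts W x₀)
    (r : T' ⟶ T) (hr : r ≫ x₀ = r ≫ x₁) : r ≫ (tr W x₀ x₁ h v).1 = r ≫ v.1 := by
  obtain ⟨l, rfl⟩ := exists_eqLift x₀ x₁ h r hr
  rw [Category.assoc, Category.assoc, tr_spec]

lemma tr_natural {T T' : Scheme.{u}} (g : T' ⟶ T) (x₀ x₁ : T ⟶ X) (h : x₀ ≫ p = x₁ ≫ p)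
    (h' : (g ≫ x₀) ≫ p = (g ≫ x₁) ≫ p) (v : Lifts W x₀) (v' : Lifts W (g ≫ x₀))
    (hv : v'.1 = g ≫ v.1) : (tr W (g ≫ x₀) (g ≫ x₁) h' v').1 = g ≫ (tr W x₀ x₁ h v).1 := by
  have key := tr_unique W (g ≫ x₀) (g ≫ x₁) h' v' ⟨g ≫ (tr W x₀ x₁ h v).1, by
    rw [Category.assoc, (tr W x₀ x₁ h v).2]⟩ (by
      change eqι p (g ≫ x₀) (g ≫ x₁) h' ≫ g ≫ (tr W x₀ x₁ h v).1 = _
      rw [hv, ← Category.assoc, ← Category.assoc]
      apply tr_rel
      rw [Category.assoc, Category.assoc]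
      exact eqι_comp p (g ≫ x₀) (g ≫ x₁) h')
  exact (congrArg Subtype.val key).symm

lemma tr_self {T : Scheme.{u}} (x : T ⟶ X) (v : Lifts W x) : tr (p := p) W x x rfl v = v :=
  (tr_unique (p := p) W x x rfl v v rfl).symm

lemma tr_comp {T : Scheme.{u}} (x₀ x₁ x₂ : T ⟶ X) (h₀₁ : x₀ ≫ p = x₁ ≫ p)
    (h₁₂ : x₁ ≫ p = x₂ ≫ p) (v : Lifts W x₀) :
    tr W x₁ x₂ h₁₂ (tr W x₀ x₁ h₀₁ v) = tr W x₀ x₂ (h₀₁.trans h₁₂) v := by
  apply Subtype.ext
  obtain ⟨a, ha⟩ : ∃ a : pullback (eqι p x₀ x₁ h₀₁) (eqι p x₁ x₂ h₁₂) ⟶ Eq p x₀ x₁ h₀₁,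
    a = pullback.fst _ _ := ⟨_, rfl⟩
  obtain ⟨b, hb⟩ : ∃ b : pullback (eqι p x₀ x₁ h₀₁) (eqι p x₁ x₂ h₁₂) ⟶ Eq p x₁ x₂ h₁₂,
    b = pullback.snd _ _ := ⟨_, rfl⟩
  have hab : a ≫ eqι p x₀ x₁ h₀₁ = b ≫ eqι p x₁ x₂ h₁₂ := by
    rw [ha, hb]; exact pullback.condition
  haveI : Surjective (eqι p x₀ x₁ h₀₁) := surjective_eqι p x₀ x₁ h₀₁
  haveI : Surjective (eqι p x₁ x₂ h₁₂) := surjective_eqι p x₁ x₂ h₁₂
  haveI : Surjective a := by rw [ha]; infer_instance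
  have hπ : Surjective (a ≫ eqι p x₀ x₁ h₀₁) := inferInstance
  have hπ02 : (a ≫ eqι p x₀ x₁ h₀₁) ≫ x₀ = (a ≫ eqι p x₀ x₁ h₀₁) ≫ x₂ := by
    rw [Category.assoc, eqι_comp, ← Category.assoc, hab, Category.assoc, eqι_comp,
      Category.assoc]
  refine eq_of_comp_eq_of_surjective (a ≫ eqι p x₀ x₁ h₀₁) hπ.surj W.hom _ _
    ((tr W x₁ x₂ h₁₂ (tr W x₀ x₁ h₀₁ v)).2.trans (tr W x₀ x₂ (h₀₁.trans h₁₂) v).2.symm) ?_
  rw [tr_rel W x₀ x₂ (h₀₁.trans h₁₂) v _ hπ02, hab, Category.assoc, tr_spec, ← Category.assoc,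
    ← hab, Category.assoc, tr_spec, Category.assoc]

/-- The unique descent datum on an étale `X`-scheme relative to a universally injective `p`. -/
noncomputable def radDD : SchDD p where
  obj := W
  φ T x₀ x₁ h :=
    { toFun := tr W x₀ x₁ h
      invFun := tr W x₁ x₀ h.symm
      left_inv := fun v => (tr_comp W x₀ x₁ x₀ h h.symm v).trans (tr_self W x₀ v)
      right_inv := fun v => (tr_comp W x₁ x₀ x₁ h.symm h v).trans (tr_self W x₁ v) }
  φ_natural T T' g x₀ x₁ h h' v v' hv := tr_natural W g x₀ x₁ h h' v v' hv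
  φ_self T x v := tr_self W x v
  φ_comp T x₀ x₁ x₂ h₀₁ h₁₂ v := tr_comp W x₀ x₁ x₂ h₀₁ h₁₂ v

@[simp] lemma radDD_obj : (radDD (p := p) W).obj = W := rfl

end radDD

section comm

variable [UniversallyInjective p]

/-- Every morphism over `X` into an étale `X`-scheme is compatible with the descent data. -/
theorem comm_of_etale (D₁ D₂ : SchDD p) [Etale D₂.obj.hom] (f : D₁.obj ⟶ D₂.obj)
    ⦃T : Scheme.{u}⦄ (x₀ x₁ : T ⟶ X) (h : x₀ ≫ p = x₁ ≫ p) (v : Lifts D₁.obj x₀)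
    (w : Lifts D₂.obj x₀) (hw : w.1 = v.1 ≫ f.left) :
    (D₂.φ x₀ x₁ h w).1 = (D₁.φ x₀ x₁ h v).1 ≫ f.left := by
  refine eq_of_comp_eq_of_surjective (eqι p x₀ x₁ h) (surjective_eqι p x₀ x₁ h).surj D₂.obj.hom _ _
    ?_ ?_
  · rw [(D₂.φ x₀ x₁ h w).2, Category.assoc, Over.w f, (D₁.φ x₀ x₁ h v).2]
  · have e1 := φ_rel D₂ x₀ x₁ h w _ (eqι_comp p x₀ x₁ h)
    have e2 := φ_rel D₁ x₀ x₁ h v _ (eqι_comp p x₀ x₁ h)
    calc eqι p x₀ x₁ h ≫ (D₂.φ x₀ x₁ h w).1 = eqι p x₀ x₁ h ≫ w.1 := e1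
      _ = (eqι p x₀ x₁ h ≫ v.1) ≫ f.left := by rw [hw, Category.assoc]
      _ = (eqι p x₀ x₁ h ≫ (D₁.φ x₀ x₁ h v).1) ≫ f.left := by rw [e2]
      _ = eqι p x₀ x₁ h ≫ (D₁.φ x₀ x₁ h v).1 ≫ f.left := Category.assoc _ _ _

/-- Morphisms of étale descent data are just morphisms over `X`. -/
def homOfEtale (D₁ D₂ : SchDD p) [Etale D₂.obj.hom] (f : D₁.obj ⟶ D₂.obj) : D₁ ⟶ D₂ :=
  ⟨f, comm_of_etale D₁ D₂ f⟩

end comm

section effective

variable [Surjective p] [Flat p] [QuasiCompact p] [UniversallyInjective p]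

lemma isSeparated_of_universallyInjective (p : X ⟶ S) [UniversallyInjective p] : IsSeparated p :=
  ⟨isClosedImmersion_diagonal p⟩

/-- Effectiveness over an affine base. -/
theorem effective_of_isAffine_base [IsAffine S] (D : SchDD p) [Etale D.obj.hom] :
    ∃ U : Over S, Nonempty ((toDD p).obj U ≅ D) := by
  haveI : IsSeparated p := isSeparated_of_universallyInjective p
  apply effective_of_open_cover D
  intro v
  obtain ⟨_, ⟨(O : D.obj.left.Opens), hO, rfl⟩, hv, -⟩ :=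
    D.obj.left.isBasis_affineOpens.exists_subset_of_mem_open (Set.mem_univ v) isOpen_univ
  haveI : IsAffine (O : Scheme.{u}) := hO
  let WO : Over X := Over.mk (O.ι ≫ D.obj.hom)
  haveI : Etale WO.hom := inferInstanceAs (Etale (O.ι ≫ D.obj.hom))
  let j : radDD (p := p) WO ⟶ D := homOfEtale (radDD WO) D (Over.homMk O.ι rfl)
  haveI : IsAffineHom ((O.ι ≫ D.obj.hom) ≫ p) := inferInstance
  haveI : IsAffineHom (O.ι ≫ D.obj.hom) := IsAffineHom.of_comp (O.ι ≫ D.obj.hom) p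
  have hq : Mor2.IsQuasiAffine (radDD (p := p) WO).obj.hom :=
    Groth.Agent.Lib.Helper7.QA.QAffHom_of_isAffineHom (O.ι ≫ D.obj.hom)
  obtain ⟨U, hU⟩ :=
    Groth.Agent.Lib.Helper5.DescQAffHom.effective_of_isQuasiAffine p (radDD WO) hq
  refine ⟨radDD WO, j, inferInstanceAs (IsOpenImmersion O.ι), ?_, U, hU⟩
  change v ∈ Set.range O.ι.base
  rw [Scheme.Opens.range_ι]
  exact hv

/-- **Theorem R**: every descent datum on an étale scheme relative to a faithfully flat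
quasi-compact radicial morphism is effective. -/
theorem effective_of_radicial (D : SchDD p) [Etale D.obj.hom] :
    ∃ U : Over S, Nonempty ((toDD p).obj U ≅ D) := by
  apply effective_of_open_cover D
  intro v
  obtain ⟨_, ⟨(S₁ : S.Opens), hS₁, rfl⟩, hs₀, -⟩ := S.isBasis_affineOpens.exists_subset_of_mem_open
    (Set.mem_univ (p.base (D.obj.hom.base v))) isOpen_univ
  haveI : IsAffine (S₁ : Scheme.{u}) := hS₁
  have hsq : IsPullback (p ⁻¹ᵁ S₁).ι (p ∣_ S₁) p S₁.ι := (isPullback_morphismRestrict p S₁).flip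
  have w : (p ⁻¹ᵁ S₁).ι ≫ p = (p ∣_ S₁) ≫ S₁.ι := hsq.w
  haveI : Flat (p ∣_ S₁) := MorphismProperty.of_isPullback hsq ‹Flat p›
  haveI : Surjective (p ∣_ S₁) := MorphismProperty.of_isPullback hsq ‹Surjective p›
  haveI : QuasiCompact (p ∣_ S₁) := MorphismProperty.of_isPullback hsq ‹QuasiCompact p›
  haveI : UniversallyInjective (p ∣_ S₁) :=
    MorphismProperty.of_isPullback hsq ‹UniversallyInjective p›
  let D₁ : SchDD (p ∣_ S₁) := pullDD S₁.ι (p ⁻¹ᵁ S₁).ι w D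
  haveI : Etale D₁.obj.hom :=
    inferInstanceAs (Etale (pullback.snd D.obj.hom (p ⁻¹ᵁ S₁).ι))
  obtain ⟨U₁, ⟨θ₁⟩⟩ := effective_of_isAffine_base (p := p ∣_ S₁) D₁
  refine ⟨(toDD p).obj (Over.mk (bcSec D hsq U₁ θ₁).t), (bcSec D hsq U₁ θ₁).a, inferInstance, ?_,
    Over.mk (bcSec D hsq U₁ θ₁).t, ⟨Iso.refl _⟩⟩
  apply mem_range_bcSec
  rw [Scheme.Opens.range_ι]
  exact hs₀

end effective

end Groth.Agent.Lib.Helper46.RadDesc
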