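import Mathlib
import Groth.Prelude.Def_FEt
import Groth.Agent.S0084
import Groth.Agent.Lib.Helper46.RadDesc

/-!
# Finite étale covers and faithfully flat quasi-compact radicial base change (helper46)
-/

set_option autoImplicit false
set_option linter.style.haveILetI false
universe u
open CategoryTheory CategoryTheory.Limits AlgebraicGeometry Desc Opposite

namespace Groth.Agent.Lib.Helper46.RadFEt

open Groth.Agent.Lib.Helper46.RadDesc Groth.Agent.Lib.Helper81.EtDescent

theorem restrict_map_left {S S' : Scheme.{u}} (g : S' ⟶ S) {A B : FEt.Cat S} (a : A ⟶ B) :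
    ((FEt.restrict g).map a).left ≫ pullback.fst B.hom g = pullback.fst A.hom g ≫ a.left := by
  dsimp [FEt.restrict]
  exact pullback.lift_fst _ _ _

theorem faithful_restrict {S S' : Scheme.{u}} (g : S' ⟶ S) [Flat g] [Surjective g] :
    (FEt.restrict g).Faithful := by
  constructor
  intro A B a b h
  apply MorphismProperty.Over.Hom.ext
  haveI : Epi (pullback.fst A.hom g) := Flat.epi_of_flat_of_surjective _
  rw [← cancel_epi (pullback.fst A.hom g), ← restrict_map_left, ← restrict_map_left, h]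

theorem full_restrict {S S' : Scheme.{u}} (g : S' ⟶ S) [Flat g] [Surjective g] [QuasiCompact g]
    [UniversallyInjective g] : (FEt.restrict g).Full := by
  constructor
  intro A B h
  obtain ⟨hl, hhl⟩ : ∃ hl : pullback A.hom g ⟶ pullback B.hom g, hl = h.left := ⟨_, rfl⟩
  have hw : hl ≫ pullback.snd B.hom g = pullback.snd A.hom g := by
    rw [hhl]; exact MorphismProperty.Over.w h
  obtain ⟨pr, hpr⟩ : ∃ pr : pullback A.hom g ⟶ A.left, pr = pullback.fst A.hom g := ⟨_, rfl⟩
  haveI : Flat pr := by rw [hpr]; infer_instance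
  haveI : Surjective pr := by rw [hpr]; infer_instance
  haveI : QuasiCompact pr := by rw [hpr]; infer_instance
  haveI : EffectiveEpi pr := inferInstance
  haveI : Epi pr := Flat.epi_of_flat_of_surjective _
  obtain ⟨F, hF⟩ : ∃ F : pullback A.hom g ⟶ B.left, F = hl ≫ pullback.fst B.hom g := ⟨_, rfl⟩
  have hFB : F ≫ B.hom = pr ≫ A.hom := by
    rw [hF, Category.assoc, pullback.condition, ← Category.assoc, hw, hpr, pullback.condition]
  haveI : Etale B.hom := B.prop.2
  have hcoc : ∀ {Z : Scheme.{u}} (g₁ g₂ : Z ⟶ pullback A.hom g), g₁ ≫ pr = g₂ ≫ pr →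
      g₁ ≫ F = g₂ ≫ F := by
    intro Z g₁ g₂ hg
    have hx : (g₁ ≫ pullback.snd A.hom g) ≫ g = (g₂ ≫ pullback.snd A.hom g) ≫ g := by
      rw [Category.assoc, Category.assoc, ← pullback.condition, ← hpr, ← Category.assoc,
        ← Category.assoc, hg]
    have hsurj := surjective_eqι g _ _ hx
    refine eq_of_comp_eq_of_surjective (eqι g _ _ hx) hsurj.surj B.hom _ _ ?_ ?_
    · rw [Category.assoc, Category.assoc, hFB, ← Category.assoc, ← Category.assoc, hg]
    · have e : eqι g _ _ hx ≫ g₁ = eqι g _ _ hx ≫ g₂ := by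
        apply pullback.hom_ext
        · rw [Category.assoc, Category.assoc, ← hpr, hg]
        · rw [Category.assoc, Category.assoc]
          exact eqι_comp g _ _ hx
      rw [← Category.assoc, ← Category.assoc, e]
  obtain ⟨a₀, ha₀⟩ : ∃ a₀ : A.left ⟶ B.left, pr ≫ a₀ = F :=
    ⟨EffectiveEpi.desc pr F (fun g₁ g₂ hg => hcoc g₁ g₂ hg), EffectiveEpi.fac _ _ _⟩
  have ha₀B : a₀ ≫ B.hom = A.hom := by
    rw [← cancel_epi pr, ← Category.assoc, ha₀, hFB]
  refine ⟨MorphismProperty.Over.homMk a₀ ha₀B, ?_⟩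
  apply MorphismProperty.Over.Hom.ext
  change ((FEt.restrict g).map (MorphismProperty.Over.homMk a₀ ha₀B)).left = h.left
  rw [← hhl]
  apply pullback.hom_ext
  · have e : pullback.fst A.hom g ≫ a₀ = hl ≫ pullback.fst B.hom g := by rw [← hpr, ha₀, hF]
    exact (restrict_map_left g (MorphismProperty.Over.homMk a₀ ha₀B)).trans e
  · exact (MorphismProperty.Over.w
      ((FEt.restrict g).map (MorphismProperty.Over.homMk a₀ ha₀B))).trans hw.symm

theorem essSurj_restrict {S S' : Scheme.{u}} (g : S' ⟶ S) [Flat g] [Surjective g] [QuasiCompact g]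
    [UniversallyInjective g] : (FEt.restrict g).EssSurj := by
  constructor
  intro W'
  haveI : Etale W'.hom := W'.prop.2
  haveI : IsFinite W'.hom := W'.prop.1
  let WO : Over S' := Over.mk W'.hom
  haveI : Etale WO.hom := inferInstanceAs (Etale W'.hom)
  haveI : Etale (radDD (p := g) WO).obj.hom := inferInstanceAs (Etale W'.hom)
  obtain ⟨U, ⟨κ⟩⟩ := effective_of_radicial (p := g) (radDD WO)
  have hUet : Etale U.hom :=
    Groth.Agent.Lib.Helper5.DescProps.of_iso_toDD @Etale κ (inferInstanceAs (Etale W'.hom))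
  haveI := Groth.Agent.S0084.result.{u}
  have hUfin : IsFinite U.hom :=
    Groth.Agent.Lib.Helper5.DescProps.of_iso_toDD @IsFinite κ (inferInstanceAs (IsFinite W'.hom))
  obtain ⟨k, hk⟩ : ∃ k : pullback g U.hom ⟶ W'.left, k = κ.hom.hom.left := ⟨_, rfl⟩
  haveI : IsIso k := by rw [hk]; exact Groth.Agent.Lib.Helper5.DescProps.isIso_hom_left κ
  have hk1 : k ≫ W'.hom = pullback.fst g U.hom := by rw [hk]; exact Over.w κ.hom.hom
  refine ⟨MorphismProperty.Over.mk ⊤ U.hom ⟨hUfin, hUet⟩, ⟨?_⟩⟩
  refine MorphismProperty.Over.isoMk (pullbackSymmetry U.hom g ≪≫ asIso k) ?_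
  change ((pullbackSymmetry U.hom g).hom ≫ k) ≫ W'.hom = pullback.snd U.hom g
  rw [Category.assoc, hk1, pullbackSymmetry_hom_comp_fst]

/-- Pulling back finite étale covers along a faithfully flat quasi-compact radicial morphism is an
equivalence. -/
theorem restrict_isEquivalence {S S' : Scheme.{u}} (g : S' ⟶ S) [Flat g] [Surjective g]
    [QuasiCompact g] [UniversallyInjective g] : (FEt.restrict g).IsEquivalence :=
  ⟨faithful_restrict g, full_restrict g, essSurj_restrict g⟩

end Groth.Agent.Lib.Helper46.RadFEt
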