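import Mathlib
import Groth.Prelude.Def_FEt
import Groth.Agent.Lib.Helper46.RadFEt
import Groth.Agent.Lib.Helper50.FinSubLim
import Groth.Agent.Lib.Helper50.LimBC
import Groth.Agent.Lib.Helper50.Descent9
import Groth.Agent.Lib.Helper50.Descent12

/-!
# Finite étale covers of `X ×_k k̄` sit inside base changes of covers of `X` (helper46)
-/

set_option autoImplicit false
set_option linter.style.haveILetI false
universe u
open CategoryTheory CategoryTheory.Limits AlgebraicGeometry

namespace Groth.Agent.Lib.Helper46.GeomCover

/-- If `W = Y ×_T Z` and the diagonal of `i : T ⟶ S` is an open and closed immersion, then the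
canonical map `W ⟶ Y ×_S Z` is an open and closed immersion. -/
theorem clopen_of_isPullback {S T Y Z W : Scheme.{u}} (i : T ⟶ S)
    [IsOpenImmersion (pullback.diagonal i)] [IsClosedImmersion (pullback.diagonal i)]
    (gT : Y ⟶ T) (t : Z ⟶ T) (pa : Z ⟶ S) (hpa : t ≫ i = pa) (φ : W ⟶ Y) (w : W ⟶ Z)
    (hsq : IsPullback φ w gT t) (ι : W ⟶ pullback (gT ≫ i) pa)
    (h1 : ι ≫ pullback.fst (gT ≫ i) pa = φ) (h2 : ι ≫ pullback.snd (gT ≫ i) pa = w) :
    IsOpenImmersion ι ∧ IsClosedImmersion ι := by
  subst hpa
  have hm := pullback_map_diagonal_isPullback gT t i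
  have ho : IsOpenImmersion (pullback.map gT t (gT ≫ i) (t ≫ i) (𝟙 _) (𝟙 _) i
      (Category.id_comp _).symm (Category.id_comp _).symm) :=
    MorphismProperty.of_isPullback (P := @IsOpenImmersion) hm inferInstance
  have hc : IsClosedImmersion (pullback.map gT t (gT ≫ i) (t ≫ i) (𝟙 _) (𝟙 _) i
      (Category.id_comp _).symm (Category.id_comp _).symm) :=
    MorphismProperty.of_isPullback (P := @IsClosedImmersion) hm inferInstance
  have hι : ι = hsq.isoPullback.hom ≫ pullback.map gT t (gT ≫ i) (t ≫ i) (𝟙 _) (𝟙 _) i
      (Category.id_comp _).symm (Category.id_comp _).symm := by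
    apply pullback.hom_ext
    · rw [h1, Category.assoc, pullback.lift_fst, Category.comp_id, IsPullback.isoPullback_hom_fst]
    · rw [h2, Category.assoc, pullback.lift_snd, Category.comp_id, IsPullback.isoPullback_hom_snd]
  rw [hι]
  exact ⟨inferInstance, inferInstance⟩

/-- `Spec` of a purely inseparable field extension is universally injective. -/
theorem universallyInjective_of_isPurelyInseparable (F E : Type u) [Field F] [Field E]
    [Algebra F E] [IsPurelyInseparable F E] :
    UniversallyInjective (Spec.map (CommRingCat.ofHom (algebraMap F E))) := by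
  refine ((tfae_universallyInjective
    (f := Spec.map (CommRingCat.ofHom (algebraMap F E)))).out 0 1).mpr ?_
  intro M _ g₁ g₂ hg
  dsimp only at hg
  obtain ⟨φ₁, rfl⟩ := Spec.map_surjective g₁
  obtain ⟨φ₂, rfl⟩ := Spec.map_surjective g₂
  rw [← Spec.map_comp, ← Spec.map_comp] at hg
  have hφ := Spec.map_injective hg
  congr 1
  ext x
  have h := IsPurelyInseparable.injective_comp_algebraMap F E M
    (a₁ := φ₁.hom) (a₂ := φ₂.hom) (by
      ext y
      exact congrArg (fun ψ => ψ.hom y) hφ)
  exact congrArg (fun ψ => ψ x) h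

/-- Variant of helper50's `S8230` without surjectivity: a finite étale scheme over `X ×_k k_s`
descends to a finite subextension. -/
theorem descends_finite (k : Type u) [Field k]
    (X : Scheme.{u}) (f : X ⟶ Spec (CommRingCat.of k)) [CompactSpace ↥X] [QuasiSeparatedSpace ↥X]
    (Ybar : Scheme.{u})
    (g : Ybar ⟶ pullback f (Spec.map (CommRingCat.ofHom (algebraMap k (SeparableClosure k)))))
    [IsFinite g] [Etale g] :
    ∃ (L : IntermediateField k (SeparableClosure k)) (_ : FiniteDimensional k ↥L) (YL : Scheme.{u})
      (gL : YL ⟶ pullback f (Spec.map (CommRingCat.ofHom (algebraMap k ↥L)))) (_ : IsFinite gL)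
      (_ : Etale gL)
      (c : pullback f (Spec.map (CommRingCat.ofHom (algebraMap k (SeparableClosure k)))) ⟶
        pullback f (Spec.map (CommRingCat.ofHom (algebraMap k ↥L)))),
      c ≫ pullback.fst f (Spec.map (CommRingCat.ofHom (algebraMap k ↥L))) =
        pullback.fst f (Spec.map (CommRingCat.ofHom (algebraMap k (SeparableClosure k)))) ∧
      c ≫ pullback.snd f (Spec.map (CommRingCat.ofHom (algebraMap k ↥L))) =
        pullback.snd f (Spec.map (CommRingCat.ofHom (algebraMap k (SeparableClosure k)))) ≫
          Spec.map (CommRingCat.ofHom (algebraMap ↥L (SeparableClosure k))) ∧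
      ∃ e : Ybar ⟶ YL, IsPullback e g gL c := by
  open Groth.Agent.Lib.Helper50 Groth.Agent.Lib.Helper50.Descent in
  classical
  have hβ : ∀ {j k' : (FinSub k (SeparableClosure k))ᵒᵖ} (φ : j ⟶ k'),
      (finSpecDiagram k (SeparableClosure k)).map φ ≫ finSpecToBase k (SeparableClosure k) k' =
        finSpecToBase k (SeparableClosure k) j := fun φ ↦ finSpecToBase_comp k _ φ
  let D := bcDiagram (finSpecDiagram k (SeparableClosure k)) (finSpecToBase k (SeparableClosure k))
    hβ f
  have hpb := IsPullback.of_hasPullback f
    (Spec.map (CommRingCat.ofHom (algebraMap k (SeparableClosure k))))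
  let cK := bcCone (finSpecDiagram k (SeparableClosure k)) (finSpecToBase k (SeparableClosure k))
    hβ f (finSpecCone k (SeparableClosure k))
    (Spec.map (CommRingCat.ofHom (algebraMap k (SeparableClosure k))))
    (finSpecCone_π_app_toBase k (SeparableClosure k)) (pullback.fst f _) (pullback.snd f _) hpb.w
  have hcK : Limits.IsLimit cK := by
    letI := @IsCofiltered.isConnected
    exact isLimitBcCone _ _ _ _ _ _ _ _ _ (isLimitFinSpecCone k (SeparableClosure k)) hpb
  have hD1 : ∀ i, CompactSpace (D.obj i) := by
    intro i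
    have : IsAffineHom (pullback.fst f (finSpecToBase k (SeparableClosure k) i)) :=
      MorphismProperty.pullback_fst (P := @IsAffineHom) _ _ (by
        dsimp only [finSpecToBase]; infer_instance)
    change CompactSpace ↥(pullback f (finSpecToBase k (SeparableClosure k) i))
    exact QuasiCompact.compactSpace_of_compactSpace
      (pullback.fst f (finSpecToBase k (SeparableClosure k) i))
  have hD2 : ∀ i, QuasiSeparatedSpace (D.obj i) := by
    intro i
    have : IsAffineHom (pullback.fst f (finSpecToBase k (SeparableClosure k) i)) :=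
      MorphismProperty.pullback_fst (P := @IsAffineHom) _ _ (by
        dsimp only [finSpecToBase]; infer_instance)
    change QuasiSeparatedSpace ↥(pullback f (finSpecToBase k (SeparableClosure k) i))
    exact quasiSeparatedSpace_of_quasiSeparated
      (pullback.fst f (finSpecToBase k (SeparableClosure k) i))
  have hpt1 : CompactSpace cK.pt := by
    have : IsAffineHom (pullback.fst f
        (Spec.map (CommRingCat.ofHom (algebraMap k (SeparableClosure k))))) :=
      MorphismProperty.pullback_fst (P := @IsAffineHom) _ _ inferInstance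
    change CompactSpace ↥(pullback f
        (Spec.map (CommRingCat.ofHom (algebraMap k (SeparableClosure k)))))
    exact QuasiCompact.compactSpace_of_compactSpace (pullback.fst f
        (Spec.map (CommRingCat.ofHom (algebraMap k (SeparableClosure k)))))
  have hpt2 : QuasiSeparatedSpace cK.pt := by
    have : IsAffineHom (pullback.fst f
        (Spec.map (CommRingCat.ofHom (algebraMap k (SeparableClosure k))))) :=
      MorphismProperty.pullback_fst (P := @IsAffineHom) _ _ inferInstance
    change QuasiSeparatedSpace ↥(pullback f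
        (Spec.map (CommRingCat.ofHom (algebraMap k (SeparableClosure k)))))
    exact quasiSeparatedSpace_of_quasiSeparated (pullback.fst f
        (Spec.map (CommRingCat.ofHom (algebraMap k (SeparableClosure k)))))
  let g' : Ybar ⟶ cK.pt := g
  have hg1 : IsFinite g' := ‹IsFinite g›
  have hg2 : Etale g' := ‹Etale g›
  have : CompactSpace Ybar := QuasiCompact.compactSpace_of_compactSpace g'
  have : QuasiSeparatedSpace Ybar := quasiSeparatedSpace_of_quasiSeparated g'
  obtain ⟨i, Xi, fi, q, h1, h2, h3, h4, h5⟩ := exists_descent_with D cK hcK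
    (@IsFinite ⊓ @Etale : MorphismProperty Scheme.{u})
    (fun i₁ X₀ X' f₀ _ _ _ f' qX hX hf ↦ HP_finiteEtale D cK hcK i₁ f₀ f' qX hX hf) g' ⟨hg1, hg2⟩
  have hc1 : cK.π.app i ≫ pullback.fst f (finSpecToBase k (SeparableClosure k) i) =
      pullback.fst f _ :=
    bcConeπ_fst (finSpecDiagram k (SeparableClosure k))
      (finSpecToBase k (SeparableClosure k)) f (finSpecCone k (SeparableClosure k))
      (Spec.map (CommRingCat.ofHom (algebraMap k (SeparableClosure k))))
      (finSpecCone_π_app_toBase k (SeparableClosure k)) (pullback.fst f _) (pullback.snd f _) hpb.w i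
  have hc2 : cK.π.app i ≫ pullback.snd f (finSpecToBase k (SeparableClosure k) i) =
      pullback.snd f _ ≫ Spec.map (CommRingCat.ofHom (algebraMap i.unop.1 (SeparableClosure k))) :=
    bcConeπ_snd (finSpecDiagram k (SeparableClosure k))
      (finSpecToBase k (SeparableClosure k)) f (finSpecCone k (SeparableClosure k))
      (Spec.map (CommRingCat.ofHom (algebraMap k (SeparableClosure k))))
      (finSpecCone_π_app_toBase k (SeparableClosure k)) (pullback.fst f _) (pullback.snd f _) hpb.w i
  exact ⟨i.unop.1, i.unop.2, Xi, fi, h4.1, h4.2, cK.π.app i, hc1, hc2, q, h5⟩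

/-- `Spec` of a finite separable field extension is finite étale. -/
theorem finite_etale_of_finite_separable (k L : Type u) [Field k] [Field L] [Algebra k L]
    [FiniteDimensional k L] [Algebra.IsSeparable k L] :
    IsFinite (Spec.map (CommRingCat.ofHom (algebraMap k L))) ∧
      Etale (Spec.map (CommRingCat.ofHom (algebraMap k L))) := by
  constructor
  · rw [IsFinite.SpecMap_iff]
    change (algebraMap k L).Finite
    exact RingHom.finite_algebraMap.mpr inferInstance
  · rw [HasRingHomProperty.Spec_iff (P := @Etale)]
    change (algebraMap k L).Etale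
    rw [RingHom.etale_algebraMap]
    haveI : Algebra.FormallyEtale k L := Algebra.FormallyEtale.of_isSeparable k L
    haveI : Algebra.FinitePresentation k L := Algebra.FinitePresentation.of_finiteType.mp inferInstance
    exact ⟨inferInstance, inferInstance⟩

/-- Every finite étale cover of `X ×_k k̄` is open and closed in the base change of a finite étale
cover of `X` (for `X` quasi-compact and quasi-separated over the field `k`). -/
theorem main' (k : Type u) [Field k] {X : Scheme.{u}} (f : X ⟶ Spec (CommRingCat.of k))
    [CompactSpace X] [QuasiSeparatedSpace X]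
    (a : Spec (CommRingCat.of (AlgebraicClosure k)) ⟶ Spec (CommRingCat.of k))
    (ha : a = Spec.map (CommRingCat.ofHom (algebraMap k (AlgebraicClosure k))))
    (V : FEt.Cat (pullback f a)) :
    ∃ (U : FEt.Cat X) (ι : V ⟶ (FEt.restrict (pullback.fst f a)).obj U),
      IsOpenImmersion ι.left ∧ IsClosedImmersion ι.left := by
  set b := Spec.map (CommRingCat.ofHom (algebraMap k (SeparableClosure k))) with hb
  set r := Spec.map (CommRingCat.ofHom (algebraMap (SeparableClosure k) (AlgebraicClosure k)))
    with hr
  have hrb : r ≫ b = a := by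
    rw [hr, hb, ha, ← Spec.map_comp, ← CommRingCat.ofHom_comp]
    rfl
  -- properties of r
  have hff : (CommRingCat.ofHom
      (algebraMap (SeparableClosure k) (AlgebraicClosure k))).hom.FaithfullyFlat := by
    change (algebraMap (SeparableClosure k) (AlgebraicClosure k)).FaithfullyFlat
    exact RingHom.faithfullyFlat_algebraMap_iff.mpr inferInstance
  have hfs := (flat_and_surjective_SpecMap_iff _).mpr hff
  haveI : Flat r := hfs.1
  haveI : Surjective r := hfs.2
  haveI : QuasiCompact r := by rw [hr]; infer_instance
  haveI : UniversallyInjective r :=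
    universallyInjective_of_isPurelyInseparable (SeparableClosure k) (AlgebraicClosure k)
  -- the comparison map ρ
  obtain ⟨ρ, hρ1, hρ2⟩ : ∃ ρ : pullback f a ⟶ pullback f b,
      ρ ≫ pullback.fst f b = pullback.fst f a ∧ ρ ≫ pullback.snd f b = pullback.snd f a ≫ r :=
    ⟨pullback.lift (pullback.fst f a) (pullback.snd f a ≫ r)
      (by rw [pullback.condition, Category.assoc, hrb]), pullback.lift_fst _ _ _,
      pullback.lift_snd _ _ _⟩
  have hρ : IsPullback ρ (pullback.snd f a) (pullback.snd f b) r := by
    refine IsPullback.of_right ?_ hρ2 (IsPullback.of_hasPullback f b)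
    rw [hρ1, hrb]
    exact IsPullback.of_hasPullback f a
  haveI : Flat ρ := MorphismProperty.of_isPullback (P := @Flat) hρ.flip inferInstance
  haveI : Surjective ρ := MorphismProperty.of_isPullback (P := @Surjective) hρ.flip inferInstance
  haveI : QuasiCompact ρ :=
    MorphismProperty.of_isPullback (P := @QuasiCompact) hρ.flip inferInstance
  haveI : UniversallyInjective ρ :=
    MorphismProperty.of_isPullback (P := @UniversallyInjective) hρ.flip inferInstance
  haveI := Groth.Agent.Lib.Helper46.RadFEt.restrict_isEquivalence ρ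
  obtain ⟨Vs, ⟨eV⟩⟩ := Functor.EssSurj.mem_essImage (F := FEt.restrict ρ) V
  haveI : IsFinite Vs.hom := Vs.prop.1
  haveI : Etale Vs.hom := Vs.prop.2
  obtain ⟨L, hL, YL, gL, hgL1, hgL2, c, hc1, hc2, e, he⟩ :=
    descends_finite k X f Vs.left Vs.hom
  haveI : IsFinite gL := hgL1
  haveI : Etale gL := hgL2
  haveI : Algebra.IsSeparable k ↥L := Algebra.isSeparable_tower_bot_of_isSeparable k ↥L
    (SeparableClosure k)
  obtain ⟨hfin, het⟩ := finite_etale_of_finite_separable k ↥L
  obtain ⟨i, hi⟩ : ∃ i : pullback f (Spec.map (CommRingCat.ofHom (algebraMap k ↥L))) ⟶ X,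
    i = pullback.fst f (Spec.map (CommRingCat.ofHom (algebraMap k ↥L))) := ⟨_, rfl⟩
  haveI : IsFinite i := by
    rw [hi]; exact MorphismProperty.pullback_fst (P := @IsFinite) f _ hfin
  haveI : Etale i := by
    rw [hi]; exact MorphismProperty.pullback_fst (P := @Etale) f _ het
  rw [← hi] at hc1
  have hpa : (ρ ≫ c) ≫ i = pullback.fst f a := by
    rw [Category.assoc, hc1, hρ1]
  -- the isomorphism of lefts
  obtain ⟨x, hx⟩ : ∃ x : V.left ⟶ pullback Vs.hom ρ, x = eV.inv.left := ⟨_, rfl⟩
  haveI : IsIso x := by
    rw [hx]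
    exact (MorphismProperty.Over.forget FEt.prop ⊤ _ ⋙ CategoryTheory.Over.forget _).map_isIso
      eV.inv
  have hxw : x ≫ pullback.snd Vs.hom ρ = V.hom := by
    rw [hx]; exact MorphismProperty.Over.w eV.inv
  have hA : IsPullback (x ≫ pullback.fst Vs.hom ρ) V.hom Vs.hom ρ := by
    have h0 : IsPullback x V.hom (pullback.snd Vs.hom ρ) (𝟙 _) :=
      IsPullback.of_horiz_isIso ⟨by rw [hxw, Category.comp_id]⟩
    have := h0.paste_horiz (IsPullback.of_hasPullback Vs.hom ρ)
    rwa [Category.id_comp] at this
  have hsq : IsPullback ((x ≫ pullback.fst Vs.hom ρ) ≫ e) V.hom gL (ρ ≫ c) := hA.paste_horiz he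
  have hcomm : ((x ≫ pullback.fst Vs.hom ρ) ≫ e) ≫ (gL ≫ i) = V.hom ≫ pullback.fst f a := by
    rw [← Category.assoc, hsq.w, Category.assoc, hpa]
  let U : FEt.Cat X := MorphismProperty.Over.mk ⊤ (gL ≫ i) ⟨inferInstance, inferInstance⟩
  let ιl : V.left ⟶ ((FEt.restrict (pullback.fst f a)).obj U).left :=
    pullback.lift ((x ≫ pullback.fst Vs.hom ρ) ≫ e) V.hom hcomm
  have hιl : ιl ≫ ((FEt.restrict (pullback.fst f a)).obj U).hom = V.hom :=
    pullback.lift_snd _ _ _
  refine ⟨U, MorphismProperty.Over.homMk ιl hιl trivial, ?_⟩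
  exact clopen_of_isPullback i gL (ρ ≫ c) (pullback.fst f a) hpa _ V.hom hsq ιl
    (pullback.lift_fst _ _ _) (pullback.lift_snd _ _ _)

/-- Every finite étale cover of `X ×_k k̄` is open and closed in the base change of a finite étale
cover of `X` (for `X` quasi-compact and quasi-separated over the field `k`). -/
theorem main (k : Type u) [Field k] {X : Scheme.{u}} (f : X ⟶ Spec (CommRingCat.of k))
    [CompactSpace X] [QuasiSeparatedSpace X]
    (V : FEt.Cat (pullback f (Spec.map (CommRingCat.ofHom (algebraMap k (AlgebraicClosure k)))))) :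
    ∃ (U : FEt.Cat X) (ι : V ⟶ (FEt.restrict (pullback.fst f
        (Spec.map (CommRingCat.ofHom (algebraMap k (AlgebraicClosure k)))))).obj U),
      IsOpenImmersion ι.left ∧ IsClosedImmersion ι.left :=
  main' k f _ rfl V

end Groth.Agent.Lib.Helper46.GeomCover
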