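import Mathlib
import Groth.Prelude.Def_FEt
import Groth.Prelude.Def_Pi1
import Groth.Agent.Lib.Helper46.GeomCover
import Groth.Agent.Lib.Helper69.FEtColim3

/-!
# Covers of `X` split over `k̄` are dominated by covers coming from `k` (helper46)
-/

set_option autoImplicit false
set_option linter.style.haveILetI false
universe u
open CategoryTheory CategoryTheory.Limits AlgebraicGeometry

namespace Groth.Agent.Lib.Helper46.GeomSplit

open Groth.Agent.Lib.Helper46

/-- Sections of finite étale covers descend along faithfully flat quasi-compact radicial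
morphisms. -/
theorem exists_section_of_radicial {S S' : Scheme.{u}} (g : S' ⟶ S) [Flat g] [Surjective g]
    [QuasiCompact g] [UniversallyInjective g] (B : FEt.Cat S) (F : S' ⟶ B.left)
    (hF : F ≫ B.hom = g) :
    ∃ F₀ : S ⟶ B.left, F₀ ≫ B.hom = 𝟙 S ∧ g ≫ F₀ = F := by
  haveI := RadFEt.full_restrict g
  let A : FEt.Cat S := MorphismProperty.Over.mk ⊤ (𝟙 S) ⟨inferInstance, inferInstance⟩
  let hl : ((FEt.restrict g).obj A).left ⟶ ((FEt.restrict g).obj B).left :=
    pullback.lift (pullback.snd (𝟙 S) g ≫ F) (pullback.snd (𝟙 S) g)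
      (by rw [Category.assoc, hF])
  have hlw : hl ≫ ((FEt.restrict g).obj B).hom = ((FEt.restrict g).obj A).hom :=
    pullback.lift_snd _ _ _
  obtain ⟨a₀, ha₀⟩ := (FEt.restrict g).map_surjective
    (MorphismProperty.Over.homMk hl hlw trivial)
  refine ⟨a₀.left, MorphismProperty.Over.w a₀, ?_⟩
  have h1 := RadFEt.restrict_map_left g a₀
  rw [ha₀] at h1
  have h2 : hl ≫ pullback.fst B.hom g = pullback.snd (𝟙 S) g ≫ F := pullback.lift_fst _ _ _
  have h3 : pullback.fst (𝟙 S) g = pullback.snd (𝟙 S) g ≫ g := by
    have := pullback.condition (f := 𝟙 S) (g := g)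
    rwa [Category.comp_id] at this
  haveI : IsIso (pullback.snd (𝟙 S) g) := inferInstance
  rw [← cancel_epi (pullback.snd (𝟙 S) g), ← Category.assoc, ← h3]
  exact h1.symm.trans h2

/-- A finite family of morphisms `F v_i ⟶ U` factors through `F (∐ v)` when `F` preserves finite
coproducts. -/
theorem exists_desc {C D : Type*} [Category C] [Category D] (F : C ⥤ D) {ι : Type u} [Finite ι]
    [HasFiniteCoproducts C] [HasFiniteCoproducts D] [PreservesFiniteCoproducts F]
    (v : ι → C) (U : D) (τ : ∀ i, F.obj (v i) ⟶ U) :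
    ∃ (V : C) (e : F.obj V ⟶ U) (j : ∀ i, F.obj (v i) ⟶ F.obj V), ∀ i, j i ≫ e = τ i := by
  refine ⟨∐ v, (PreservesCoproduct.iso F v).hom ≫ Sigma.desc τ, fun i => F.map (Sigma.ι v i), ?_⟩
  intro i
  have h : F.map (Sigma.ι v i) ≫ (PreservesCoproduct.iso F v).hom =
      Sigma.ι (fun j => F.obj (v j)) i := by
    rw [← cancel_mono (PreservesCoproduct.iso F v).inv, Category.assoc, Iso.hom_inv_id,
      Category.comp_id, PreservesCoproduct.inv_hom, ι_comp_sigmaComparison]
  rw [← Category.assoc, h, Sigma.ι_desc]

/-- The comparison `X ×_k k̄ ⟶ X ×_k k_s` is faithfully flat, quasi-compact and radicial. -/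
theorem exists_rho (k : Type u) [Field k] {X : Scheme.{u}} (f : X ⟶ Spec (CommRingCat.of k))
    (a : Spec (CommRingCat.of (AlgebraicClosure k)) ⟶ Spec (CommRingCat.of k))
    (ha : a = Spec.map (CommRingCat.ofHom (algebraMap k (AlgebraicClosure k)))) :
    ∃ ρ : pullback f a ⟶
        pullback f (Spec.map (CommRingCat.ofHom (algebraMap k (SeparableClosure k)))),
      ρ ≫ pullback.fst f _ = pullback.fst f a ∧ Flat ρ ∧ Surjective ρ ∧ QuasiCompact ρ ∧
        UniversallyInjective ρ := by
  set b := Spec.map (CommRingCat.ofHom (algebraMap k (SeparableClosure k))) with hb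
  set r := Spec.map (CommRingCat.ofHom (algebraMap (SeparableClosure k) (AlgebraicClosure k)))
    with hr
  have hrb : r ≫ b = a := by
    rw [hr, hb, ha, ← Spec.map_comp, ← CommRingCat.ofHom_comp]
    rfl
  have hff : (CommRingCat.ofHom
      (algebraMap (SeparableClosure k) (AlgebraicClosure k))).hom.FaithfullyFlat := by
    change (algebraMap (SeparableClosure k) (AlgebraicClosure k)).FaithfullyFlat
    exact RingHom.faithfullyFlat_algebraMap_iff.mpr inferInstance
  have hfs := (flat_and_surjective_SpecMap_iff _).mpr hff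
  haveI : Flat r := hfs.1
  haveI : Surjective r := hfs.2
  haveI : QuasiCompact r := by rw [hr]; infer_instance
  haveI : UniversallyInjective r :=
    GeomCover.universallyInjective_of_isPurelyInseparable (SeparableClosure k)
      (AlgebraicClosure k)
  obtain ⟨ρ, hρ1, hρ2⟩ : ∃ ρ : pullback f a ⟶ pullback f b,
      ρ ≫ pullback.fst f b = pullback.fst f a ∧ ρ ≫ pullback.snd f b = pullback.snd f a ≫ r :=
    ⟨pullback.lift (pullback.fst f a) (pullback.snd f a ≫ r)
      (by rw [pullback.condition, Category.assoc, hrb]), pullback.lift_fst _ _ _,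
      pullback.lift_snd _ _ _⟩
  have hρ : IsPullback ρ (pullback.snd f a) (pullback.snd f b) r := by
    refine IsPullback.of_right ?_ hρ2 (IsPullback.of_hasPullback f b)
    rw [hρ1, hrb]
    exact IsPullback.of_hasPullback f a
  exact ⟨ρ, hρ1, MorphismProperty.of_isPullback (P := @Flat) hρ.flip inferInstance,
    MorphismProperty.of_isPullback (P := @Surjective) hρ.flip inferInstance,
    MorphismProperty.of_isPullback (P := @QuasiCompact) hρ.flip inferInstance,
    MorphismProperty.of_isPullback (P := @UniversallyInjective) hρ.flip inferInstance⟩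

/-- An `X`-morphism from `X ×_k k_s` to a finite étale `X`-scheme is defined over a finite
subextension. -/
theorem exists_finite_level_sep (k : Type u) [Field k] {X : Scheme.{u}}
    (f : X ⟶ Spec (CommRingCat.of k)) [CompactSpace X] [QuasiSeparatedSpace X] (U : FEt.Cat X)
    (σ : pullback f (Spec.map (CommRingCat.ofHom (algebraMap k (SeparableClosure k)))) ⟶ U.left)
    (hσ : σ ≫ U.hom = pullback.fst f _) :
    ∃ (L : IntermediateField k (SeparableClosure k)) (_ : FiniteDimensional k ↥L)
      (τ : pullback f (Spec.map (CommRingCat.ofHom (algebraMap k ↥L))) ⟶ U.left),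
      τ ≫ U.hom = pullback.fst f _ ∧ Set.range σ.base ⊆ Set.range τ.base := by
  open Groth.Agent.Lib.Helper50 in
  classical
  have hβ : ∀ {j k' : (FinSub k (SeparableClosure k))ᵒᵖ} (φ : j ⟶ k'),
      (finSpecDiagram k (SeparableClosure k)).map φ ≫ finSpecToBase k (SeparableClosure k) k' =
        finSpecToBase k (SeparableClosure k) j := fun φ ↦ finSpecToBase_comp k _ φ
  let D := bcDiagram (finSpecDiagram k (SeparableClosure k)) (finSpecToBase k (SeparableClosure k))
    hβ f
  have hpb := IsPullback.of_hasPullback f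
    (Spec.map (CommRingCat.ofHom (algebraMap k (SeparableClosure k))))
  let cK := bcCone (finSpecDiagram k (SeparableClosure k)) (finSpecToBase k (SeparableClosure k))
    hβ f (finSpecCone k (SeparableClosure k))
    (Spec.map (CommRingCat.ofHom (algebraMap k (SeparableClosure k))))
    (finSpecCone_π_app_toBase k (SeparableClosure k)) (pullback.fst f _) (pullback.snd f _) hpb.w
  have hcK : Limits.IsLimit cK := by
    letI := @IsCofiltered.isConnected
    exact isLimitBcCone _ _ _ _ _ _ _ _ _ (isLimitFinSpecCone k (SeparableClosure k)) hpb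
  have hD1 : ∀ i, CompactSpace (D.obj i) := by
    intro i
    have : IsAffineHom (pullback.fst f (finSpecToBase k (SeparableClosure k) i)) :=
      MorphismProperty.pullback_fst (P := @IsAffineHom) _ _ (by
        dsimp only [finSpecToBase]; infer_instance)
    change CompactSpace ↥(pullback f (finSpecToBase k (SeparableClosure k) i))
    exact QuasiCompact.compactSpace_of_compactSpace
      (pullback.fst f (finSpecToBase k (SeparableClosure k) i))
  have hD2 : ∀ i, QuasiSeparatedSpace (D.obj i) := by
    intro i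
    have : IsAffineHom (pullback.fst f (finSpecToBase k (SeparableClosure k) i)) :=
      MorphismProperty.pullback_fst (P := @IsAffineHom) _ _ (by
        dsimp only [finSpecToBase]; infer_instance)
    change QuasiSeparatedSpace ↥(pullback f (finSpecToBase k (SeparableClosure k) i))
    exact quasiSeparatedSpace_of_quasiSeparated
      (pullback.fst f (finSpecToBase k (SeparableClosure k) i))
  have hc1 : ∀ i, cK.π.app i ≫ pullback.fst f (finSpecToBase k (SeparableClosure k) i) =
      pullback.fst f _ := fun i =>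
    bcConeπ_fst (finSpecDiagram k (SeparableClosure k))
      (finSpecToBase k (SeparableClosure k)) f (finSpecCone k (SeparableClosure k))
      (Spec.map (CommRingCat.ofHom (algebraMap k (SeparableClosure k))))
      (finSpecCone_π_app_toBase k (SeparableClosure k)) (pullback.fst f _) (pullback.snd f _) hpb.w i
  let t : D ⟶ (Functor.const _).obj X :=
    { app := fun i => pullback.fst f (finSpecToBase k (SeparableClosure k) i)
      naturality := fun i j φ =>
        (bcDiagram_map_fst _ _ hβ f φ).trans (Category.comp_id _).symm }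
  haveI : Etale U.hom := U.prop.2
  let σ' : cK.pt ⟶ U.left := σ
  have ha' : cK.π ≫ t = (Functor.const _).map (σ' ≫ U.hom) := by
    ext i : 2
    rw [NatTrans.comp_app, Functor.const_map_app]
    exact (hc1 i).trans hσ.symm
  obtain ⟨i, g, hg1, hg2⟩ := Scheme.exists_π_app_comp_eq_of_locallyOfFinitePresentation
    D t U.hom cK hcK σ' ha'
  refine ⟨i.unop.1, i.unop.2, g, hg2, ?_⟩
  rintro _ ⟨x, rfl⟩
  refine ⟨(cK.π.app i).base x, ?_⟩
  change (cK.π.app i ≫ g).base x = σ.base x
  rw [hg1]
  rfl

/-- An `X`-morphism from `X ×_k k̄` to a finite étale `X`-scheme factors, on points, through an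
`X`-morphism defined over a finite separable subextension. -/
theorem exists_finite_level (k : Type u) [Field k] {X : Scheme.{u}}
    (f : X ⟶ Spec (CommRingCat.of k)) [CompactSpace X] [QuasiSeparatedSpace X] (U : FEt.Cat X)
    (a : Spec (CommRingCat.of (AlgebraicClosure k)) ⟶ Spec (CommRingCat.of k))
    (ha : a = Spec.map (CommRingCat.ofHom (algebraMap k (AlgebraicClosure k))))
    (σ : pullback f a ⟶ U.left) (hσ : σ ≫ U.hom = pullback.fst f a) :
    ∃ (L : IntermediateField k (SeparableClosure k)) (_ : FiniteDimensional k ↥L)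
      (τ : pullback f (Spec.map (CommRingCat.ofHom (algebraMap k ↥L))) ⟶ U.left),
      τ ≫ U.hom = pullback.fst f _ ∧ Set.range σ.base ⊆ Set.range τ.base := by
  obtain ⟨ρ, hρ1, h1, h2, h3, h4⟩ := exists_rho k f a ha
  haveI := h1; haveI := h2; haveI := h3; haveI := h4
  obtain ⟨b, hb⟩ : ∃ b : Spec (CommRingCat.of (SeparableClosure k)) ⟶ Spec (CommRingCat.of k),
    b = Spec.map (CommRingCat.ofHom (algebraMap k (SeparableClosure k))) := ⟨_, rfl⟩
  let B : FEt.Cat (pullback f (Spec.map (CommRingCat.ofHom (algebraMap k (SeparableClosure k))))) :=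
    (FEt.restrict (pullback.fst f _)).obj U
  let F : pullback f a ⟶ B.left := pullback.lift σ ρ (by rw [hσ, hρ1])
  have hF : F ≫ B.hom = ρ := pullback.lift_snd _ _ _
  obtain ⟨F₀, hF₀1, hF₀2⟩ := exists_section_of_radicial ρ B F hF
  have hcond : pullback.fst U.hom (pullback.fst f
      (Spec.map (CommRingCat.ofHom (algebraMap k (SeparableClosure k))))) ≫ U.hom =
      B.hom ≫ pullback.fst f _ := pullback.condition
  have hw : (F₀ ≫ pullback.fst U.hom (pullback.fst f _)) ≫ U.hom = pullback.fst f _ :=
    calc (F₀ ≫ pullback.fst U.hom (pullback.fst f _)) ≫ U.hom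
        = F₀ ≫ (pullback.fst U.hom (pullback.fst f _) ≫ U.hom) := Category.assoc _ _ _
      _ = F₀ ≫ (B.hom ≫ pullback.fst f _) := congrArg (F₀ ≫ ·) hcond
      _ = (F₀ ≫ B.hom) ≫ pullback.fst f _ := (Category.assoc _ _ _).symm
      _ = pullback.fst f _ := by rw [hF₀1, Category.id_comp]
  obtain ⟨L, hL, τ, hτ1, hτ2⟩ := exists_finite_level_sep k f U
    (F₀ ≫ pullback.fst U.hom (pullback.fst f _)) hw
  refine ⟨L, hL, τ, hτ1, ?_⟩
  rintro _ ⟨x, rfl⟩
  apply hτ2
  refine ⟨ρ.base x, ?_⟩
  change (ρ ≫ F₀ ≫ pullback.fst U.hom (pullback.fst f _)).base x = σ.base x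
  rw [← Category.assoc, hF₀2]
  have : F ≫ pullback.fst U.hom (pullback.fst f _) = σ := pullback.lift_fst _ _ _
  rw [this]

/-- A finite étale cover of `X` which is completely split over `k̄` is dominated by the base
change of a finite étale `k`-scheme. -/
theorem main' (k : Type u) [Field k] {X : Scheme.{u}} (f : X ⟶ Spec (CommRingCat.of k))
    [CompactSpace X] [QuasiSeparatedSpace X] (U : FEt.Cat X)
    (a : Spec (CommRingCat.of (AlgebraicClosure k)) ⟶ Spec (CommRingCat.of k))
    (ha : a = Spec.map (CommRingCat.ofHom (algebraMap k (AlgebraicClosure k))))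
    (hU : Pi1.IsSplit ((FEt.restrict (pullback.fst f a)).obj U)) :
    ∃ (V : FEt.Cat (Spec (CommRingCat.of k))) (e : (FEt.restrict f).obj V ⟶ U),
      Surjective e.left := by
  obtain ⟨ι, hfin, ε, hε⟩ := hU
  -- the sections
  obtain ⟨pr, hpr⟩ : ∃ pr : ((FEt.restrict (pullback.fst f a)).obj U).left ⟶ U.left,
    pr = pullback.fst U.hom (pullback.fst f a) := ⟨_, rfl⟩
  have hprw : pr ≫ U.hom = ((FEt.restrict (pullback.fst f a)).obj U).hom ≫ pullback.fst f a := by
    rw [hpr]; exact pullback.condition
  have hσ : ∀ i : ι, (Sigma.ι (fun _ : ι => pullback f a) i ≫ ε.inv ≫ pr) ≫ U.hom =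
      pullback.fst f a := by
    intro i
    rw [Category.assoc, Category.assoc, hprw, ← Category.assoc, ← Category.assoc]
    have := hε i
    rw [← Category.assoc] at this
    rw [this, Category.id_comp]
  choose L hL τ hτ1 hτ2 using fun i : ι => exists_finite_level k f U a ha _ (hσ i)
  -- the finite étale k-schemes Spec L_i
  have hLfe : ∀ i : ι, FEt.prop (Spec.map (CommRingCat.ofHom (algebraMap k ↥(L i)))) := by
    intro i
    haveI := hL i
    haveI : Algebra.IsSeparable k ↥(L i) := Algebra.isSeparable_tower_bot_of_isSeparable k ↥(L i)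
      (SeparableClosure k)
    exact GeomCover.finite_etale_of_finite_separable k ↥(L i)
  let VL : ι → FEt.Cat (Spec (CommRingCat.of k)) := fun i =>
    MorphismProperty.Over.mk ⊤ (Spec.map (CommRingCat.ofHom (algebraMap k ↥(L i)))) (hLfe i)
  let τl : ∀ i : ι, ((FEt.restrict f).obj (VL i)).left ⟶ U.left := fun i =>
    (pullbackSymmetry _ f).hom ≫ τ i
  have hτl : ∀ i : ι, τl i ≫ U.hom = ((FEt.restrict f).obj (VL i)).hom := by
    intro i
    change ((pullbackSymmetry _ f).hom ≫ τ i) ≫ U.hom = pullback.snd _ f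
    rw [Category.assoc, hτ1 i, pullbackSymmetry_hom_comp_fst]
  obtain ⟨V, e, j, hj⟩ := exists_desc (FEt.restrict f) VL U
    (fun i => MorphismProperty.Over.homMk (τl i) (hτl i) trivial)
  refine ⟨V, e, ⟨fun u => ?_⟩⟩
  -- `pr` is surjective
  haveI : Surjective a := by
    rw [ha]
    have hff : (CommRingCat.ofHom (algebraMap k (AlgebraicClosure k))).hom.FaithfullyFlat := by
      change (algebraMap k (AlgebraicClosure k)).FaithfullyFlat
      exact RingHom.faithfullyFlat_algebraMap_iff.mpr inferInstance
    exact ((flat_and_surjective_SpecMap_iff _).mpr hff).2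
  haveI : Surjective (pullback.fst f a) :=
    MorphismProperty.pullback_fst (P := @Surjective) f a inferInstance
  haveI : Surjective pr := by
    rw [hpr]
    exact MorphismProperty.pullback_fst (P := @Surjective) U.hom (pullback.fst f a) inferInstance
  obtain ⟨y, rfl⟩ := pr.surjective u
  obtain ⟨⟨i, x⟩, hx⟩ := (sigmaMk (fun _ : ι => pullback f a)).surjective (ε.hom.base y)
  rw [sigmaMk_mk] at hx
  have hy : (Sigma.ι (fun _ : ι => pullback f a) i ≫ ε.inv ≫ pr).base x = pr.base y := by
    have h1 : (Sigma.ι (fun _ : ι => pullback f a) i ≫ ε.inv).base x = y := by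
      have : (ε.hom ≫ ε.inv).base y = y := by rw [Iso.hom_inv_id]; rfl
      rw [← this]
      change ε.inv.base ((Sigma.ι (fun _ : ι => pullback f a) i).base x) =
        ε.inv.base (ε.hom.base y)
      exact congrArg _ hx
    rw [← Category.assoc]
    change pr.base ((Sigma.ι (fun _ : ι => pullback f a) i ≫ ε.inv).base x) = pr.base y
    rw [h1]
  obtain ⟨z, hz⟩ := hτ2 i ⟨x, hy⟩
  refine ⟨(j i).left.base ((pullbackSymmetry _ f).inv.base z), ?_⟩
  have h2 : (j i ≫ e).left = τl i := by rw [hj i]; rfl
  change ((j i).left ≫ e.left).base ((pullbackSymmetry _ f).inv.base z) = pr.base y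
  have h3 : (j i).left ≫ e.left = τl i := h2
  rw [h3, ← hz]
  change ((pullbackSymmetry _ f).inv ≫ (pullbackSymmetry _ f).hom ≫ τ i).base z = (τ i).base z
  rw [Iso.inv_hom_id_assoc]

/-- A finite étale cover of `X` which is completely split over `k̄` is dominated by the base
change of a finite étale `k`-scheme. -/
theorem main (k : Type u) [Field k] {X : Scheme.{u}} (f : X ⟶ Spec (CommRingCat.of k))
    [CompactSpace X] [QuasiSeparatedSpace X] (U : FEt.Cat X)
    (hU : Pi1.IsSplit ((FEt.restrict (pullback.fst f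
      (Spec.map (CommRingCat.ofHom (algebraMap k (AlgebraicClosure k)))))).obj U)) :
    ∃ (V : FEt.Cat (Spec (CommRingCat.of k))) (e : (FEt.restrict f).obj V ⟶ U),
      Surjective e.left :=
  main' k f U _ rfl hU

end Groth.Agent.Lib.Helper46.GeomSplit
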