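import Mathlib
import Groth.Prelude.Def_FEt
import Groth.Prelude.Def_Pi1
import Groth.Agent.Lib.Helper46.GeomSplit
import Groth.Agent.Lib.Helper32.GeomConn.Clopen
import Groth.Agent.S0268
import Groth.Agent.Lib.Helper50.Descent2

/-!
# Connected covers with a geometric section come from the base field (helper46)
-/

set_option autoImplicit false
set_option linter.style.haveILetI false
universe u
open CategoryTheory CategoryTheory.Limits AlgebraicGeometry

namespace Groth.Agent.Lib.Helper46.GeomQuot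

open Groth.Agent.Lib.Helper46

/-- Variant of `GeomCover.clopen_of_isPullback` with both legs given up to equality. -/
theorem clopen_of_isPullback' {S T Y Z W : Scheme.{u}} (i : T ⟶ S)
    [IsOpenImmersion (pullback.diagonal i)] [IsClosedImmersion (pullback.diagonal i)]
    (gT : Y ⟶ T) (t : Z ⟶ T) (pa₁ : Y ⟶ S) (hpa₁ : gT ≫ i = pa₁) (pa₂ : Z ⟶ S)
    (hpa₂ : t ≫ i = pa₂) (φ : W ⟶ Y) (w : W ⟶ Z)
    (hsq : IsPullback φ w gT t) (ι : W ⟶ pullback pa₁ pa₂)
    (h1 : ι ≫ pullback.fst pa₁ pa₂ = φ) (h2 : ι ≫ pullback.snd pa₁ pa₂ = w) :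
    IsOpenImmersion ι ∧ IsClosedImmersion ι := by
  subst hpa₁
  exact GeomCover.clopen_of_isPullback i gT t pa₂ hpa₂ φ w hsq ι h1 h2

/-- A surjective morphism of finite étale covers is the coequalizer of its kernel pair, and the
kernel pair is open and closed in the product. -/
theorem coeq_of_surjective {X : Scheme.{u}} {P X' : FEt.Cat X} (τ : P ⟶ X')
    (hτ : Surjective τ.left) :
    ∃ (R : FEt.Cat X) (r₁ r₂ : R ⟶ P) (m : R.left ⟶ pullback P.hom P.hom),
      r₁ ≫ τ = r₂ ≫ τ ∧ m ≫ pullback.fst P.hom P.hom = r₁.left ∧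
      m ≫ pullback.snd P.hom P.hom = r₂.left ∧ IsOpenImmersion m ∧ IsClosedImmersion m ∧
      ∀ (Y : FEt.Cat X) (h : P ⟶ Y), r₁ ≫ h = r₂ ≫ h → ∃! g : X' ⟶ Y, τ ≫ g = h := by
  obtain ⟨t, ht⟩ : ∃ t : P.left ⟶ X'.left, t = τ.left := ⟨_, rfl⟩
  have htw : t ≫ X'.hom = P.hom := by rw [ht]; exact MorphismProperty.Over.w τ
  haveI : IsFinite X'.hom := X'.prop.1
  haveI : Etale X'.hom := X'.prop.2
  haveI : IsFinite P.hom := P.prop.1
  haveI : Etale P.hom := P.prop.2
  have htp : FEt.prop t := by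
    have h1 : FEt.prop (t ≫ X'.hom) := by rw [htw]; exact P.prop
    exact MorphismProperty.of_postcomp (W := FEt.prop) (W' := FEt.prop) t X'.hom X'.prop h1
  haveI : IsFinite t := htp.1
  haveI : Etale t := htp.2
  haveI : Surjective t := by rw [ht]; exact hτ
  haveI : EffectiveEpi t := inferInstance
  haveI : Epi t := inferInstance
  have hcond : pullback.fst t t ≫ P.hom = pullback.snd t t ≫ P.hom := by
    rw [← htw, ← Category.assoc, ← Category.assoc, pullback.condition]
  let R : FEt.Cat X := MorphismProperty.Over.mk ⊤ (pullback.fst t t ≫ P.hom)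
    ⟨inferInstance, inferInstance⟩
  let r₁ : R ⟶ P := MorphismProperty.Over.homMk (pullback.fst t t) rfl trivial
  let r₂ : R ⟶ P := MorphismProperty.Over.homMk (pullback.snd t t) hcond.symm trivial
  let m : R.left ⟶ pullback P.hom P.hom := pullback.lift (pullback.fst t t) (pullback.snd t t) hcond
  have hm := clopen_of_isPullback' X'.hom t t P.hom htw P.hom htw (pullback.fst t t)
    (pullback.snd t t) (IsPullback.of_hasPullback t t) m (pullback.lift_fst _ _ _)
    (pullback.lift_snd _ _ _)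
  refine ⟨R, r₁, r₂, m, ?_, pullback.lift_fst _ _ _, pullback.lift_snd _ _ _, hm.1, hm.2, ?_⟩
  · apply MorphismProperty.Over.Hom.ext
    change pullback.fst t t ≫ τ.left = pullback.snd t t ≫ τ.left
    rw [← ht]; exact pullback.condition
  · intro Y h hh
    have hh' : pullback.fst t t ≫ h.left = pullback.snd t t ≫ h.left :=
      congrArg (fun q => q.left) hh
    have hcoc : ∀ {Z : Scheme.{u}} (g₁ g₂ : Z ⟶ P.left), g₁ ≫ t = g₂ ≫ t →
        g₁ ≫ h.left = g₂ ≫ h.left := by
      intro Z g₁ g₂ hg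
      have e1 : g₁ = pullback.lift g₁ g₂ hg ≫ pullback.fst t t := (pullback.lift_fst _ _ _).symm
      have e2 : g₂ = pullback.lift g₁ g₂ hg ≫ pullback.snd t t := (pullback.lift_snd _ _ _).symm
      rw [e1, Category.assoc, hh', ← Category.assoc, ← e2]
    obtain ⟨d, hd⟩ : ∃ d : X'.left ⟶ Y.left, t ≫ d = h.left :=
      ⟨EffectiveEpi.desc t h.left (fun g₁ g₂ hg => hcoc g₁ g₂ hg), EffectiveEpi.fac _ _ _⟩
    have hdw : d ≫ Y.hom = X'.hom := by
      rw [← cancel_epi t, ← Category.assoc, hd, htw]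
      exact MorphismProperty.Over.w h
    refine ⟨MorphismProperty.Over.homMk d hdw trivial, ?_, ?_⟩
    · apply MorphismProperty.Over.Hom.ext
      change τ.left ≫ d = h.left
      rw [← ht]; exact hd
    · intro g' hg'
      apply MorphismProperty.Over.Hom.ext
      change g'.left = d
      rw [← cancel_epi t, hd, ht]
      exact congrArg (fun q => q.left) hg'

/-- An open and closed subobject of the pull-back of a finite étale `k`-scheme to a geometrically
connected `X` is itself pulled back from `k`. -/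
theorem mem_essImage_of_clopen (k : Type u) [Field k] {X : Scheme.{u}}
    (f : X ⟶ Spec (CommRingCat.of k))
    [PreconnectedSpace ↥(pullback f
      (Spec.map (CommRingCat.ofHom (algebraMap k (AlgebraicClosure k)))))]
    {T₀ : Scheme.{u}} (tT : T₀ ⟶ Spec (CommRingCat.of k)) (htT : FEt.prop tT) (R : FEt.Cat X)
    (m : R.left ⟶ pullback tT f)
    (hmw : m ≫ pullback.snd tT f = R.hom) [IsOpenImmersion m]
    (hcl : IsClosed (Set.range m.base)) :
    ∃ R₀ : FEt.Cat (Spec (CommRingCat.of k)), Nonempty ((FEt.restrict f).obj R₀ ≅ R) := by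
  haveI : IsFinite tT := htT.1
  haveI : Etale tT := htT.2
  have hC' : IsClopen (Set.range m.base) := ⟨hcl, m.isOpenEmbedding.isOpen_range⟩
  obtain ⟨C, hC⟩ : ∃ C : T₀.Opens,
      (pullback.fst tT f).base ⁻¹' (C : Set T₀) = Set.range m.base :=
    Groth.Agent.Lib.Helper32.GeomConn.exists_preimage_eq_of_isClopen k f tT _ hC'
  haveI : DiscreteTopology T₀ :=
    Groth.Agent.Lib.Helper32.GeomConn.discreteTopology_of_isFinite k tT
  obtain ⟨j, hj⟩ : ∃ j : (C : Scheme.{u}) ⟶ T₀, j = C.ι := ⟨_, rfl⟩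
  haveI : IsOpenImmersion j := by rw [hj]; infer_instance
  have hjr : Set.range j.base = (C : Set T₀) := by rw [hj]; exact Scheme.Opens.range_ι C
  haveI : IsClosedImmersion j :=
    IsClosedImmersion.of_isPreimmersion j (by rw [hjr]; exact isClosed_discrete _)
  let R₀ : FEt.Cat (Spec (CommRingCat.of k)) := MorphismProperty.Over.mk ⊤ (j ≫ tT)
    ⟨inferInstance, inferInstance⟩
  obtain ⟨n, hn1, hn2⟩ : ∃ n : pullback (j ≫ tT) f ⟶ pullback tT f,
      n ≫ pullback.fst tT f = pullback.fst (j ≫ tT) f ≫ j ∧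
      n ≫ pullback.snd tT f = pullback.snd (j ≫ tT) f :=
    ⟨pullback.lift (pullback.fst (j ≫ tT) f ≫ j) (pullback.snd (j ≫ tT) f)
      (by rw [Category.assoc, pullback.condition]), pullback.lift_fst _ _ _,
      pullback.lift_snd _ _ _⟩
  have hsq : IsPullback n (pullback.fst (j ≫ tT) f) (pullback.fst tT f) j := by
    refine IsPullback.of_right ?_ hn1 (IsPullback.of_hasPullback tT f).flip
    rw [hn2]
    exact (IsPullback.of_hasPullback (j ≫ tT) f).flip
  haveI : IsOpenImmersion n :=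
    MorphismProperty.of_isPullback (P := @IsOpenImmersion) hsq.flip inferInstance
  have hrange : Set.range n.base = Set.range m.base := by
    rw [← hC]
    ext y
    constructor
    · rintro ⟨z, rfl⟩
      change (pullback.fst tT f).base (n.base z) ∈ (C : Set T₀)
      rw [← hjr]
      refine ⟨(pullback.fst (j ≫ tT) f).base z, ?_⟩
      change (pullback.fst (j ≫ tT) f ≫ j).base z = (n ≫ pullback.fst tT f).base z
      rw [hn1]
    · intro hy
      change (pullback.fst tT f).base y ∈ (C : Set T₀) at hy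
      rw [← hjr] at hy
      obtain ⟨c, hc⟩ := hy
      obtain ⟨z, hz1, -⟩ := hsq.exists_preimage_scheme y c hc.symm
      exact ⟨z, hz1⟩
  let e := IsOpenImmersion.isoOfRangeEq n m hrange
  have he : e.hom ≫ m = n := IsOpenImmersion.isoOfRangeEq_hom_fac n m hrange
  refine ⟨R₀, ⟨MorphismProperty.Over.isoMk e ?_⟩⟩
  change e.hom ≫ R.hom = pullback.snd (j ≫ tT) f
  rw [← hmw, ← Category.assoc, he, hn2]

/-- The comparison `(Spec L ×_k X) ×_X (Spec L ×_k X) ≅ (Spec L ×_k Spec L) ×_k X`, compatible with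
the projections to `X`. -/
theorem exists_prodIso {K X Y : Scheme.{u}} (c : Y ⟶ K) (f : X ⟶ K) :
    ∃ Ψ : pullback (pullback.snd c f) (pullback.snd c f) ≅ pullback (pullback.snd c c ≫ c) f,
      Ψ.hom ≫ pullback.snd (pullback.snd c c ≫ c) f =
        pullback.snd (pullback.snd c f) (pullback.snd c f) ≫ pullback.snd c f := by
  have hcond : pullback.snd c f ≫ f = pullback.fst c f ≫ c := pullback.condition.symm
  refine ⟨pullbackLeftPullbackSndIso c f (pullback.snd c f) ≪≫
    pullback.congrHom rfl hcond ≪≫ (pullbackAssoc c c c f).symm, ?_⟩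
  simp only [Iso.trans_hom, Iso.symm_hom, Category.assoc, pullbackAssoc_inv_snd,
    pullback.congrHom_hom]
  rw [pullback.lift_snd_assoc, Category.comp_id, pullbackLeftPullbackSndIso_hom_snd_assoc]

/-- A connected finite étale cover of a geometrically connected `X` receiving a nonempty
`X`-morphism from the pull-back of a finite étale `k`-scheme is pulled back from `k`. -/
theorem main_aux (k : Type u) [Field k] {X : Scheme.{u}} (f : X ⟶ Spec (CommRingCat.of k))
    [CompactSpace X] [QuasiSeparatedSpace X]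
    [ConnectedSpace ↥(pullback f
      (Spec.map (CommRingCat.ofHom (algebraMap k (AlgebraicClosure k)))))]
    (X' : FEt.Cat X) [ConnectedSpace X'.left] {Y : Scheme.{u}}
    (c : Y ⟶ Spec (CommRingCat.of k)) (hcfe : FEt.prop c) (τ₀ : pullback f c ⟶ X'.left)
    (hτ1 : τ₀ ≫ X'.hom = pullback.fst f c) (hne₀ : (Set.range τ₀.base).Nonempty) :
    ∃ S' : FEt.Cat (Spec (CommRingCat.of k)), Nonempty ((FEt.restrict f).obj S' ≅ X') := by
  haveI : IsFinite c := hcfe.1
  haveI : Etale c := hcfe.2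
  let P₀ : FEt.Cat (Spec (CommRingCat.of k)) := MorphismProperty.Over.mk ⊤ c hcfe
  obtain ⟨P, hP⟩ : ∃ P : FEt.Cat X, P = (FEt.restrict f).obj P₀ := ⟨_, rfl⟩
  have hτl : ((pullbackSymmetry c f).hom ≫ τ₀) ≫ X'.hom = pullback.snd c f := by
    rw [Category.assoc, hτ1, pullbackSymmetry_hom_comp_fst]
  let τ' : (FEt.restrict f).obj P₀ ⟶ X' :=
    MorphismProperty.Over.homMk ((pullbackSymmetry c f).hom ≫ τ₀) hτl trivial
  -- surjectivity
  haveI : IsFinite X'.hom := X'.prop.1
  haveI : Etale X'.hom := X'.prop.2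
  have hsurj : Surjective τ'.left := by
    obtain ⟨t, ht⟩ : ∃ t : pullback c f ⟶ X'.left, t = (pullbackSymmetry c f).hom ≫ τ₀ :=
      ⟨_, rfl⟩
    change Surjective ((pullbackSymmetry c f).hom ≫ τ₀)
    rw [← ht]
    have htw : t ≫ X'.hom = pullback.snd c f := by rw [ht]; exact hτl
    have htp : FEt.prop t := by
      have h1 : FEt.prop (t ≫ X'.hom) := by
        rw [htw]; exact MorphismProperty.pullback_snd (P := FEt.prop) c f hcfe
      exact MorphismProperty.of_postcomp (W := FEt.prop) (W' := FEt.prop) t X'.hom X'.prop h1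
    haveI : IsFinite t := htp.1
    haveI : Etale t := htp.2
    have hclopen : IsClopen (Set.range t.base) :=
      ⟨t.isClosedMap.isClosed_range, t.isOpenMap.isOpen_range⟩
    have hne : (Set.range t.base).Nonempty := by
      obtain ⟨_, ⟨z, rfl⟩⟩ := hne₀
      refine ⟨_, ⟨(pullbackSymmetry c f).inv.base z, rfl⟩⟩
    have huniv := hclopen.eq_univ hne
    exact ⟨fun y => by have : y ∈ Set.range t.base := huniv ▸ Set.mem_univ y; exact this⟩
  obtain ⟨R, r₁, r₂, m, hrr, hm1, hm2, hmo, hmc, huniv⟩ := coeq_of_surjective τ' hsurj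
  -- the kernel pair comes from `k`
  have hT : FEt.prop (pullback.snd c c ≫ c) := ⟨inferInstance, inferInstance⟩
  obtain ⟨Ψ, hΨ⟩ := exists_prodIso c f
  obtain ⟨m₀, hm₀⟩ : ∃ m₀ : R.left ⟶ pullback (pullback.snd c f) (pullback.snd c f), m₀ = m :=
    ⟨m, rfl⟩
  haveI : IsOpenImmersion m₀ := by rw [hm₀]; exact hmo
  haveI : IsClosedImmersion m₀ := by rw [hm₀]; exact hmc
  have hm₀2 : m₀ ≫ pullback.snd (pullback.snd c f) (pullback.snd c f) = r₂.left := by
    rw [hm₀]; exact hm2
  obtain ⟨m', hm'⟩ : ∃ m' : R.left ⟶ pullback (pullback.snd c c ≫ c) f, m' = m₀ ≫ Ψ.hom := ⟨_, rfl⟩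
  haveI : IsOpenImmersion m' := by rw [hm']; infer_instance
  haveI : IsClosedImmersion m' := by rw [hm']; infer_instance
  have hm'w : m' ≫ pullback.snd (pullback.snd c c ≫ c) f = R.hom := by
    have h1 : Ψ.hom ≫ pullback.snd (pullback.snd c c ≫ c) f =
      pullback.snd (pullback.snd c f) (pullback.snd c f) ≫ pullback.snd c f := hΨ
    calc m' ≫ pullback.snd (pullback.snd c c ≫ c) f
        = m₀ ≫ (Ψ.hom ≫ pullback.snd (pullback.snd c c ≫ c) f) := by rw [hm', Category.assoc]
      _ = (m₀ ≫ pullback.snd (pullback.snd c f) (pullback.snd c f)) ≫ pullback.snd c f := by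
          rw [h1, Category.assoc]
      _ = r₂.left ≫ pullback.snd c f := congrArg (· ≫ pullback.snd c f) hm₀2
      _ = R.hom := MorphismProperty.Over.w r₂
  obtain ⟨R₀, ⟨θ⟩⟩ := mem_essImage_of_clopen k f (pullback.snd c c ≫ c) hT R m' hm'w
    m'.isClosedEmbedding.isClosed_range
  -- fullness
  obtain ⟨hfull, -⟩ := Groth.Agent.S0268.result k f
  obtain ⟨ρ₁, hρ₁⟩ := (FEt.restrict f).map_surjective (θ.hom ≫ r₁)
  obtain ⟨ρ₂, hρ₂⟩ := (FEt.restrict f).map_surjective (θ.hom ≫ r₂)
  have hw : (FEt.restrict f).map ρ₁ ≫ τ' = (FEt.restrict f).map ρ₂ ≫ τ' := by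
    rw [hρ₁, hρ₂, Category.assoc, Category.assoc, hrr]
  have hX' : IsColimit (Cofork.ofπ τ' hw) := by
    refine Cofork.IsColimit.mk' _ fun s => ?_
    have hs : r₁ ≫ s.π = r₂ ≫ s.π := by
      have e1 : (θ.hom ≫ r₁) ≫ s.π = (θ.hom ≫ r₂) ≫ s.π := by
        rw [← hρ₁, ← hρ₂]; exact s.condition
      rw [Category.assoc, Category.assoc] at e1
      exact (cancel_epi θ.hom).mp e1
    exact ⟨(huniv s.pt s.π hs).choose, (huniv s.pt s.π hs).choose_spec.1,
      fun {m''} hm'' => (huniv s.pt s.π hs).choose_spec.2 m'' hm''⟩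
  have hS' := isColimitCoforkMapOfIsColimit (FEt.restrict f) (coequalizer.condition ρ₁ ρ₂)
    (coequalizerIsCoequalizer ρ₁ ρ₂)
  exact ⟨coequalizer ρ₁ ρ₂, ⟨IsColimit.coconePointUniqueUpToIso hS' hX'⟩⟩

/-- A connected finite étale cover of a geometrically connected `X` admitting a section over
`k̄` is the pull-back of a finite étale `k`-scheme. -/
theorem main (k : Type u) [Field k] {X : Scheme.{u}} (f : X ⟶ Spec (CommRingCat.of k))
    [CompactSpace X] [QuasiSeparatedSpace X]
    [ConnectedSpace ↥(pullback f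
      (Spec.map (CommRingCat.ofHom (algebraMap k (AlgebraicClosure k)))))]
    (X' : FEt.Cat X) [ConnectedSpace X'.left]
    (σ : pullback f (Spec.map (CommRingCat.ofHom (algebraMap k (AlgebraicClosure k)))) ⟶ X'.left)
    (hσ : σ ≫ X'.hom =
      pullback.fst f (Spec.map (CommRingCat.ofHom (algebraMap k (AlgebraicClosure k))))) :
    ∃ S' : FEt.Cat (Spec (CommRingCat.of k)), Nonempty ((FEt.restrict f).obj S' ≅ X') := by
  obtain ⟨L, hL, τ₀, hτ1, hτ2⟩ := GeomSplit.exists_finite_level k f X' _ rfl σ hσ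
  haveI : Algebra.IsSeparable k ↥L := Algebra.isSeparable_tower_bot_of_isSeparable k ↥L
    (SeparableClosure k)
  refine main_aux k f X' _ (GeomCover.finite_etale_of_finite_separable k ↥L) τ₀ hτ1 ?_
  obtain ⟨x⟩ : Nonempty ↥(pullback f
    (Spec.map (CommRingCat.ofHom (algebraMap k (AlgebraicClosure k))))) := inferInstance
  exact ⟨_, hτ2 ⟨x, rfl⟩⟩

end Groth.Agent.Lib.Helper46.GeomQuot
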