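import Mathlib

/-!
# Ideal sheaves: ACC on noetherian schemes, base change of closed immersions to fibres (helper46)
-/

set_option autoImplicit false
universe u
open CategoryTheory CategoryTheory.Limits AlgebraicGeometry

namespace Groth.Agent.Lib.Helper46.IdealACC

/-- Base change of a closed immersion `i : Z ⟶ X` along `pullback.fst f σ`, written as the canonical map
between the pullbacks; its kernel is the pullback of the kernel of `i`. -/
theorem isPullback_map {Z X S T : Scheme.{u}} (i : Z ⟶ X) (f : X ⟶ S) (σ : T ⟶ S) :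
    IsPullback (pullback.fst (i ≫ f) σ)
      (pullback.map (i ≫ f) σ f σ i (𝟙 T) (𝟙 S) (by simp) (by simp)) i (pullback.fst f σ) := by
  have hm1 : pullback.map (i ≫ f) σ f σ i (𝟙 T) (𝟙 S) (by simp) (by simp) ≫ pullback.fst f σ =
      pullback.fst (i ≫ f) σ ≫ i := pullback.lift_fst _ _ _
  have hm2 : pullback.map (i ≫ f) σ f σ i (𝟙 T) (𝟙 S) (by simp) (by simp) ≫ pullback.snd f σ =
      pullback.snd (i ≫ f) σ := (pullback.lift_snd _ _ _).trans (Category.comp_id _)
  have hbig : IsPullback (pullback.fst (i ≫ f) σ)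
      (pullback.map (i ≫ f) σ f σ i (𝟙 T) (𝟙 S) (by simp) (by simp) ≫ pullback.snd f σ)
      (i ≫ f) σ := by
    rw [hm2]
    exact IsPullback.of_hasPullback (i ≫ f) σ
  exact IsPullback.of_bot hbig hm1.symm (IsPullback.of_hasPullback f σ)

theorem ker_map {Z X S T : Scheme.{u}} (i : Z ⟶ X) [IsClosedImmersion i] (f : X ⟶ S) (σ : T ⟶ S) :
    (pullback.map (i ≫ f) σ f σ i (𝟙 T) (𝟙 S) (by simp) (by simp)).ker =
      i.ker.comap (pullback.fst f σ) := by
  have htop := isPullback_map i f σ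
  have e := htop.flip.isoPullback_hom_fst
  rw [← e, Scheme.Hom.ker_comp_of_isIso, Scheme.IdealSheafData.ker_fst_of_isClosedImmersion]

instance isClosedImmersion_map {Z X S T : Scheme.{u}} (i : Z ⟶ X) [IsClosedImmersion i]
    (f : X ⟶ S) (σ : T ⟶ S) :
    IsClosedImmersion (pullback.map (i ≫ f) σ f σ i (𝟙 T) (𝟙 S) (by simp) (by simp)) :=
  MorphismProperty.of_isPullback (P := @IsClosedImmersion) (isPullback_map i f σ) inferInstance

/-- Two closed subschemes of `X` whose ideal sheaves agree on the fibre `X_s` have fibres over `s`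
of the same dimension. -/
theorem topologicalKrullDim_fiber_eq {Z₁ Z₂ X S : Scheme.{u}} (i₁ : Z₁ ⟶ X) (i₂ : Z₂ ⟶ X)
    [IsClosedImmersion i₁] [IsClosedImmersion i₂] (f : X ⟶ S) (s : S)
    (h : i₁.ker.comap (f.fiberι s) = i₂.ker.comap (f.fiberι s)) :
    topologicalKrullDim ↥((i₁ ≫ f).fiber s) = topologicalKrullDim ↥((i₂ ≫ f).fiber s) := by
  let σ := S.fromSpecResidueField s
  let m₁ := pullback.map (i₁ ≫ f) σ f σ i₁ (𝟙 _) (𝟙 S) (by simp) (by simp)
  let m₂ := pullback.map (i₂ ≫ f) σ f σ i₂ (𝟙 _) (𝟙 S) (by simp) (by simp)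
  have hk : m₂.ker = m₁.ker := by
    rw [ker_map, ker_map]
    exact h.symm
  have hiso : IsIso (IsClosedImmersion.lift m₂ m₁ hk.le) := IsClosedImmersion.isIso_lift m₂ m₁ hk
  exact IsHomeomorph.topologicalKrullDim_eq _
    (asIso (IsClosedImmersion.lift m₂ m₁ hk.le)).hom.homeomorph.isHomeomorph

/-- ACC for directed families of ideal sheaves on a noetherian scheme. -/
theorem exists_iSup_le_of_directed {X : Scheme.{u}} [IsNoetherian X] {κ : Type*} [Nonempty κ]
    (F : κ → X.IdealSheafData) (hF : Directed (· ≤ ·) F) : ∃ k₀, ⨆ k, F k ≤ F k₀ := by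
  let 𝒰 := X.affineCover.finiteSubcover
  let U : 𝒰.I₀ → X.affineOpens := fun a => ⟨(𝒰.f a).opensRange, isAffineOpen_opensRange _⟩
  have hU : ⨆ a, (U a).1 = ⊤ := 𝒰.iSup_opensRange
  have key : ∀ a, ∃ k, (⨆ k, F k).ideal (U a) ≤ (F k).ideal (U a) := by
    intro a
    have hnoeth : IsNoetherianRing Γ(X, (U a).1) := IsLocallyNoetherian.component_noetherian (U a)
    have hfg : Submodule.FG ((⨆ k, F k).ideal (U a)) := IsNoetherian.noetherian _
    rw [Submodule.fg_iff_compact] at hfg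
    have hsup : (⨆ k, F k).ideal (U a) = ⨆ k, (F k).ideal (U a) := by
      rw [Scheme.IdealSheafData.ideal_iSup]
      simp
    rw [CompleteLattice.isCompactElement_iff_le_of_directed_sSup_le] at hfg
    have hdir : DirectedOn (· ≤ ·) (Set.range fun k => (F k).ideal (U a)) := by
      rintro _ ⟨k₁, rfl⟩ _ ⟨k₂, rfl⟩
      obtain ⟨k₃, h1, h2⟩ := hF k₁ k₂
      exact ⟨_, ⟨k₃, rfl⟩, h1 (U a), h2 (U a)⟩
    obtain ⟨_, ⟨k, rfl⟩, hk⟩ := hfg (Set.range fun k => (F k).ideal (U a))
      (Set.range_nonempty _) hdir (by rw [hsup]; exact le_rfl)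
    exact ⟨k, hk⟩
  choose k hk using key
  obtain ⟨k₀, hk₀⟩ := hF.finite_le k
  refine ⟨k₀, Scheme.IdealSheafData.le_of_iSup_eq_top U hU fun a => ?_⟩
  exact (hk a).trans (hk₀ a (U a))

end Groth.Agent.Lib.Helper46.IdealACC
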