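import Mathlib

/-!
# Finiteness of the set of irreducible components under flat finite type morphisms
-/

set_option autoImplicit false
set_option linter.style.haveILetI false
universe u
open TopologicalSpace AlgebraicGeometry CategoryTheory

namespace Groth.Agent.Lib.Helper46.IrrCompFlat

theorem mem_minimalPrimes_iff' {R : Type*} [CommRing R] (p : Ideal R) :
    p ∈ minimalPrimes R ↔ p.IsPrime ∧ ∀ q : Ideal R, q.IsPrime → q ≤ p → q = p := by
  show IsMinimalPrime p ↔ _
  rw [IsMinimalPrime.iff_minimal]
  constructor
  · intro h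
    exact ⟨h.1, fun q hq hqp => le_antisymm hqp (h.2 hq hqp)⟩
  · intro h
    exact ⟨h.1, fun q hq hqp => (h.2 q hq hqp).ge⟩

/-- flat finite type ring maps preserve finiteness of the set of minimal primes -/
theorem minimalPrimes_finite_of_flat (R S : Type*) [CommRing R] [CommRing S] [Algebra R S]
    [Module.Flat R S] [Algebra.FiniteType R S] (h : (minimalPrimes R).Finite) :
    (minimalPrimes S).Finite := by
  classical
  -- the finite candidate set
  let F : Ideal R → Set (Ideal S) := fun p =>
    if hp : p.IsPrime then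
      haveI := hp
      (fun Q : Ideal (p.Fiber S) => Q.comap Algebra.TensorProduct.includeRight.toRingHom) ''
        (minimalPrimes (p.Fiber S))
    else ∅
  have hF : ∀ p, (F p).Finite := by
    intro p
    by_cases hp : p.IsPrime
    · haveI := hp
      simp only [F, dif_pos hp]
      haveI : Algebra.FiniteType p.ResidueField (p.Fiber S) :=
        Algebra.FiniteType.baseChange (A := S) p.ResidueField
      haveI : IsNoetherianRing (p.Fiber S) :=
        Algebra.FiniteType.isNoetherianRing p.ResidueField _
      exact (minimalPrimes.finite_of_isNoetherianRing _).image _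
    · simp only [F, dif_neg hp]
      exact Set.finite_empty
  refine (h.biUnion fun p _ => hF p).subset ?_
  intro q hq
  rw [mem_minimalPrimes_iff'] at hq
  obtain ⟨hqp, hqmin⟩ := hq
  haveI := hqp
  let p : Ideal R := q.under R
  haveI : p.IsPrime := inferInstance
  haveI : q.LiesOver p := ⟨rfl⟩
  have hpmin : p ∈ minimalPrimes R := by
    rw [mem_minimalPrimes_iff']
    refine ⟨inferInstance, fun p' hp' hle => ?_⟩
    haveI := hp'
    obtain ⟨q', hq'le, hq'p, hq'over⟩ := Ideal.exists_ideal_le_liesOver_of_le (p := p') (q := p) q hle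
    have := hqmin q' hq'p hq'le
    subst this
    exact (hq'over.over).trans rfl |>.symm ▸ rfl
  refine Set.mem_biUnion hpmin ?_
  simp only [F, dif_pos (inferInstance : p.IsPrime)]
  let e := PrimeSpectrum.primesOverOrderIsoFiber R S p
  let q0 : p.primesOver S := ⟨q, hqp, inferInstance⟩
  refine ⟨(e q0).asIdeal, ?_, ?_⟩
  · rw [mem_minimalPrimes_iff']
    refine ⟨(e q0).isPrime, fun Q' hQ' hle => ?_⟩
    let Q'' : PrimeSpectrum (p.Fiber S) := ⟨Q', hQ'⟩
    have h1 : Q'' ≤ e q0 := hle
    have h2 : e.symm Q'' ≤ q0 := by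
      rw [← e.symm_apply_apply q0]
      exact e.symm.monotone h1
    have h3 : (e.symm Q'').1 = q := hqmin _ (e.symm Q'').2.1 h2
    have h4 : e.symm Q'' = q0 := Subtype.ext h3
    have h5 : Q'' = e q0 := by rw [← h4, e.apply_symm_apply]
    exact congrArg PrimeSpectrum.asIdeal h5
  · have := PrimeSpectrum.coe_primesOverOrderIsoFiber_symm_apply (R := R) (S := S) (p := p) (e q0)
    rw [e.symm_apply_apply] at this
    exact this.symm

/-- points maximal under generization -/
def Gen (T : Type*) [TopologicalSpace T] : Set T := {t | ∀ t', t' ⤳ t → t' = t}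

theorem genericPoints_eq_gen (T : Type*) [TopologicalSpace T] [QuasiSober T] [T0Space T] :
    genericPoints T = Gen T := by
  ext x
  constructor
  · intro hx y hy
    have hx' : closure {x} ∈ irreducibleComponents T := hx
    have h1 : closure {x} ⊆ closure {y} := specializes_iff_closure_subset.1 hy
    have h2 : closure {y} ⊆ closure {x} :=
      hx'.2 (isIrreducible_singleton.closure) h1
    have h3 : x ⤳ y := specializes_iff_closure_subset.2 h2
    exact (hy.antisymm h3).eq
  · intro hx
    show closure {x} ∈ irreducibleComponents T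
    have hC := irreducibleComponent_mem_irreducibleComponents x
    have hirr : IsIrreducible (irreducibleComponent x) := isIrreducible_irreducibleComponent
    have hcl : IsClosed (irreducibleComponent x) := isClosed_of_mem_irreducibleComponents _ hC
    have hg := hirr.isGenericPoint_genericPoint hcl
    have h1 : hirr.genericPoint ⤳ x := by
      rw [specializes_iff_mem_closure, hg.def]
      exact mem_irreducibleComponent
    have h2 := hx _ h1
    rw [← h2, hg.def]
    exact hC

theorem finite_irreducibleComponents_iff_gen (T : Type*) [TopologicalSpace T] [QuasiSober T]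
    [T0Space T] : (irreducibleComponents T).Finite ↔ (Gen T).Finite := by
  rw [← genericPoints_eq_gen]
  exact (Equiv.set_finite_iff (genericPoints.equiv (α := T))).symm

theorem gen_subtype_of_isOpen {T : Type*} [TopologicalSpace T] {W : Set T} (hW : IsOpen W) :
    Gen ↥W = Subtype.val ⁻¹' Gen T := by
  ext x
  constructor
  · intro hx y hy
    have hyW : y ∈ W := hW.stableUnderGeneralization hy x.2
    have := hx ⟨y, hyW⟩ ((subtype_specializes_iff _ _).2 hy)
    exact congrArg Subtype.val this
  · intro hx y hy
    exact Subtype.ext (hx y ((subtype_specializes_iff _ _).1 hy))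

theorem finite_irreducibleComponents_open_iff {T : Type*} [TopologicalSpace T] [QuasiSober T]
    [T0Space T] {W : Set T} (hW : IsOpen W) :
    (irreducibleComponents ↥W).Finite ↔ (Gen T ∩ W).Finite := by
  haveI : QuasiSober ↥W := hW.isOpenEmbedding_subtypeVal.quasiSober
  rw [finite_irreducibleComponents_iff_gen, gen_subtype_of_isOpen hW]
  constructor
  · intro h
    refine (h.image Subtype.val).subset ?_
    rintro x ⟨hx, hxW⟩
    exact ⟨⟨x, hxW⟩, hx, rfl⟩
  · intro h
    refine Set.Finite.of_finite_image (f := Subtype.val) (h.subset ?_) Subtype.val_injective.injOn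
    rintro _ ⟨x, hx, rfl⟩
    exact ⟨hx, x.2⟩

theorem finite_irreducibleComponents_of_homeomorph {α β : Type*} [TopologicalSpace α]
    [TopologicalSpace β] (e : α ≃ₜ β) (h : (irreducibleComponents α).Finite) :
    (irreducibleComponents β).Finite := by
  refine Set.Finite.of_finite_image (f := fun t => e ⁻¹' t) (h.subset ?_) ?_
  · rintro _ ⟨t, ht, rfl⟩
    refine preimage_mem_irreducibleComponents ht e.isOpenEmbedding ?_
    rw [e.range_coe, Set.inter_univ]
    exact ht.1.nonempty
  · intro s _ t _ hst
    exact (Set.preimage_injective.2 e.surjective) hst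

theorem finite_irreducibleComponents_iff_of_isAffineOpen {Z : Scheme.{u}} {U : Z.Opens}
    (hU : IsAffineOpen U) :
    (irreducibleComponents ↥U).Finite ↔ (minimalPrimes Γ(Z, U)).Finite := by
  let e : ↥U ≃ₜ PrimeSpectrum Γ(Z, U) := Scheme.homeoOfIso hU.isoSpec
  have h1 : (irreducibleComponents ↥U).Finite ↔
      (irreducibleComponents (PrimeSpectrum Γ(Z, U))).Finite :=
    ⟨finite_irreducibleComponents_of_homeomorph e, finite_irreducibleComponents_of_homeomorph e.symm⟩
  rw [h1]
  exact (Equiv.set_finite_iff
    ((minimalPrimes.equivIrreducibleComponents Γ(Z, U)).toEquiv.trans OrderDual.ofDual)).symm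

/-- If `f : Y ⟶ X` is flat and locally of finite type and every quasi-compact open of `X` has
finitely many irreducible components, then so does every quasi-compact open of `Y`. -/
theorem finite_irreducibleComponents_of_flat {Y X : Scheme.{u}} (f : Y ⟶ X) [Flat f]
    [LocallyOfFiniteType f]
    (hX : ∀ U : X.Opens, IsCompact (U : Set X) → (irreducibleComponents (U : Type u)).Finite)
    (V : Y.Opens) (hV : IsCompact (V : Set Y)) : (irreducibleComponents (V : Type u)).Finite := by
  suffices h : (Gen Y ∩ (V : Set Y)).Finite from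
    (finite_irreducibleComponents_open_iff (T := Y) (W := (V : Set Y)) V.isOpen).2 h
  -- local affine pieces
  have key : ∀ v : ↥V, ∃ W : Y.Opens, IsAffineOpen W ∧ (v : Y) ∈ W ∧ (Gen Y ∩ W).Finite := by
    intro v
    obtain ⟨_, ⟨X', hX', rfl⟩, hfv, -⟩ :=
      X.isBasis_affineOpens.exists_subset_of_mem_open (Set.mem_univ (f v.1)) isOpen_univ
    obtain ⟨_, ⟨W, hW, rfl⟩, hvW, hWle⟩ :=
      Y.isBasis_affineOpens.exists_subset_of_mem_open (show v.1 ∈ (f ⁻¹ᵁ X' : Set Y) from hfv)
        (f ⁻¹ᵁ X').isOpen
    refine ⟨W, hW, hvW, ?_⟩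
    refine (finite_irreducibleComponents_open_iff (T := Y) (W := (W : Set Y)) W.isOpen).1 ?_
    refine (finite_irreducibleComponents_iff_of_isAffineOpen hW).2 ?_
    have hXfin : (minimalPrimes Γ(X, X')).Finite :=
      (finite_irreducibleComponents_iff_of_isAffineOpen hX').1 (hX X' hX'.isCompact)
    have e : W ≤ f ⁻¹ᵁ X' := hWle
    have hfl := Flat.flat_appLE f hX' hW e
    have hft := LocallyOfFiniteType.finiteType_appLE f hX' hW e
    letI := (f.appLE X' W e).hom.toAlgebra
    haveI : Module.Flat Γ(X, X') Γ(Y, W) := hfl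
    haveI : Algebra.FiniteType Γ(X, X') Γ(Y, W) := hft
    exact minimalPrimes_finite_of_flat Γ(X, X') Γ(Y, W) hXfin
  choose W hWaff hvW hWfin using key
  obtain ⟨t, ht⟩ := hV.elim_finite_subcover (fun v : ↥V => (W v : Set Y))
    (fun v => (W v).isOpen) (fun y hy => Set.mem_iUnion.2 ⟨⟨y, hy⟩, hvW ⟨y, hy⟩⟩)
  refine (t.finite_toSet.biUnion fun v _ => hWfin v).subset ?_
  rintro y ⟨hy, hyV⟩
  obtain ⟨v, hv, hyv⟩ := Set.mem_iUnion₂.1 (ht hyV)
  exact Set.mem_biUnion hv ⟨hy, hyv⟩

end Groth.Agent.Lib.Helper46.IrrCompFlat
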