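import Mathlib
import Groth.Prelude.Def_LieS
import Groth.Agent.S12627
import Groth.Agent.S8034

set_option autoImplicit false
universe u
open CategoryTheory CategoryTheory.Limits MonoidalCategory CartesianMonoidalCategory MonObj GrpObj AlgebraicGeometry
open IsLocalRing
open Groth.Agent.Lib.Helper19 Groth.Agent.Lib.Helper19.Cartier
open Groth.Agent.S12627

namespace Groth.Agent.Lib.Helper46.LieKerK8

/-- Ring core: infinitesimal lifting for a formally smooth ring map. -/
theorem ring_core {R S B C : Type u} [CommRing R] [CommRing S] [CommRing B] [CommRing C]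
    (φ : R →+* S) (hfs : φ.FormallySmooth) (v : R →+* B) (g : B →+* C) (e : S →+* C)
    (hg : Function.Surjective g) (hg' : IsNilpotent (RingHom.ker g))
    (h : e.comp φ = g.comp v) :
    ∃ ũ : S →+* B, ũ.comp φ = v ∧ g.comp ũ = e := by
  letI := φ.toAlgebra
  haveI : Algebra.FormallySmooth R S := hfs
  letI : Algebra R B := v.toAlgebra
  letI : Algebra R C := (g.comp v).toAlgebra
  let f : S →ₐ[R] C := { e with commutes' := fun r => RingHom.congr_fun h r }
  let gA : B →ₐ[R] C := { g with commutes' := fun r => rfl }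
  let l := Algebra.FormallySmooth.liftOfSurjective f gA hg hg'
  refine ⟨l.toRingHom, ?_, ?_⟩
  · ext r
    exact l.commutes r
  · ext x
    exact Algebra.FormallySmooth.liftOfSurjective_apply f gA hg hg' x

theorem K8 {k : Type u} [Field k] {G H : Over (Spec (CommRingCat.of k))} [GrpObj G] [GrpObj H]
    (φ : A H ⟶ A G) (w : sA H ≫ φ = sA G) (haug : φ ≫ εA G = εA H)
    (hfs : φ.hom.FormallySmooth) (v : TanVec H k) :
    ∃ u : TanVec G k, push φ w haug u = v := by
  have hg : Function.Surjective (fstKM k k).hom := by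
    intro c
    exact ⟨TrivSqZeroExt.inl c, rfl⟩
  have hg' : IsNilpotent (RingHom.ker (fstKM k k).hom) := by
    refine ⟨2, ?_⟩
    exact TrivSqZeroExt.kerIdeal_sq k k
  have h : (εA G).hom.comp φ.hom = (fstKM k k).hom.comp v.hom.hom := by
    have h1 := congrArg CommRingCat.Hom.hom haug
    have h2 := congrArg CommRingCat.Hom.hom v.aug
    rw [CommRingCat.hom_comp] at h1 h2
    rw [h1, h2]
  obtain ⟨ũ, h1, h2⟩ := ring_core φ.hom hfs v.hom.hom (fstKM k k).hom (εA G).hom hg hg' h
  have e1 : φ ≫ CommRingCat.ofHom ũ = v.hom := by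
    apply CommRingCat.hom_ext
    exact h1
  have e2 : CommRingCat.ofHom ũ ≫ fstKM k k = εA G := by
    apply CommRingCat.hom_ext
    exact h2
  refine ⟨{ hom := CommRingCat.ofHom ũ, w := ?_, aug := e2 }, ?_⟩
  · rw [← w, Category.assoc, e1, v.w]
  · apply TanVec.ext
    exact e1

end Groth.Agent.Lib.Helper46.LieKerK8
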