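import Mathlib
import Groth.Agent.S9207
import Groth.Agent.Lib.Helper73.DimFormula.OpenFT
import Groth.Prelude.Def_Cyc

set_option autoImplicit false
universe u
open CategoryTheory AlgebraicGeometry Limits

namespace Groth.Agent.Lib.Helper46

/-- Let `S = lim S_i`, `f₀ : X₀ ⟶ Y₀ ⟶ S_{i₀}` and `X ⟶ Y` the base change to `S`. If the image of
`X ⟶ X₀` avoids the image of a quasi-compact scheme `T ⟶ X₀`, then so does the image of
`X_j ⟶ X₀` for all `j` beyond some stage. -/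
theorem exists_stage_forall_not_mem_range {I : Type u} [SmallCategory I] [IsCofiltered I]
    (D : I ⥤ Scheme.{u}) (c : Cone D) (hc : IsLimit c)
    [∀ (i j : I) (f : i ⟶ j), IsAffineHom (D.map f)] (i₀ : I)
    {X₀ Y₀ : Scheme.{u}} (f₀ : X₀ ⟶ Y₀) (g₀ : Y₀ ⟶ D.obj i₀)
    {X Y : Scheme.{u}} (f : X ⟶ Y) (g : Y ⟶ c.pt) (qY : Y ⟶ Y₀) (qX : X ⟶ X₀)
    (hY : IsPullback qY g g₀ (c.π.app i₀)) (hX : IsPullback qX f f₀ qY)
    {T : Scheme.{u}} (a : T ⟶ X₀) [CompactSpace T]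
    (h : ∀ x : X, qX.base x ∉ Set.range a.base) :
    ∃ (i : I) (φ : i ⟶ i₀), ∀ (j : I) (ψ : j ⟶ i) (χ : j ⟶ i₀), ψ ≫ φ = χ →
      ∀ x : ↥(pullback f₀ (pullback.fst g₀ (D.map χ))),
        (pullback.fst f₀ (pullback.fst g₀ (D.map χ))).base x ∉ Set.range a.base := by
  have hbig : IsPullback qX (f ≫ g) (f₀ ≫ g₀) (c.π.app i₀) := hX.paste_vert hY
  have hempty : IsEmpty ↥(pullback (a ≫ f₀ ≫ g₀) (c.π.app i₀)) := by
    refine ⟨fun z => ?_⟩
    let m : pullback (a ≫ f₀ ≫ g₀) (c.π.app i₀) ⟶ X :=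
      hbig.lift (pullback.fst _ _ ≫ a) (pullback.snd _ _) (by
        rw [Category.assoc]; exact pullback.condition)
    have hm : m ≫ qX = pullback.fst _ _ ≫ a := hbig.lift_fst _ _ _
    refine h (m.base z) ⟨(pullback.fst (a ≫ f₀ ≫ g₀) (c.π.app i₀)).base z, ?_⟩
    rw [← Scheme.Hom.comp_apply, ← hm, Scheme.Hom.comp_apply]
  obtain ⟨i, φ, hφ⟩ : ∃ (i : I) (φ : i ⟶ i₀), IsEmpty ↥(pullback (a ≫ f₀ ≫ g₀) (D.map φ)) := by
    by_contra! H
    exact hempty.elim (Groth.Agent.S9207.aux D c hc i₀ (a ≫ f₀ ≫ g₀) fun i' φ => H i' φ).some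
  refine ⟨i, φ, ?_⟩
  rintro j ψ χ rfl x ⟨t, ht⟩
  have h3 : pullback.fst f₀ (pullback.fst g₀ (D.map (ψ ≫ φ))) ≫ f₀ ≫ g₀ =
      (pullback.snd f₀ (pullback.fst g₀ (D.map (ψ ≫ φ))) ≫
        pullback.snd g₀ (D.map (ψ ≫ φ)) ≫ D.map ψ) ≫ D.map φ := by
    rw [pullback.condition_assoc, pullback.condition, D.map_comp]
    simp only [Category.assoc]
  obtain ⟨w, -, -⟩ := Scheme.Pullback.exists_preimage_pullback
    (f := a ≫ f₀ ≫ g₀) (g := D.map φ) t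
    ((pullback.snd f₀ (pullback.fst g₀ (D.map (ψ ≫ φ))) ≫
        pullback.snd g₀ (D.map (ψ ≫ φ)) ≫ D.map ψ).base x) (by
      have h4 := congrArg (fun m => m.base x) h3
      simp only [Scheme.Hom.comp_base, TopCat.hom_comp, ContinuousMap.comp_apply] at h4 ⊢
      rw [ht]
      exact h4)
  exact hφ.false w

/-- Relative dimension `d` in terms of the local fibre dimension. -/
theorem hasRelDim_iff_forall_fibreDimAt {X Y : Scheme.{u}} (f : X ⟶ Y) [LocallyOfFiniteType f]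
    (d : ℕ) : Cyc.HasRelDim f d ↔ ∀ x : X, FlatMor.fibreDimAt f x = ((d : ℕ) : WithBot ℕ∞) := by
  constructor
  · intro h x
    obtain ⟨T, hT, hTd⟩ := (Groth.Agent.Lib.Helper73.mem_fiberDims_iff_exists_fibreDimAt f
      (f.base x) (FlatMor.fibreDimAt f x)).mpr ⟨x, rfl, rfl⟩
    rw [← hTd]
    exact h (f.base x) T hT
  · intro h y T hT
    obtain ⟨x, -, hx⟩ := (Groth.Agent.Lib.Helper73.mem_fiberDims_iff_exists_fibreDimAt f y
      (topologicalKrullDim ↥T)).mp ⟨T, hT, rfl⟩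
    rw [← hx]
    exact h x

end Groth.Agent.Lib.Helper46
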