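import Mathlib
import Groth.Agent.S9218
import Groth.Agent.S4805

set_option autoImplicit false
universe u
open CategoryTheory AlgebraicGeometry Limits

namespace Groth.Agent.Lib.Helper46

/-- Two finitely presented models `Xi`, `Yi` over a stage `S_i` of a cofiltered limit `S = lim S_i`
whose base changes to `S` agree become isomorphic over some later stage: there is a single
`X₀ ⟶ S_j` which is simultaneously a base change of `Xi` and of `Yi`, and whose base change to
`S` is `X`. -/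
theorem exists_common_stage {I : Type u} [SmallCategory I] [IsCofiltered I]
    (D : I ⥤ Scheme.{u}) (c : Cone D) (hc : IsLimit c)
    [∀ (i j : I) (f : i ⟶ j), IsAffineHom (D.map f)] [∀ i, CompactSpace (D.obj i)] (i : I)
    {Xi Yi : Scheme.{u}} (xi : Xi ⟶ D.obj i) (yi : Yi ⟶ D.obj i)
    [CompactSpace Xi] [QuasiSeparatedSpace Xi] [LocallyOfFinitePresentation xi]
    [CompactSpace Yi] [QuasiSeparatedSpace Yi] [LocallyOfFinitePresentation yi]
    [QuasiCompact xi] [QuasiSeparated xi] [QuasiCompact yi] [QuasiSeparated yi]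
    {X : Scheme.{u}} (pX : X ⟶ c.pt) (qX : X ⟶ Xi) (hX : IsPullback qX pX xi (c.π.app i))
    (qY : X ⟶ Yi) (hY : IsPullback qY pX yi (c.π.app i)) :
    ∃ (j : I) (ψ : j ⟶ i) (X₀ : Scheme.{u}) (f₀ : X₀ ⟶ D.obj j) (g' : X ⟶ X₀)
      (a : X₀ ⟶ Xi) (b : X₀ ⟶ Yi),
      IsPullback g' pX f₀ (c.π.app j) ∧ IsPullback a f₀ xi (D.map ψ) ∧
        IsPullback b f₀ yi (D.map ψ) := by
  obtain ⟨j, φ, fj, sX, sY, h1, h2, h3, h4, h5, h6⟩ :=
    Groth.Agent.S9218.result D c hc i xi yi qX pX hX qY pX hY (𝟙 X) (Category.id_comp _)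
  have hXj : IsPullback sX pX (pullback.snd xi (D.map φ)) (c.π.app j) := by
    refine IsPullback.of_right ?_ h3 (IsPullback.of_hasPullback xi (D.map φ))
    rw [h2, c.w φ]
    exact hX
  have hYj : IsPullback sY pX (pullback.snd yi (D.map φ)) (c.π.app j) := by
    refine IsPullback.of_right ?_ h5 (IsPullback.of_hasPullback yi (D.map φ))
    rw [h4, c.w φ]
    exact hY
  haveI : LocallyOfFinitePresentation (fj ≫ pullback.snd yi (D.map φ)) := by
    rw [h1]; infer_instance
  haveI : QuasiCompact (fj ≫ pullback.snd yi (D.map φ)) := by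
    rw [h1]; infer_instance
  haveI : QuasiSeparated (fj ≫ pullback.snd yi (D.map φ)) := by
    rw [h1]; infer_instance
  have hT : IsPullback sX (𝟙 X) fj sY := by
    refine IsPullback.of_bot ?_ ?_ hYj
    · rw [h1, Category.id_comp]
      exact hXj
    · rw [h6]
  obtain ⟨j', φ', Xj, Yj, fj', gj, pY, pX', hp1, hp2, hiso⟩ :=
    Groth.Agent.S4805.result D c hc j fj (pullback.snd yi (D.map φ)) (𝟙 X) pX sY sX hYj hT
  have hV : IsPullback pX' (fj' ≫ gj) (pullback.snd xi (D.map φ)) (D.map φ') := by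
    have := hp2.paste_vert hp1
    rwa [h1] at this
  have hw : sX ≫ pullback.snd xi (D.map φ) = (pX ≫ c.π.app j') ≫ D.map φ' := by
    rw [h3, Category.assoc, c.w φ']
  refine ⟨j', φ' ≫ φ, Xj, fj' ≫ gj, hV.lift sX (pX ≫ c.π.app j') hw,
    pX' ≫ pullback.fst xi (D.map φ), fj' ≫ pY ≫ pullback.fst yi (D.map φ), ?_, ?_, ?_⟩
  · refine IsPullback.of_right ?_ (hV.lift_snd _ _ hw) hV
    rw [hV.lift_fst, c.w φ']
    exact hXj
  · have := hV.paste_horiz (IsPullback.of_hasPullback xi (D.map φ))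
    rwa [← D.map_comp] at this
  · have h7 := hp1.paste_horiz (IsPullback.of_hasPullback yi (D.map φ))
    have h8 : IsPullback fj' (fj' ≫ gj) gj (𝟙 _) :=
      IsPullback.of_horiz_isIso ⟨by simp⟩
    have := h8.paste_horiz h7
    rwa [Category.id_comp, ← D.map_comp] at this

end Groth.Agent.Lib.Helper46
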