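import Mathlib
import Groth.Agent.Lib.Helper46.LimFlat

/-!
# Descent of ring-hom properties along filtered colimits: generic ring-level framework

`StageProp Q`: for a finitely presented `A`-algebra `B` and a filtered system `G` of `A`-algebras
with colimit `c.pt`, if `c.pt → c.pt ⊗[A] B` has `Q` then so does some `G_k → G_k ⊗[A] B`.

`SubalgStage Q`: the version for models over a f.g. `ℤ`-algebra `k₀` and f.g. subalgebras.
`stageProp_of_subalgStage` deduces the former from the latter.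
-/

set_option autoImplicit false
set_option linter.style.haveILetI false
universe u
open CategoryTheory Limits TensorProduct

namespace Groth.Agent.Lib.Helper46.LimProp

section

variable (Q : ∀ {R S : Type u} [CommRing R] [CommRing S], (R →+* S) → Prop)

/-- Ring-level descent to a finite stage of a filtered colimit. -/
def StageProp : Prop :=
  ∀ {A B : Type u} [CommRing A] [CommRing B] [Algebra A B] [Algebra.FinitePresentation A B]
    {J : Type u} [SmallCategory J] [IsFiltered J] (G : J ⥤ CommRingCat.{u}) (c : Cocone G)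
    (hc : IsColimit c) (α : (Functor.const J).obj (CommRingCat.of A) ⟶ G) (j₀ : J),
    (letI : Algebra A c.pt := (α.app j₀ ≫ c.ι.app j₀).hom.toAlgebra;
      Q (algebraMap c.pt (c.pt ⊗[A] B))) →
    ∃ k : J, (letI : Algebra A (G.obj k) := (α.app k).hom.toAlgebra;
      Q (algebraMap (G.obj k) (G.obj k ⊗[A] B)))

/-- Ring-level descent to a finitely generated subalgebra, for a model over a f.g. `ℤ`-algebra. -/
def SubalgStage : Prop :=
  ∀ (k₀ N R : Type u) [CommRing k₀] [CommRing N] [CommRing R] [Algebra k₀ N] [Algebra k₀ R]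
    [Algebra.FiniteType ℤ k₀] [Algebra.FinitePresentation k₀ N],
    Q (algebraMap R (R ⊗[k₀] N)) →
      ∃ R₁ : Subalgebra k₀ R, R₁.FG ∧ Q (algebraMap R₁ (R₁ ⊗[k₀] N))

variable {Q}

lemma of_algEquiv (hQ : RingHom.RespectsIso @Q) {A X Y : Type u} [CommRing A] [CommRing X]
    [CommRing Y] [Algebra A X] [Algebra A Y] (e : X ≃ₐ[A] Y) (h : Q (algebraMap A X)) :
    Q (algebraMap A Y) := by
  have h1 := hQ.1 (algebraMap A X) e.toRingEquiv h
  have : e.toRingEquiv.toRingHom.comp (algebraMap A X) = algebraMap A Y := by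
    ext a
    simp
  rwa [this] at h1

/-- Transfer of `Q` from the general form to the model. -/
theorem model_of (hQ : RingHom.RespectsIso @Q) {k₀ A B N A' : Type u} [CommRing k₀] [CommRing A]
    [CommRing B] [CommRing N] [CommRing A']
    [Algebra k₀ A] [Algebra A B] [Algebra k₀ N] (e₀ : A ⊗[k₀] N ≃ₐ[A] B)
    [Algebra A A'] [Algebra k₀ A'] [IsScalarTower k₀ A A']
    (h : Q (algebraMap A' (A' ⊗[A] B))) : Q (algebraMap A' (A' ⊗[k₀] N)) := by
  let e1 : A' ⊗[A] B ≃ₐ[A'] A' ⊗[A] (A ⊗[k₀] N) :=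
    Algebra.TensorProduct.congr AlgEquiv.refl e₀.symm
  let e2 : A' ⊗[A] (A ⊗[k₀] N) ≃ₐ[A'] A' ⊗[k₀] N :=
    Algebra.TensorProduct.cancelBaseChange k₀ A A' A' N
  exact of_algEquiv hQ (e1.trans e2) h

/-- Transfer of `Q` from a model over a smaller ring `R₁`. -/
theorem of_model (hQ : RingHom.RespectsIso @Q) (hQbc : RingHom.IsStableUnderBaseChange @Q)
    {k₀ A B N A' R₁ : Type u} [CommRing k₀] [CommRing A]
    [CommRing B] [CommRing N] [CommRing A'] [CommRing R₁]
    [Algebra k₀ A] [Algebra A B] [Algebra k₀ N] (e₀ : A ⊗[k₀] N ≃ₐ[A] B)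
    [Algebra A A'] [Algebra k₀ A'] [IsScalarTower k₀ A A']
    [Algebra k₀ R₁] [Algebra R₁ A'] [IsScalarTower k₀ R₁ A']
    (h : Q (algebraMap R₁ (R₁ ⊗[k₀] N))) : Q (algebraMap A' (A' ⊗[A] B)) := by
  let e1 : A' ⊗[A] B ≃ₐ[A'] A' ⊗[A] (A ⊗[k₀] N) :=
    Algebra.TensorProduct.congr AlgEquiv.refl e₀.symm
  let e2 : A' ⊗[A] (A ⊗[k₀] N) ≃ₐ[A'] A' ⊗[k₀] N :=
    Algebra.TensorProduct.cancelBaseChange k₀ A A' A' N
  let e3 : A' ⊗[R₁] (R₁ ⊗[k₀] N) ≃ₐ[A'] A' ⊗[k₀] N :=
    Algebra.TensorProduct.cancelBaseChange k₀ R₁ A' A' N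
  have h1 : Q (algebraMap A' (A' ⊗[R₁] (R₁ ⊗[k₀] N))) := hQbc.tensorProduct A' h
  exact of_algEquiv hQ (e3.trans (e1.trans e2).symm) h1

theorem stageProp_of_subalgStage_aux (hQ : RingHom.RespectsIso @Q)
    (hQbc : RingHom.IsStableUnderBaseChange @Q) (H : SubalgStage @Q)
    (k₀ N A B : Type u) [CommRing k₀] [CommRing N] [CommRing A] [CommRing B]
    [Algebra k₀ N] [Algebra k₀ A] [Algebra A B] [Algebra.FiniteType ℤ k₀]
    [Algebra.FinitePresentation k₀ N] (e₀ : A ⊗[k₀] N ≃ₐ[A] B)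
    {J : Type u} [SmallCategory J] [IsFiltered J] (G : J ⥤ CommRingCat.{u}) (c : Cocone G)
    (hc : IsColimit c) (α : (Functor.const J).obj (CommRingCat.of A) ⟶ G) (j₀ : J)
    (hQc : letI : Algebra A c.pt := (α.app j₀ ≫ c.ι.app j₀).hom.toAlgebra
      Q (algebraMap c.pt (c.pt ⊗[A] B))) :
    ∃ k : J, letI : Algebra A (G.obj k) := (α.app k).hom.toAlgebra
      Q (algebraMap (G.obj k) (G.obj k ⊗[A] B)) := by
  classical
  haveI : IsNoetherianRing k₀ := Algebra.FiniteType.isNoetherianRing ℤ _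
  letI algA : Algebra A c.pt := (α.app j₀ ≫ c.ι.app j₀).hom.toAlgebra
  letI algk : Algebra k₀ c.pt := ((algebraMap A c.pt).comp (algebraMap k₀ A)).toAlgebra
  haveI : IsScalarTower k₀ A c.pt := .of_algebraMap_eq fun _ => rfl
  have hfl : Q (algebraMap c.pt (c.pt ⊗[k₀] N)) := model_of hQ e₀ hQc
  obtain ⟨R₁, hR₁, hff⟩ := H k₀ N c.pt hfl
  haveI : Algebra.FiniteType k₀ ↥R₁ := (Subalgebra.fg_iff_finiteType R₁).1 hR₁
  haveI : Algebra.FinitePresentation k₀ ↥R₁ :=
    Algebra.FinitePresentation.of_finiteType.mp inferInstance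
  -- all the composites `α.app i ≫ c.ι.app i` agree
  have hα : ∀ i, α.app i ≫ c.ι.app i = α.app j₀ ≫ c.ι.app j₀ := by
    intro i
    obtain ⟨l, a, b, -⟩ := IsFilteredOrEmpty.cocone_objs i j₀
    have h1 := α.naturality a
    have h2 := α.naturality b
    simp only [Functor.const_obj_obj, Functor.const_obj_map, Category.id_comp] at h1 h2
    rw [← c.w a, ← c.w b, ← Category.assoc, ← Category.assoc, ← h1, ← h2]
  let f : CommRingCat.of k₀ ⟶ CommRingCat.of ↥R₁ := CommRingCat.ofHom (algebraMap k₀ ↥R₁)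
  let α' : (Functor.const J).obj (CommRingCat.of k₀) ⟶ G :=
    (Functor.const J).map (CommRingCat.ofHom (algebraMap k₀ A)) ≫ α
  let g : CommRingCat.of ↥R₁ ⟶ c.pt := CommRingCat.ofHom R₁.val.toRingHom
  have hg : ∀ i, f ≫ g = α'.app i ≫ c.ι.app i := by
    intro i
    simp only [α', NatTrans.comp_app, Functor.const_map_app, Category.assoc, hα i]
    rfl
  obtain ⟨i, g', hg'1, hg'2⟩ := RingHom.EssFiniteType.exists_eq_comp_ι_app_of_isColimit
    (CommRingCat.of k₀) G α' f c hc
    (by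
      change (algebraMap k₀ ↥R₁).FinitePresentation
      exact RingHom.finitePresentation_algebraMap.mpr inferInstance) g hg
  refine ⟨i, ?_⟩
  letI algAi : Algebra A (G.obj i) := (α.app i).hom.toAlgebra
  letI algki : Algebra k₀ (G.obj i) := ((algebraMap A (G.obj i)).comp (algebraMap k₀ A)).toAlgebra
  haveI : IsScalarTower k₀ A (G.obj i) := .of_algebraMap_eq fun _ => rfl
  letI algR : Algebra ↥R₁ (G.obj i) := g'.hom.toAlgebra
  haveI : IsScalarTower k₀ ↥R₁ (G.obj i) := .of_algebraMap_eq fun x => by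
    have := congr($(hg'1).hom x)
    exact this.symm
  exact of_model hQ hQbc (k₀ := k₀) (R₁ := ↥R₁) e₀ hff

theorem stageProp_of_subalgStage (hQ : RingHom.RespectsIso @Q)
    (hQbc : RingHom.IsStableUnderBaseChange @Q) (H : SubalgStage @Q) : StageProp @Q := by
  intro A B _ _ _ _ J _ _ G c hc α j₀ hQc
  exact stageProp_of_subalgStage_aux hQ hQbc H
    (Algebra.Presentation.ofFinitePresentation A B).Core
    ((Algebra.Presentation.ofFinitePresentation A B).ModelOfHasCoeffs
      (Algebra.Presentation.ofFinitePresentation A B).Core) A B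
    ((Algebra.Presentation.ofFinitePresentation A B).tensorModelOfHasCoeffsEquiv
      (Algebra.Presentation.ofFinitePresentation A B).Core) G c hc α j₀ hQc

end

/-- Flatness descends to a finite stage. -/
theorem stageProp_flat : StageProp @RingHom.Flat := by
  intro A B _ _ _ _ J _ _ G c hc α j₀ hQc
  letI : Algebra A c.pt := (α.app j₀ ≫ c.ι.app j₀).hom.toAlgebra
  have h1 : Module.Flat c.pt (c.pt ⊗[A] B) := RingHom.flat_algebraMap_iff.mp hQc
  obtain ⟨k, hk⟩ := LimFlat.exists_flat_stage G c hc α j₀ h1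
  exact ⟨k, by
    letI : Algebra A (G.obj k) := (α.app k).hom.toAlgebra
    exact RingHom.flat_algebraMap_iff.mpr hk⟩

end Groth.Agent.Lib.Helper46.LimProp
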