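import Mathlib
import Groth.Agent.Lib.Helper46.LimFlat
import Groth.Agent.Lib.Helper46.LimProp

/-!
# Local descent of morphism properties along cofiltered limits of schemes

Generic version of `LimFlat`: `P` is a property of scheme morphisms induced by a ring hom property
`Q` which descends to finite stages at the ring level (`LimProp.StageProp Q`). For a cartesian natural
transformation `τ : F ⟶ E` of cofiltered systems with affine transition maps and limit
`f : lim F ⟶ lim E`, if `f` has `P` on a neighbourhood of a point `x`, then some `τ_j` has `P`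
on a neighbourhood of the image of `x` (`exists_nhd_stage`).
-/

set_option autoImplicit false
set_option linter.style.haveILetI false
universe u
open CategoryTheory Limits TensorProduct AlgebraicGeometry

namespace Groth.Agent.Lib.Helper46.LimLoc

open Groth.Agent.Lib.Helper46.LimFlat Groth.Agent.Lib.Helper46.LimProp

section Ring

variable {Q : ∀ {R S : Type u} [CommRing R] [CommRing S], (R →+* S) → Prop}

theorem q_inr_iff_of_isPushout (hQ : RingHom.RespectsIso @Q) {R S T P : CommRingCat.{u}}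
    {f : R ⟶ S} {g : R ⟶ T}
    {inl : S ⟶ P} {inr : T ⟶ P} (H : IsPushout f g inl inr) :
    Q inr.hom ↔ (letI : Algebra R S := f.hom.toAlgebra
      letI : Algebra R T := g.hom.toAlgebra
      Q (algebraMap T (T ⊗[R] S))) := by
  letI : Algebra R S := f.hom.toAlgebra
  letI : Algebra R T := g.hom.toAlgebra
  have H' := CommRingCat.isPushout_tensorProduct R T S
  let e := H'.isoIsPushout _ _ H.flip
  have he : CommRingCat.ofHom (Algebra.TensorProduct.includeLeftRingHom (R := R) (A := T) (B := S)) ≫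
      e.hom = inr :=
    IsPushout.inl_isoIsPushout_hom _ _ H' H.flip
  rw [← he, CommRingCat.hom_comp, hQ.cancel_right_isIso]
  exact Iff.rfl

lemma q_tensor_congr {R S T : Type u} [CommRing R] [CommRing S] [CommRing T] [Algebra R S]
    {g g' : R →+* T} (h : g = g') :
    (letI : Algebra R T := g.toAlgebra; Q (algebraMap T (T ⊗[R] S))) ↔
      (letI : Algebra R T := g'.toAlgebra; Q (algebraMap T (T ⊗[R] S))) := by
  subst h; rfl

end Ring

variable {P : MorphismProperty Scheme.{u}}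
  {Q : ∀ {R S : Type u} [CommRing R] [CommRing S], (R →+* S) → Prop} [HasRingHomProperty P Q]

theorem exists_app_of_isAffine (hQs : StageProp @Q) {J : Type u} [SmallCategory J] [IsCofiltered J]
    {F E : J ⥤ Scheme.{u}} (τ : F ⟶ E)
    [∀ (i j : J) (f : i ⟶ j), IsAffineHom (E.map f)]
    [∀ j, IsAffine (E.obj j)] [∀ j, IsAffine (F.obj j)]
    (cF : Cone F) (cE : Cone E) (hcE : IsLimit cE) (f : cF.pt ⟶ cE.pt)
    (hcart : ∀ {j k : J} (φ : k ⟶ j), IsPullback (F.map φ) (τ.app k) (τ.app j) (E.map φ))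
    (hlim : ∀ j, IsPullback (cF.π.app j) f (τ.app j) (cE.π.app j))
    (j₀ : J) (hj₀ : IsTerminal j₀) [LocallyOfFinitePresentation (τ.app j₀)] (hPf : P f) :
    ∃ k : J, P (τ.app k) := by
  have hQ : RingHom.RespectsIso @Q :=
    (HasRingHomProperty.isLocal_ringHomProperty P).respectsIso
  have hπ : IsAffineHom (cE.π.app j₀) := isAffineHom_π_app E cE hcE j₀
  have : IsAffine cE.pt := isAffine_of_isAffineHom (cE.π.app j₀)
  have : IsAffineHom f := MorphismProperty.of_isPullback (P := @IsAffineHom) (hlim j₀) inferInstance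
  have : IsAffine cF.pt := isAffine_of_isAffineHom f
  -- the rings
  let φ : Γ(E.obj j₀, ⊤) ⟶ Γ(F.obj j₀, ⊤) := (τ.app j₀).appTop
  letI algAB : Algebra Γ(E.obj j₀, ⊤) Γ(F.obj j₀, ⊤) := φ.hom.toAlgebra
  haveI : Algebra.FinitePresentation Γ(E.obj j₀, ⊤) Γ(F.obj j₀, ⊤) := by
    have := (HasRingHomProperty.iff_of_isAffine (P := @LocallyOfFinitePresentation)
      (f := τ.app j₀)).mp inferInstance
    exact RingHom.finitePresentation_algebraMap.mp this
  let G : Jᵒᵖ ⥤ CommRingCat.{u} := E.op ⋙ Scheme.Γ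
  let c : Cocone G := Scheme.Γ.mapCocone cE.op
  obtain ⟨hc⟩ : Nonempty (IsColimit c) := nonempty_isColimit_Γ_mapCocone E cE hcE
  let α : (Functor.const Jᵒᵖ).obj (CommRingCat.of Γ(E.obj j₀, ⊤)) ⟶ G :=
    { app := fun k => (E.map (hj₀.from k.unop)).appTop
      naturality := fun k k' ψ => by
        have h : E.map ψ.unop ≫ E.map (hj₀.from k.unop) = E.map (hj₀.from k'.unop) := by
          rw [← E.map_comp]; congr 1; exact hj₀.hom_ext _ _
        have h2 := congr(Scheme.Hom.appTop $h)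
        rw [Scheme.Hom.comp_appTop] at h2
        simp only [Functor.const_obj_obj, Functor.const_obj_map, Category.id_comp, G,
          Functor.comp_map, Functor.op_map, Scheme.Γ_map, Quiver.Hom.unop_op]
        exact h2.symm }
  -- the pushout at the limit
  have hUY : (⊤ : cF.pt.Opens) = cF.π.app j₀ ⁻¹ᵁ ⊤ ⊓ f ⁻¹ᵁ ⊤ := by simp
  have hpo := (isIso_pushoutSection_iff (hlim j₀) (US := ⊤) (UT := ⊤) (UX := ⊤)
    (by simp) (by simp) hUY).mp
    (isIso_pushoutSection_of_isAffineOpen (hlim j₀) (by simp) (by simp) hUY (isAffineOpen_top _)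
      (isAffineOpen_top _) (isAffineOpen_top _))
  simp only [appLE_top_top] at hpo
  have hfl : Q (f.appTop).hom := HasRingHomProperty.appTop (P := P) f hPf
  have h1 := (q_inr_iff_of_isPushout hQ hpo).mp hfl
  have hflat : (letI : Algebra Γ(E.obj j₀, ⊤) c.pt :=
        (α.app (.op j₀) ≫ c.ι.app (.op j₀)).hom.toAlgebra
      Q (algebraMap c.pt (c.pt ⊗[Γ(E.obj j₀, ⊤)] Γ(F.obj j₀, ⊤)))) := by
    refine (q_tensor_congr ?_).mp h1
    have : hj₀.from j₀ = 𝟙 j₀ := hj₀.hom_ext _ _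
    simp [α, c, this]
    rfl
  obtain ⟨k, hk⟩ := hQs G c hc α (.op j₀) hflat
  refine ⟨k.unop, ?_⟩
  have hUY' : (⊤ : (F.obj k.unop).Opens) = F.map (hj₀.from k.unop) ⁻¹ᵁ ⊤ ⊓ τ.app k.unop ⁻¹ᵁ ⊤ := by
    simp
  have hpo' := (isIso_pushoutSection_iff (hcart (hj₀.from k.unop)) (US := ⊤) (UT := ⊤) (UX := ⊤)
    (by simp) (by simp) hUY').mp
    (isIso_pushoutSection_of_isAffineOpen (hcart (hj₀.from k.unop)) (by simp) (by simp) hUY'
      (isAffineOpen_top _) (isAffineOpen_top _) (isAffineOpen_top _))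
  simp only [appLE_top_top] at hpo'
  rw [HasRingHomProperty.iff_of_isAffine (P := P)]
  exact (q_inr_iff_of_isPushout hQ hpo').mpr hk

section General

variable {J : Type u} [SmallCategory J] {F E : J ⥤ Scheme.{u}} (τ : F ⟶ E)

variable [IsCofiltered J]
    [∀ (i j : J) (f : i ⟶ j), IsAffineHom (F.map f)]
    [∀ (i j : J) (f : i ⟶ j), IsAffineHom (E.map f)]
    (cF : Cone F) (cE : Cone E) (hcE : IsLimit cE) (f : cF.pt ⟶ cE.pt)
    (hcart : ∀ {j k : J} (φ : k ⟶ j), IsPullback (F.map φ) (τ.app k) (τ.app j) (E.map φ))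
    (hlim : ∀ j, IsPullback (cF.π.app j) f (τ.app j) (cE.π.app j))

set_option backward.isDefEq.respectTransparency false in
include hcE hcart hlim in
theorem exists_restrict (hQs : StageProp @Q) [P.IsStableUnderBaseChange]
    (hPoi : ∀ {X Y Z : Scheme.{u}} (a : X ⟶ Y) (i : Y ⟶ Z) [IsOpenImmersion i], P a → P (a ≫ i))
    (j₀ : J) [LocallyOfFinitePresentation (τ.app j₀)]
    {V : (E.obj j₀).Opens} (hV : IsAffineOpen V) {W : (F.obj j₀).Opens} (hW : IsAffineOpen W)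
    (hWV : W ≤ τ.app j₀ ⁻¹ᵁ V) (hPf : P ((cF.π.app j₀ ⁻¹ᵁ W).ι ≫ f)) :
    ∃ k : Over j₀, P ((F.map k.hom ⁻¹ᵁ W).ι ≫ τ.app k.left) := by
  haveI : ∀ {i j : J} (f : i ⟶ j), IsAffineHom (E.map f) := fun f => inferInstance
  haveI : ∀ {i j : J} (f : i ⟶ j), IsAffineHom (F.map f) := fun f => inferInstance
  have hcE' : IsLimit (opensCone E cE j₀ V) := isLimitOpensCone E cE hcE j₀ V
  haveI : ∀ k, IsAffine ((opensDiagram E j₀ V).obj k) := fun k => hV.preimage (E.map k.hom)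
  haveI : ∀ k, IsAffine ((opensDiagram F j₀ W).obj k) := fun k => hW.preimage (F.map k.hom)
  haveI : ∀ (i j : Over j₀) (f : i ⟶ j), IsAffineHom ((opensDiagram E j₀ V).map f) :=
    fun i j f => inferInstance
  have hmapE : ∀ {k k' : Over j₀} (ψ : k' ⟶ k),
      E.map k'.hom ⁻¹ᵁ V = E.map ψ.left ⁻¹ᵁ (E.map k.hom ⁻¹ᵁ V) := by
    intro k k' ψ
    rw [← Scheme.Hom.comp_preimage, ← E.map_comp, Over.w ψ]
  have hmapF : ∀ {k k' : Over j₀} (ψ : k' ⟶ k),
      F.map k'.hom ⁻¹ᵁ W = F.map ψ.left ⁻¹ᵁ (F.map k.hom ⁻¹ᵁ W) := by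
    intro k k' ψ
    rw [← Scheme.Hom.comp_preimage, ← F.map_comp, Over.w ψ]
  have hcart' : ∀ {k k' : Over j₀} (ψ : k' ⟶ k),
      IsPullback ((opensDiagram F j₀ W).map ψ) ((opensNatTrans τ j₀ V W hWV).app k')
        ((opensNatTrans τ j₀ V W hWV).app k) ((opensDiagram E j₀ V).map ψ) := by
    intro k k' ψ
    have h2 : F.map k'.hom ⁻¹ᵁ W = F.map ψ.left ⁻¹ᵁ (F.map k.hom ⁻¹ᵁ W) ⊓
        τ.app k'.left ⁻¹ᵁ (E.map k'.hom ⁻¹ᵁ V) := by
      rw [← hmapF ψ]
      exact (inf_eq_left.mpr (preimage_le_of_le τ hWV k')).symm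
    exact Scheme.Hom.isPullback_resLE (hcart ψ.left) (hmapE ψ).le (preimage_le_of_le τ hWV k) h2
  have hlim' : ∀ k : Over j₀, IsPullback ((opensCone F cF j₀ W).π.app k)
      (f.resLE _ _ (preimage_le_of_le_lim τ cF cE f hlim hWV))
      ((opensNatTrans τ j₀ V W hWV).app k) ((opensCone E cE j₀ V).π.app k) := by
    intro k
    have h1 : cE.π.app j₀ ⁻¹ᵁ V ≤ cE.π.app k.left ⁻¹ᵁ (E.map k.hom ⁻¹ᵁ V) := by
      rw [← Scheme.Hom.comp_preimage, cE.w]
    have h2 : cF.π.app j₀ ⁻¹ᵁ W = cF.π.app k.left ⁻¹ᵁ (F.map k.hom ⁻¹ᵁ W) ⊓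
        f ⁻¹ᵁ (cE.π.app j₀ ⁻¹ᵁ V) := by
      have : cF.π.app k.left ⁻¹ᵁ (F.map k.hom ⁻¹ᵁ W) = cF.π.app j₀ ⁻¹ᵁ W := by
        rw [← Scheme.Hom.comp_preimage, cF.w]
      rw [this]
      exact (inf_eq_left.mpr (preimage_le_of_le_lim τ cF cE f hlim hWV)).symm
    exact Scheme.Hom.isPullback_resLE (hlim k.left) h1 (preimage_le_of_le τ hWV k) h2
  haveI : LocallyOfFinitePresentation (τ.app (Over.mk (𝟙 j₀)).left) :=
    inferInstanceAs (LocallyOfFinitePresentation (τ.app j₀))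
  haveI : LocallyOfFinitePresentation ((opensNatTrans τ j₀ V W hWV).app (Over.mk (𝟙 j₀))) := by
    rw [opensNatTrans_app]
    infer_instance
  have hPres : P (f.resLE _ _ (preimage_le_of_le_lim τ cF cE f hlim hWV)) := by
    refine MorphismProperty.of_postcomp (W := P) (W' := @IsOpenImmersion) _
      (cE.π.app j₀ ⁻¹ᵁ V).ι inferInstance ?_
    rw [Scheme.Hom.resLE_comp_ι]
    exact hPf
  obtain ⟨k, hk⟩ := exists_app_of_isAffine (P := P) hQs (opensNatTrans τ j₀ V W hWV)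
    (opensCone F cF j₀ W)
    (opensCone E cE j₀ V) hcE' (f.resLE _ _ (preimage_le_of_le_lim τ cF cE f hlim hWV))
    hcart' hlim' (Over.mk (𝟙 j₀)) Over.mkIdTerminal hPres
  refine ⟨k, ?_⟩
  have : (F.map k.hom ⁻¹ᵁ W).ι ≫ τ.app k.left =
      (opensNatTrans τ j₀ V W hWV).app k ≫ (E.map k.hom ⁻¹ᵁ V).ι := by
    simp
  rw [this]
  exact hPoi _ _ hk

omit [HasRingHomProperty P Q] in
lemma ι_comp_of_eq {X Y : Scheme.{u}} (g : X ⟶ Y) {U U' : X.Opens} (e : U = U')
    (h : P (U'.ι ≫ g)) : P (U.ι ≫ g) := by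
  subst e; exact h

include hcart in
omit [IsCofiltered J] [∀ (i j : J) (f : i ⟶ j), IsAffineHom (F.map f)]
  [∀ (i j : J) (f : i ⟶ j), IsAffineHom (E.map f)] [HasRingHomProperty P Q] in
lemma ι_comp_of_hom [P.IsStableUnderBaseChange] {k k' : J} (ψ : k' ⟶ k) (U : (F.obj k).Opens)
    (h : P (U.ι ≫ τ.app k)) : P ((F.map ψ ⁻¹ᵁ U).ι ≫ τ.app k') := by
  have h1 := (isPullback_morphismRestrict (F.map ψ) U).paste_vert (hcart ψ)
  exact MorphismProperty.of_isPullback (P := P) h1 h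

include hlim in
omit [IsCofiltered J] [∀ (i j : J) (f : i ⟶ j), IsAffineHom (F.map f)]
  [∀ (i j : J) (f : i ⟶ j), IsAffineHom (E.map f)] [HasRingHomProperty P Q] in
/-- `P` on an open of a stage implies `P` on its preimage in the limit. -/
lemma ι_comp_lim [P.IsStableUnderBaseChange] (k : J) (U : (F.obj k).Opens)
    (h : P (U.ι ≫ τ.app k)) : P ((cF.π.app k ⁻¹ᵁ U).ι ≫ f) := by
  have h1 := (isPullback_morphismRestrict (cF.π.app k) U).paste_vert (hlim k)
  exact MorphismProperty.of_isPullback (P := P) h1 h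

omit [HasRingHomProperty P Q] in
lemma ι_comp_of_le [IsZariskiLocalAtSource P] {X Y : Scheme.{u}} (g : X ⟶ Y) {U U' : X.Opens}
    (e : U ≤ U') (h : P (U'.ι ≫ g)) : P (U.ι ≫ g) := by
  have : U.ι ≫ g = X.homOfLE e ≫ U'.ι ≫ g := by simp
  rw [this]
  exact IsZariskiLocalAtSource.comp h _

include hcE hcart hlim in
/-- If `f` has `P` on a neighbourhood of `x`, then some `τ_j` has `P` on a neighbourhood of the
image of `x`. -/
theorem exists_nhd_stage (hQs : StageProp @Q) [P.IsStableUnderBaseChange]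
    (hPoi : ∀ {X Y Z : Scheme.{u}} (a : X ⟶ Y) (i : Y ⟶ Z) [IsOpenImmersion i], P a → P (a ≫ i))
    (hcF : IsLimit cF) (j₀ : J) [LocallyOfFinitePresentation (τ.app j₀)]
    (x : cF.pt) (U : cF.pt.Opens) (hxU : x ∈ U) (hPU : P (U.ι ≫ f)) :
    ∃ (j : J) (_ : j ⟶ j₀) (V : (F.obj j).Opens), (cF.π.app j).base x ∈ V ∧
      P (V.ι ≫ τ.app j) := by
  haveI : IsZariskiLocalAtSource P := inferInstance
  haveI : ∀ {i j : J} (f : i ⟶ j), IsAffineHom (F.map f) := fun f => inferInstance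
  -- a basic neighbourhood coming from a finite stage
  obtain ⟨_, ⟨_, ⟨i, W₁, -, rfl⟩, rfl⟩, hxW₁, hW₁U⟩ :=
    (isBasis_preimage_isAffineOpen F cF hcF).exists_subset_of_mem_open hxU U.isOpen
  obtain ⟨i', a, b, -⟩ := IsCofilteredOrEmpty.cone_objs i j₀
  have hlfp : LocallyOfFinitePresentation (τ.app i') :=
    MorphismProperty.of_isPullback (P := @LocallyOfFinitePresentation) (hcart b) inferInstance
  have hx2 : (cF.π.app i').base x ∈ F.map a ⁻¹ᵁ W₁ := by
    change (F.map a).base ((cF.π.app i').base x) ∈ W₁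
    rw [← Scheme.Hom.comp_apply, cF.w]
    exact hxW₁
  obtain ⟨_, ⟨V, hV : IsAffineOpen V, rfl⟩, hxV, -⟩ :=
    (E.obj i').isBasis_affineOpens.exists_subset_of_mem_open
      (Set.mem_univ ((τ.app i').base ((cF.π.app i').base x))) isOpen_univ
  obtain ⟨_, ⟨W, hW : IsAffineOpen W, rfl⟩, hxW, hWV⟩ :=
    (F.obj i').isBasis_affineOpens.exists_subset_of_mem_open
      (show (cF.π.app i').base x ∈ ((F.map a ⁻¹ᵁ W₁ ⊓ τ.app i' ⁻¹ᵁ V : (F.obj i').Opens) :
        Set (F.obj i')) from ⟨hx2, hxV⟩) (F.map a ⁻¹ᵁ W₁ ⊓ τ.app i' ⁻¹ᵁ V).isOpen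
  have hW1 : W ≤ F.map a ⁻¹ᵁ W₁ := fun y hy => (hWV hy).1
  have hW2 : W ≤ τ.app i' ⁻¹ᵁ V := fun y hy => (hWV hy).2
  have hle : cF.π.app i' ⁻¹ᵁ W ≤ U := by
    refine le_trans ?_ hW₁U
    intro y hy
    have := hW1 hy
    change (F.map a).base ((cF.π.app i').base y) ∈ W₁ at this
    rw [← Scheme.Hom.comp_apply, cF.w] at this
    exact this
  have hP1 : P ((cF.π.app i' ⁻¹ᵁ W).ι ≫ f) := ι_comp_of_le f hle hPU
  obtain ⟨k, hk⟩ := exists_restrict τ cF cE hcE f hcart hlim hQs hPoi i' hV hW hW2 hP1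
  refine ⟨k.left, k.hom ≫ b, F.map k.hom ⁻¹ᵁ W, ?_, hk⟩
  change (F.map k.hom).base ((cF.π.app k.left).base x) ∈ W
  rw [← Scheme.Hom.comp_apply, cF.w]
  exact hxW

include hcE hcart hlim in
/-- Global version: if `f` has `P` and `F_{j₀}` is quasi-compact, some `τ_j` has `P`. -/
theorem exists_app (hQs : StageProp @Q) [P.IsStableUnderBaseChange]
    (hPoi : ∀ {X Y Z : Scheme.{u}} (a : X ⟶ Y) (i : Y ⟶ Z) [IsOpenImmersion i], P a → P (a ≫ i))
    (j₀ : J) [CompactSpace (F.obj j₀)]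
    [LocallyOfFinitePresentation (τ.app j₀)] (hPf : P f) :
    ∃ (j : J) (_ : j ⟶ j₀), P (τ.app j) := by
  classical
  haveI : IsZariskiLocalAtSource P := inferInstance
  -- choose affine opens
  have key : ∀ x : F.obj j₀, ∃ (V : (E.obj j₀).Opens) (W : (F.obj j₀).Opens),
      IsAffineOpen V ∧ IsAffineOpen W ∧ x ∈ W ∧ W ≤ τ.app j₀ ⁻¹ᵁ V := by
    intro x
    obtain ⟨_, ⟨V, hV : IsAffineOpen V, rfl⟩, hxV, -⟩ :=
      (E.obj j₀).isBasis_affineOpens.exists_subset_of_mem_open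
        (Set.mem_univ ((τ.app j₀).base x)) isOpen_univ
    obtain ⟨_, ⟨W, hW : IsAffineOpen W, rfl⟩, hxW, hWV⟩ :=
      (F.obj j₀).isBasis_affineOpens.exists_subset_of_mem_open
        (show x ∈ (τ.app j₀ ⁻¹ᵁ V : Set (F.obj j₀)) from hxV) (τ.app j₀ ⁻¹ᵁ V).isOpen
    exact ⟨V, W, hV, hW, hxW, hWV⟩
  choose V W hV hW hxW hWV using key
  obtain ⟨t, ht⟩ := isCompact_univ.elim_finite_subcover (fun x => (W x : Set (F.obj j₀)))
    (fun x => (W x).isOpen) (fun x _ => Set.mem_iUnion.mpr ⟨x, hxW x⟩)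
  have hk : ∀ x : F.obj j₀, ∃ k : Over j₀, P ((F.map k.hom ⁻¹ᵁ W x).ι ≫ τ.app k.left) :=
    fun x => exists_restrict τ cF cE hcE f hcart hlim hQs hPoi j₀ (hV x) (hW x) (hWV x)
      (IsZariskiLocalAtSource.comp hPf _)
  choose kx hkx using hk
  obtain ⟨k, hkS⟩ := IsCofiltered.inf_objs_exists (t.image kx)
  have hψ : ∀ x ∈ t, Nonempty (k ⟶ kx x) := fun x hx => hkS (Finset.mem_image_of_mem kx hx)
  refine ⟨k.left, k.hom, ?_⟩
  refine IsZariskiLocalAtSource.of_iSup_eq_top (P := P) (fun x : t => F.map k.hom ⁻¹ᵁ W x.1) ?_ ?_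
  · ext y
    simp only [TopologicalSpace.Opens.coe_iSup, Set.mem_iUnion, TopologicalSpace.Opens.coe_top,
      Set.mem_univ, iff_true]
    obtain ⟨_, ⟨x, rfl⟩, hx⟩ := ht (Set.mem_univ ((F.map k.hom).base y))
    simp only [Set.mem_iUnion] at hx
    obtain ⟨hxt, hy⟩ := hx
    exact ⟨⟨x, hxt⟩, hy⟩
  · rintro ⟨x, hx⟩
    obtain ⟨ψ⟩ := hψ x hx
    have e : F.map k.hom ⁻¹ᵁ W x = F.map ψ.left ⁻¹ᵁ (F.map (kx x).hom ⁻¹ᵁ W x) := by
      rw [← Scheme.Hom.comp_preimage, ← F.map_comp, Over.w ψ]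
    exact ι_comp_of_eq _ e (ι_comp_of_hom τ hcart ψ.left _ (hkx x))

end General

end Groth.Agent.Lib.Helper46.LimLoc
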