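import Mathlib
import Groth.Agent.Lib.Helper46.LimProp

/-!
# Formal unramifiedness descends to a finite stage (ring level)

If `N` is a finite type `k₀`-algebra and `R ⊗[k₀] N` is formally unramified over `R`, then
`R₁ ⊗[k₀] N` is formally unramified over `R₁` for some finitely generated subalgebra `R₁ ⊆ R`.
Proof: `Ω[R ⊗ N / R] = R ⊗ Ω[N / k₀]`, and the finitely many elements `1 ⊗ D g` (`g` running over
algebra generators of `N`) already vanish in `R₁ ⊗ Ω[N / k₀]` for some f.g. `R₁`.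
-/

set_option autoImplicit false
set_option linter.style.haveILetI false
universe u
open TensorProduct

namespace Groth.Agent.Lib.Helper46.LimUnram

open Groth.Agent.Lib.Helper46.LimProp
attribute [local instance] Algebra.TensorProduct.rightAlgebra

theorem exists_fg_formallyUnramified (k₀ N R : Type u) [CommRing k₀] [CommRing N] [CommRing R]
    [Algebra k₀ N] [Algebra k₀ R] [Algebra.FiniteType k₀ N]
    [hU : Algebra.FormallyUnramified R (R ⊗[k₀] N)] :
    ∃ R₁ : Subalgebra k₀ R, R₁.FG ∧ Algebra.FormallyUnramified R₁ (R₁ ⊗[k₀] N) := by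
  classical
  obtain ⟨s, hs⟩ := (Algebra.FiniteType.out : (⊤ : Subalgebra k₀ N).FG)
  have hsub : Subsingleton (R ⊗[k₀] Ω[N⁄k₀]) :=
    (KaehlerDifferential.tensorKaehlerEquivBase k₀ R N (R ⊗[k₀] N)).toEquiv.subsingleton
  let N₀ : Submodule k₀ R := Submodule.span k₀ {1}
  have hN₀ : N₀.FG := Submodule.fg_span_singleton 1
  have one_mem : (1 : R) ∈ N₀ := Submodule.mem_span_singleton_self 1
  have key : ∀ g : N, ∃ N' : Submodule k₀ R, N'.FG ∧ ∃ h : N₀ ≤ N',
      (Submodule.inclusion h).rTensor Ω[N⁄k₀]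
        ((⟨1, one_mem⟩ : N₀) ⊗ₜ[k₀] KaehlerDifferential.D k₀ N g) = 0 := by
    intro g
    have := hN₀.exists_rTensor_fg_inclusion_eq (M := Ω[N⁄k₀])
      (x := (⟨1, one_mem⟩ : N₀) ⊗ₜ[k₀] KaehlerDifferential.D k₀ N g) (y := 0)
      (Subsingleton.elim _ _)
    simpa using this
  choose N' hN'fg hN'le hN'eq using key
  choose t ht using hN'fg
  let R₁ : Subalgebra k₀ R := Algebra.adjoin k₀ (↑(s.biUnion t) : Set R)
  have hR₁ : R₁.FG := ⟨s.biUnion t, rfl⟩
  have hle : ∀ g ∈ s, ∀ x ∈ N' g, x ∈ R₁ := by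
    intro g hg x hx
    rw [← ht g] at hx
    have h1 : Submodule.span k₀ (↑(t g) : Set R) ≤ Subalgebra.toSubmodule R₁ := by
      rw [Submodule.span_le]
      intro y hy
      exact Algebra.subset_adjoin (by
        simp only [Finset.coe_biUnion, Set.mem_iUnion]
        exact ⟨g, hg, hy⟩)
    exact h1 hx
  refine ⟨R₁, hR₁, ?_⟩
  have hD : ∀ g ∈ s, KaehlerDifferential.D ↥R₁ (↥R₁ ⊗[k₀] N) ((1 : ↥R₁) ⊗ₜ[k₀] g) = 0 := by
    intro g hg
    let ι : ↥(N' g) →ₗ[k₀] ↥R₁ :=
      { toFun := fun x => ⟨x.1, hle g hg x.1 x.2⟩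
        map_add' := fun _ _ => rfl
        map_smul' := fun _ _ => rfl }
    have h1 := congr(ι.rTensor Ω[N⁄k₀] $(hN'eq g))
    rw [map_zero, LinearMap.rTensor_tmul, LinearMap.rTensor_tmul] at h1
    have h2 : ι ((Submodule.inclusion (hN'le g)) ⟨1, one_mem⟩) = (1 : ↥R₁) := rfl
    rw [h2] at h1
    have h3 := congr(KaehlerDifferential.tensorKaehlerEquivBase k₀ ↥R₁ N (↥R₁ ⊗[k₀] N) $h1)
    rw [map_zero, KaehlerDifferential.tensorKaehlerEquivBase_tmul, one_smul,
      KaehlerDifferential.map_D] at h3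
    exact h3
  have hD0 : KaehlerDifferential.D ↥R₁ (↥R₁ ⊗[k₀] N) = 0 := by
    refine Derivation.ext_of_adjoin_eq_top (((1 : ↥R₁) ⊗ₜ[k₀] ·) '' (↑s : Set N))
      (Algebra.TensorProduct.adjoin_one_tmul_image_eq_top _ hs) ?_
    rintro _ ⟨g, hg, rfl⟩
    simpa using hD g hg
  constructor
  have h4 : (⊤ : Submodule (↥R₁ ⊗[k₀] N) Ω[(↥R₁ ⊗[k₀] N)⁄↥R₁]) = ⊥ := by
    rw [← KaehlerDifferential.span_range_derivation, hD0, Submodule.span_eq_bot]
    rintro _ ⟨x, rfl⟩
    rfl
  exact (Submodule.subsingleton_iff (↥R₁ ⊗[k₀] N)).mp (subsingleton_of_bot_eq_top h4.symm)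

theorem subalgStage_formallyUnramified : SubalgStage @RingHom.FormallyUnramified := by
  intro k₀ N R _ _ _ _ _ _ _ h
  haveI : Algebra.FormallyUnramified R (R ⊗[k₀] N) := RingHom.formallyUnramified_algebraMap.mp h
  obtain ⟨R₁, h1, h2⟩ := exists_fg_formallyUnramified k₀ N R
  exact ⟨R₁, h1, RingHom.formallyUnramified_algebraMap.mpr h2⟩

theorem stageProp_formallyUnramified : StageProp @RingHom.FormallyUnramified :=
  stageProp_of_subalgStage RingHom.FormallyUnramified.respectsIso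
    RingHom.FormallyUnramified.isStableUnderBaseChange subalgStage_formallyUnramified

end Groth.Agent.Lib.Helper46.LimUnram
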