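import Mathlib
import Groth.Agent.Lib.Helper46.LimLoc
import Groth.Agent.Lib.Helper46.LimUnram

/-!
# Local descent of étaleness along cofiltered limits of schemes

Étale = flat + formally unramified + locally of finite presentation; combine the two local descent
statements at a common stage.
-/

set_option autoImplicit false
set_option linter.style.haveILetI false
universe u
open CategoryTheory Limits AlgebraicGeometry

namespace Groth.Agent.Lib.Helper46.LimEtale

open Groth.Agent.Lib.Helper46.LimProp Groth.Agent.Lib.Helper46.LimLoc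

variable {J : Type u} [SmallCategory J] {F E : J ⥤ Scheme.{u}} (τ : F ⟶ E)
    [IsCofiltered J]
    [∀ (i j : J) (f : i ⟶ j), IsAffineHom (F.map f)]
    [∀ (i j : J) (f : i ⟶ j), IsAffineHom (E.map f)]
    (cF : Cone F) (cE : Cone E) (hcE : IsLimit cE) (f : cF.pt ⟶ cE.pt)
    (hcart : ∀ {j k : J} (φ : k ⟶ j), IsPullback (F.map φ) (τ.app k) (τ.app j) (E.map φ))
    (hlim : ∀ j, IsPullback (cF.π.app j) f (τ.app j) (cE.π.app j))

include hcE hcart hlim in
theorem exists_nhd_stage_etale (hcF : IsLimit cF) (j₀ : J)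
    [LocallyOfFinitePresentation (τ.app j₀)]
    (x : cF.pt) (U : cF.pt.Opens) (hxU : x ∈ U) (hPU : Etale (U.ι ≫ f)) :
    ∃ (j : J) (_ : j ⟶ j₀) (V : (F.obj j).Opens), (cF.π.app j).base x ∈ V ∧
      Etale (V.ι ≫ τ.app j) := by
  have h1 : Flat (U.ι ≫ f) := inferInstance
  have h2 : FormallyUnramified (U.ι ≫ f) := inferInstance
  obtain ⟨j₁, a₁, V₁, hx₁, hP₁⟩ := exists_nhd_stage (P := @Flat) (Q := @RingHom.Flat) τ cF cE hcE f
    hcart hlim stageProp_flat
    (fun a i _ h => by have : Flat a := h; exact (inferInstance : Flat (a ≫ i)))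
    hcF j₀ x U hxU h1
  obtain ⟨j₂, a₂, V₂, hx₂, hP₂⟩ := exists_nhd_stage (P := @FormallyUnramified)
    (Q := @RingHom.FormallyUnramified) τ cF cE hcE f
    hcart hlim LimUnram.stageProp_formallyUnramified
    (fun a i _ h => by
      have hi : FormallyUnramified i := inferInstance
      exact MorphismProperty.comp_mem _ a i h hi)
    hcF j₀ x U hxU h2
  obtain ⟨j, ψ₁, ψ₂, -⟩ := IsCofilteredOrEmpty.cone_objs j₁ j₂
  refine ⟨j, ψ₁ ≫ a₁, F.map ψ₁ ⁻¹ᵁ V₁ ⊓ F.map ψ₂ ⁻¹ᵁ V₂, ⟨?_, ?_⟩, ?_⟩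
  · change (F.map ψ₁).base ((cF.π.app j).base x) ∈ V₁
    rw [← Scheme.Hom.comp_apply, cF.w]
    exact hx₁
  · change (F.map ψ₂).base ((cF.π.app j).base x) ∈ V₂
    rw [← Scheme.Hom.comp_apply, cF.w]
    exact hx₂
  · rw [Etale.iff_flat_and_formallyUnramified]
    refine ⟨ι_comp_of_le (P := @Flat) _ inf_le_left (ι_comp_of_hom (P := @Flat) τ hcart ψ₁ V₁ hP₁),
      ι_comp_of_le (P := @FormallyUnramified) _ inf_le_right
        (ι_comp_of_hom (P := @FormallyUnramified) τ hcart ψ₂ V₂ hP₂), ?_⟩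
    haveI : LocallyOfFinitePresentation (τ.app j) :=
      MorphismProperty.of_isPullback (P := @LocallyOfFinitePresentation) (hcart (ψ₁ ≫ a₁))
        inferInstance
    infer_instance

end Groth.Agent.Lib.Helper46.LimEtale
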