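import Mathlib

/-!
# Base change of a limit of morphisms of schemes to a fixed scheme over the limit base (helper46)

Given diagrams `DX DS : I ⥤ Scheme`, `φ : DX ⟶ DS`, limit cones `cX`, `cS`, the induced `f` and
`σ : T ⟶ cS.pt`, the scheme `X ×_S T` is the limit of the `X_i ×_{S_i} T`.
-/

set_option autoImplicit false
set_option backward.isDefEq.respectTransparency false
universe u
open CategoryTheory CategoryTheory.Limits AlgebraicGeometry

namespace Groth.Agent.Lib.Helper46.LimFibre

variable {I : Type u} [SmallCategory I]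
    (DX DS : I ⥤ Scheme.{u}) (φ : DX ⟶ DS) (cX : Cone DX) (cS : Cone DS)
    (f : cX.pt ⟶ cS.pt) (hf : ∀ i, f ≫ cS.π.app i = cX.π.app i ≫ φ.app i)
    {T : Scheme.{u}} (σ : T ⟶ cS.pt)

/-- The diagram `i ↦ X_i ×_{S_i} T`. -/
noncomputable def fibDiagram : I ⥤ Scheme.{u} where
  obj i := pullback (φ.app i) (σ ≫ cS.π.app i)
  map {i j} a := pullback.map (φ.app i) (σ ≫ cS.π.app i) (φ.app j) (σ ≫ cS.π.app j)
    (DX.map a) (𝟙 T) (DS.map a) (φ.naturality a).symm (by simp)
  map_id i := by
    apply pullback.hom_ext <;> simp [pullback.map]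
  map_comp a b := by
    apply pullback.hom_ext <;> simp [pullback.map]

@[reassoc (attr := simp)]
lemma fibDiagram_map_fst {i j : I} (a : i ⟶ j) :
    (fibDiagram DX DS φ cS σ).map a ≫ pullback.fst (φ.app j) (σ ≫ cS.π.app j) =
      pullback.fst (φ.app i) (σ ≫ cS.π.app i) ≫ DX.map a := by
  simp [fibDiagram, pullback.map]

@[reassoc (attr := simp)]
lemma fibDiagram_map_snd {i j : I} (a : i ⟶ j) :
    (fibDiagram DX DS φ cS σ).map a ≫ pullback.snd (φ.app j) (σ ≫ cS.π.app j) =
      pullback.snd (φ.app i) (σ ≫ cS.π.app i) := by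
  simp [fibDiagram, pullback.map]

/-- The cone with apex `X ×_S T`. -/
noncomputable def fibCone : Cone (fibDiagram DX DS φ cS σ) where
  pt := pullback f σ
  π :=
    { app := fun i => pullback.map f σ (φ.app i) (σ ≫ cS.π.app i) (cX.π.app i) (𝟙 T)
        (cS.π.app i) (hf i) (by simp)
      naturality := fun i j a => by
        apply pullback.hom_ext <;> simp [fibDiagram, pullback.map] }

@[reassoc (attr := simp)]
lemma fibCone_π_fst (i : I) :
    (fibCone DX DS φ cX cS f hf σ).π.app i ≫ pullback.fst (φ.app i) (σ ≫ cS.π.app i) =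
      pullback.fst f σ ≫ cX.π.app i := by
  simp [fibCone, pullback.map]

@[reassoc (attr := simp)]
lemma fibCone_π_snd (i : I) :
    (fibCone DX DS φ cX cS f hf σ).π.app i ≫ pullback.snd (φ.app i) (σ ≫ cS.π.app i) =
      pullback.snd f σ := by
  simp [fibCone, pullback.map]

variable [IsCofiltered I] (hX : IsLimit cX) (hS : IsLimit cS)

/-- `X ×_S T` is the limit of the `X_i ×_{S_i} T`. -/
noncomputable def isLimitFibCone : IsLimit (fibCone DX DS φ cX cS f hf σ) := by
  have key : ∀ (s : Cone (fibDiagram DX DS φ cS σ)) (i j : I),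
      s.π.app i ≫ pullback.snd (φ.app i) (σ ≫ cS.π.app i) =
        s.π.app j ≫ pullback.snd (φ.app j) (σ ≫ cS.π.app j) := by
    intro s i j
    have h1 : ∀ {i j : I} (a : i ⟶ j), s.π.app i ≫ pullback.snd (φ.app i) (σ ≫ cS.π.app i) =
        s.π.app j ≫ pullback.snd (φ.app j) (σ ≫ cS.π.app j) := by
      intro i j a
      rw [← s.w a, Category.assoc, fibDiagram_map_snd]
    rw [← h1 (IsCofiltered.minToLeft i j), h1 (IsCofiltered.minToRight i j)]
  haveI : Nonempty I := IsCofiltered.nonempty
  let i₀ : I := Classical.arbitrary I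
  let sX : ∀ s : Cone (fibDiagram DX DS φ cS σ), Cone DX := fun s =>
    { pt := s.pt
      π :=
        { app := fun i => s.π.app i ≫ pullback.fst (φ.app i) (σ ≫ cS.π.app i)
          naturality := fun i j a => by
            dsimp
            rw [Category.id_comp, ← s.w a, Category.assoc, fibDiagram_map_fst, Category.assoc] } }
  have hcond : ∀ s : Cone (fibDiagram DX DS φ cS σ),
      hX.lift (sX s) ≫ f = (s.π.app i₀ ≫ pullback.snd (φ.app i₀) (σ ≫ cS.π.app i₀)) ≫ σ := by
    intro s
    apply hS.hom_ext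
    intro i
    rw [Category.assoc, hf i, ← Category.assoc, hX.fac, Category.assoc, key s i₀ i]
    dsimp [sX]
    rw [Category.assoc, Category.assoc, pullback.condition]
  exact
    { lift := fun s => pullback.lift (hX.lift (sX s))
        (s.π.app i₀ ≫ pullback.snd (φ.app i₀) (σ ≫ cS.π.app i₀)) (hcond s)
      fac := fun s i => by
        apply pullback.hom_ext
        · rw [Category.assoc, fibCone_π_fst, pullback.lift_fst_assoc, hX.fac]
        · rw [Category.assoc, fibCone_π_snd, pullback.lift_snd, key s i₀ i]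
      uniq := fun s m hm => by
        apply pullback.hom_ext
        · rw [pullback.lift_fst]
          apply hX.hom_ext
          intro i
          rw [hX.fac, Category.assoc, ← fibCone_π_fst DX DS φ cX cS f hf σ i, ← Category.assoc, hm]
        · rw [pullback.lift_snd, ← hm i₀, Category.assoc, fibCone_π_snd] }

omit [IsCofiltered I] in
/-- The transition maps of the fibre diagram are base changes of the comparison maps
`X_i ⟶ X_j ×_{S_j} S_i`. -/
theorem isPullback_fibDiagram_map {i j : I} (a : i ⟶ j) :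
    ∃ q : (fibDiagram DX DS φ cS σ).obj j ⟶ pullback (φ.app j) (DS.map a),
      IsPullback ((fibDiagram DX DS φ cS σ).map a) (pullback.fst (φ.app i) (σ ≫ cS.π.app i)) q
        (pullback.lift (DX.map a) (φ.app i) (φ.naturality a)) := by
  have hcond : pullback.fst (φ.app j) (σ ≫ cS.π.app j) ≫ φ.app j =
      (pullback.snd (φ.app j) (σ ≫ cS.π.app j) ≫ σ ≫ cS.π.app i) ≫ DS.map a := by
    rw [pullback.condition]
    simp
  let q : (fibDiagram DX DS φ cS σ).obj j ⟶ pullback (φ.app j) (DS.map a) :=
    pullback.lift (pullback.fst (φ.app j) (σ ≫ cS.π.app j))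
      (pullback.snd (φ.app j) (σ ≫ cS.π.app j) ≫ σ ≫ cS.π.app i) hcond
  have hq1 : q ≫ pullback.fst (φ.app j) (DS.map a) = pullback.fst (φ.app j) (σ ≫ cS.π.app j) :=
    pullback.lift_fst _ _ _
  have hq2 : q ≫ pullback.snd (φ.app j) (DS.map a) =
      pullback.snd (φ.app j) (σ ≫ cS.π.app j) ≫ σ ≫ cS.π.app i := pullback.lift_snd _ _ _
  -- right square
  have hR : IsPullback q (pullback.snd (φ.app j) (σ ≫ cS.π.app j))
      (pullback.snd (φ.app j) (DS.map a)) (σ ≫ cS.π.app i) := by
    refine IsPullback.of_right ?_ hq2 (IsPullback.of_hasPullback (φ.app j) (DS.map a))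
    rw [hq1]
    have : (σ ≫ cS.π.app i) ≫ DS.map a = σ ≫ cS.π.app j := by simp
    rw [this]
    exact IsPullback.of_hasPullback _ _
  refine ⟨q, ?_⟩
  refine IsPullback.of_right (h₁₂ := pullback.snd (φ.app j) (σ ≫ cS.π.app j))
    (h₂₂ := pullback.snd (φ.app j) (DS.map a)) (v₁₃ := σ ≫ cS.π.app i) ?_ ?_ hR.flip
  · rw [fibDiagram_map_snd, pullback.lift_snd]
    exact (IsPullback.of_hasPullback _ _).flip
  · apply pullback.hom_ext
    · rw [Category.assoc, hq1, fibDiagram_map_fst, Category.assoc, pullback.lift_fst]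
    · rw [Category.assoc, hq2, fibDiagram_map_snd_assoc, Category.assoc, pullback.lift_snd,
        pullback.condition]

omit [IsCofiltered I] in
theorem isClosedImmersion_fibDiagram_map {i j : I} (a : i ⟶ j)
    [IsClosedImmersion (pullback.lift (DX.map a) (φ.app i) (φ.naturality a))] :
    IsClosedImmersion ((fibDiagram DX DS φ cS σ).map a) := by
  obtain ⟨q, hq⟩ := isPullback_fibDiagram_map DX DS φ cS σ a
  exact MorphismProperty.of_isPullback (P := @IsClosedImmersion) hq.flip inferInstance

end Groth.Agent.Lib.Helper46.LimFibre
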