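import Mathlib
import Groth.Agent.Lib.Helper46.LimLoc
import Groth.Agent.Lib.Helper50.LimStage
import Groth.Agent.Lib.Helper50.LimDesc10

/-!
# "`P` near a point of the limit iff `P` near its image at some stage" (EGA IV 17.7.8-style)

Generic assembly, in the format of the `Unram17` statements, on top of `LimLoc.exists_nhd_stage`
and helper50's `StageSetup`.
-/

set_option autoImplicit false
set_option linter.style.haveILetI false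
universe u
open CategoryTheory Limits AlgebraicGeometry

namespace Groth.Agent.Lib.Helper46.LimLocStage

open Groth.Agent.Lib.Helper46.LimProp Groth.Agent.Lib.Helper50 Groth.Agent.Lib.Helper50.StageSetup

variable {P : MorphismProperty Scheme.{u}}
  {Q : ∀ {R S : Type u} [CommRing R] [CommRing S], (R →+* S) → Prop} [HasRingHomProperty P Q]

/-- The direction "stage ⇒ limit": pure base change. -/
theorem nhd_of_stage [P.IsStableUnderBaseChange] {I : Type u} [SmallCategory I]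
    (D : I ⥤ Scheme.{u}) (c : Limits.Cone D) (i₀ : I)
    {X₀ Y₀ : Scheme.{u}} (f₀ : X₀ ⟶ Y₀) (g₀ : Y₀ ⟶ D.obj i₀)
    {X Y : Scheme.{u}} (f : X ⟶ Y) (g : Y ⟶ c.pt) (qY : Y ⟶ Y₀) (qX : X ⟶ X₀)
    (hY : IsPullback qY g g₀ (c.π.app i₀)) (hX : IsPullback qX f f₀ qY) (x : ↥X)
    (j : I) (φ : j ⟶ i₀) (Xj Yj : Scheme.{u}) (fj : Xj ⟶ Yj) (gj : Yj ⟶ D.obj j) (pY : Yj ⟶ Y₀)
    (pX : Xj ⟶ X₀) (rX : X ⟶ Xj) (h1 : IsPullback pY gj g₀ (D.map φ))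
    (h2 : IsPullback pX fj f₀ pY) (e1 : rX ≫ pX = qX) (e2 : rX ≫ fj ≫ gj = f ≫ g ≫ c.π.app j)
    (V : Xj.Opens) (hxV : rX.base x ∈ V) (hPV : P (V.ι ≫ fj)) :
    ∃ U : X.Opens, x ∈ U ∧ P (U.ι ≫ f) := by
  -- the map `Y ⟶ Yj`
  let rY : Y ⟶ Yj := h1.lift qY (g ≫ c.π.app j) (by rw [hY.w, Category.assoc, c.w])
  have hrY1 : rY ≫ pY = qY := h1.lift_fst _ _ _
  have hrY2 : rY ≫ gj = g ≫ c.π.app j := h1.lift_snd _ _ _
  have hcomm : rX ≫ fj = f ≫ rY := by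
    apply h1.hom_ext
    · rw [Category.assoc, Category.assoc, hrY1, ← h2.w, ← Category.assoc, e1, hX.w]
    · rw [Category.assoc, Category.assoc, hrY2, e2]
  have hsq : IsPullback rX f fj rY := by
    refine IsPullback.of_right (h₁₂ := pX) (h₂₂ := pY) (v₁₃ := f₀) ?_ hcomm h2
    rw [e1, hrY1]
    exact hX
  refine ⟨rX ⁻¹ᵁ V, hxV, ?_⟩
  have h3 := (isPullback_morphismRestrict rX V).paste_vert hsq
  exact MorphismProperty.of_isPullback (P := P) h3 hPV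

omit [HasRingHomProperty P Q] in
/-- Assembly from a local descent statement `H` in the `StageSetup` framework. -/
theorem nhd_iff_stage_of [P.IsStableUnderBaseChange]
    {I : Type u} [SmallCategory I] [IsCofiltered I]
    (D : I ⥤ Scheme.{u}) (c : Limits.Cone D) (hc : Limits.IsLimit c)
    [∀ (i j : I) (f : i ⟶ j), IsAffineHom (D.map f)] (i₀ : I)
    {X₀ Y₀ : Scheme.{u}} (f₀ : X₀ ⟶ Y₀) (g₀ : Y₀ ⟶ D.obj i₀)
    {X Y : Scheme.{u}} (f : X ⟶ Y) (g : Y ⟶ c.pt) (qY : Y ⟶ Y₀) (qX : X ⟶ X₀)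
    (hY : IsPullback qY g g₀ (c.π.app i₀)) (hX : IsPullback qX f f₀ qY) (x : ↥X)
    (H : ∀ (U : X.Opens), x ∈ U → P (U.ι ≫ f) →
      ∃ (j : Over i₀) (V : ((F D i₀ f₀ g₀).obj j).Opens),
        ((cF D c i₀ f₀ g₀ f g qY qX hY hX).π.app j).base x ∈ V ∧
          P (V.ι ≫ (τ D i₀ f₀ g₀).app j)) :
    (∃ U : X.Opens, x ∈ U ∧ P (U.ι ≫ f)) ↔
      ∃ (j : I) (φ : j ⟶ i₀) (Xj Yj : Scheme.{u}) (fj : Xj ⟶ Yj) (gj : Yj ⟶ D.obj j) (pY : Yj ⟶ Y₀)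
        (pX : Xj ⟶ X₀) (rX : X ⟶ Xj), IsPullback pY gj g₀ (D.map φ) ∧ IsPullback pX fj f₀ pY ∧
          rX ≫ pX = qX ∧ rX ≫ fj ≫ gj = f ≫ g ≫ c.π.app j ∧
            ∃ V : Xj.Opens, rX.base x ∈ V ∧ P (V.ι ≫ fj) := by
  constructor
  · rintro ⟨U, hxU, hPU⟩
    obtain ⟨j, V, hxV, hPV⟩ := H U hxU hPU
    refine ⟨j.left, j.hom, _, _, pullback.snd f₀ (pullback.fst g₀ (D.map j.hom)),
      pullback.snd g₀ (D.map j.hom), pullback.fst g₀ (D.map j.hom), pullback.fst f₀ _,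
      (cF D c i₀ f₀ g₀ f g qY qX hY hX).π.app j,
      IsPullback.of_hasPullback _ _, IsPullback.of_hasPullback _ _, ?_, ?_, V, hxV, hPV⟩
    · exact bcConeπ_fst (E D i₀ g₀) (γ D i₀ g₀) f₀ (cE D c i₀ g₀ g qY hY) qY
        (hb' D c i₀ g₀ g qY hY) qX f hX.w j
    · have h1 := hf D c i₀ f₀ g₀ f g qY qX hY hX j
      have h2 := bcConeπ_snd (D₀ D i₀) (β D i₀) g₀ (c₀ D c i₀) (c.π.app i₀) (hb D c i₀) qY g hY.w j
      exact ((Category.assoc _ _ _).symm.trans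
        (congrArg (fun t => t ≫ pullback.snd g₀ (D.map j.hom)) h1)).trans
        ((Category.assoc _ _ _).trans (congrArg (fun t => f ≫ t) h2))
  · rintro ⟨j, φ, Xj, Yj, fj, gj, pY, pX, rX, h1, h2, e1, e2, V, hxV, hPV⟩
    exact nhd_of_stage D c i₀ f₀ g₀ f g qY qX hY hX x j φ Xj Yj fj gj pY pX rX h1 h2 e1 e2 V hxV hPV

theorem nhd_iff_stage (hQs : StageProp @Q) [P.IsStableUnderBaseChange]
    (hPoi : ∀ {X Y Z : Scheme.{u}} (a : X ⟶ Y) (i : Y ⟶ Z) [IsOpenImmersion i], P a → P (a ≫ i))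
    {I : Type u} [SmallCategory I] [IsCofiltered I]
    (D : I ⥤ Scheme.{u}) (c : Limits.Cone D) (hc : Limits.IsLimit c)
    [∀ (i j : I) (f : i ⟶ j), IsAffineHom (D.map f)] (i₀ : I)
    {X₀ Y₀ : Scheme.{u}} (f₀ : X₀ ⟶ Y₀) (g₀ : Y₀ ⟶ D.obj i₀)
    [LocallyOfFinitePresentation g₀] [LocallyOfFinitePresentation (f₀ ≫ g₀)]
    {X Y : Scheme.{u}} (f : X ⟶ Y) (g : Y ⟶ c.pt) (qY : Y ⟶ Y₀) (qX : X ⟶ X₀)
    (hY : IsPullback qY g g₀ (c.π.app i₀)) (hX : IsPullback qX f f₀ qY) (x : ↥X) :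
    (∃ U : X.Opens, x ∈ U ∧ P (U.ι ≫ f)) ↔
      ∃ (j : I) (φ : j ⟶ i₀) (Xj Yj : Scheme.{u}) (fj : Xj ⟶ Yj) (gj : Yj ⟶ D.obj j) (pY : Yj ⟶ Y₀)
        (pX : Xj ⟶ X₀) (rX : X ⟶ Xj), IsPullback pY gj g₀ (D.map φ) ∧ IsPullback pX fj f₀ pY ∧
          rX ≫ pX = qX ∧ rX ≫ fj ≫ gj = f ≫ g ≫ c.π.app j ∧
            ∃ V : Xj.Opens, rX.base x ∈ V ∧ P (V.ι ≫ fj) := by
  refine nhd_iff_stage_of D c hc i₀ f₀ g₀ f g qY qX hY hX x ?_
  intro U hxU hPU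
  have : LocallyOfFinitePresentation f₀ := locallyOfFinitePresentation_of_comp f₀ g₀
  have hlfp : LocallyOfFinitePresentation ((τ D i₀ f₀ g₀).app (Over.mk (𝟙 i₀))) :=
    inferInstanceAs (LocallyOfFinitePresentation (Limits.pullback.snd f₀ (γ D i₀ g₀ _)))
  obtain ⟨j, _, V, hxV, hPV⟩ := LimLoc.exists_nhd_stage (P := P) (τ D i₀ f₀ g₀)
    (cF D c i₀ f₀ g₀ f g qY qX hY hX) (cE D c i₀ g₀ g qY hY) (hcE D c hc i₀ g₀ g qY hY) f
    (fun φ => isPullback_τ D i₀ f₀ g₀ φ)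
    (fun j => isPullback_bcConeπ (E D i₀ g₀) (γ D i₀ g₀) f₀ (cE D c i₀ g₀ g qY hY) qY
      (hb' D c i₀ g₀ g qY hY) qX f hX j) hQs hPoi (hcF D c hc i₀ f₀ g₀ f g qY qX hY hX)
    (Over.mk (𝟙 i₀)) x U hxU hPU
  exact ⟨j, V, hxV, hPV⟩

end Groth.Agent.Lib.Helper46.LimLocStage
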