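import Mathlib
import Groth.Agent.Lib.Helper46.LimProp
import Groth.Agent.Lib.Helper46.SmoothModel

/-!
# Smoothness descends to a finite stage (ring level)

If `N` is a finitely presented `k₀`-algebra and `R ⊗[k₀] N` is smooth over `R`, then
`R₁ ⊗[k₀] N` is smooth over `R₁` for some finitely generated subalgebra `R₁ ⊆ R`.
-/

set_option autoImplicit false
set_option linter.style.haveILetI false
universe u
open TensorProduct

namespace Groth.Agent.Lib.Helper46.LimSmooth

open Groth.Agent.Lib.Helper46.LimProp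

theorem exists_fg_smooth (k₀ N R : Type u) [CommRing k₀] [CommRing N] [CommRing R]
    [Algebra k₀ N] [Algebra k₀ R] [Algebra.FinitePresentation k₀ N]
    [Algebra.Smooth R (R ⊗[k₀] N)] :
    ∃ R₁ : Subalgebra k₀ R, R₁.FG ∧ Algebra.Smooth R₁ (R₁ ⊗[k₀] N) := by
  classical
  let P₀ := Algebra.Presentation.ofFinitePresentation k₀ N
  obtain ⟨A₀, hco, hfg, hsm⟩ := SmoothModel.exists_subalgebra_fg_of_presentation
    (R := k₀) (A := R) (B := R ⊗[k₀] N) (P₀.baseChange R)
  refine ⟨A₀, hfg, ?_⟩
  have hinj : Function.Injective (MvPolynomial.map (σ := Fin (Algebra.Presentation.ofFinitePresentationVars k₀ N))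
      (algebraMap ↥A₀ R)) :=
    MvPolynomial.map_injective _ Subtype.val_injective
  have hrel : ∀ i, (P₀.baseChange R).relationOfHasCoeffs ↥A₀ i = (P₀.baseChange ↥A₀).relation i := by
    intro i
    apply hinj
    rw [Algebra.Presentation.map_relationOfHasCoeffs, Algebra.Presentation.baseChange_relation,
      Algebra.Presentation.baseChange_relation, MvPolynomial.map_map,
      ← IsScalarTower.algebraMap_eq]
  have hI : Ideal.span (Set.range ((P₀.baseChange R).relationOfHasCoeffs ↥A₀)) =
      (P₀.baseChange ↥A₀).ker := by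
    rw [← (P₀.baseChange ↥A₀).span_range_relation_eq_ker]
    congr 2
    funext i
    exact hrel i
  let e : (P₀.baseChange R).ModelOfHasCoeffs ↥A₀ ≃ₐ[↥A₀] ↥A₀ ⊗[k₀] N :=
    (Ideal.quotientEquivAlgOfEq ↥A₀ hI).trans ((P₀.baseChange ↥A₀).quotientEquiv.restrictScalars ↥A₀)
  exact Algebra.Smooth.of_equiv e

theorem subalgStage_smooth : SubalgStage @RingHom.Smooth := by
  intro k₀ N R _ _ _ _ _ _ _ h
  haveI : Algebra.Smooth R (R ⊗[k₀] N) := RingHom.smooth_algebraMap.mp h
  obtain ⟨R₁, h1, h2⟩ := exists_fg_smooth k₀ N R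
  exact ⟨R₁, h1, RingHom.smooth_algebraMap.mpr h2⟩

theorem stageProp_smooth : StageProp @RingHom.Smooth :=
  stageProp_of_subalgStage RingHom.Smooth.respectsIso
    RingHom.Smooth.isStableUnderBaseChange subalgStage_smooth

end Groth.Agent.Lib.Helper46.LimSmooth
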