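import Groth.Agent.Lib.Helper46.LocPChart
import Groth.Agent.Lib.Helper23.AlgSpMor6

/-!
# fpqc locality on the source of chart-wise flatness of morphisms of algebraic spaces (helper46)
-/

set_option autoImplicit false
universe u
open CategoryTheory CategoryTheory.Limits AlgebraicGeometry Opposite

namespace Groth.Agent.Lib.Helper46.LocPSource

open AlgSp Groth.Agent.Lib.Helper23.AlgSpMor Groth.Agent.Lib.Helper46
open Groth.Agent.Lib.Helper46.LocPChart Groth.Agent.Lib.Helper37.AlgSpPoints

variable {S : Scheme.{u}}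

/-- chart-wise flatness descends along an fpqc covering of the source -/
theorem locP_flat_of_fpqc_source {ι : Type u} {X : Sp S} (Xi : ι → Sp S) (g : ∀ i, Xi i ⟶ X)
    (hX : IsAlgSpace X) (hXi : ∀ i, IsAlgSpace (Xi i)) (hcov : IsFpqcCover Xi g) {Y : Sp S}
    (f : X ⟶ Y) (hY : IsAlgSpace Y) (H : ∀ i, LocP @Flat (g i ≫ f)) : LocP @Flat f := by
  have hQ := etLocal_flat.{u}
  obtain ⟨V, c, hce, hcs⟩ := hY.atlas
  obtain ⟨U, a, h, d, -, -, -, -, hae, comm, has⟩ := exists_chart hX hY.diag f c hce
  refine locP_of_chart hQ f a c h hae (has hcs) hce comm ?_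
  rw [IsZariskiLocalAtSource.iff_of_openCover (P := @Flat) U.left.affineCover]
  intro i₀
  let Zo : Over S := Over.mk (U.left.affineCover.f i₀ ≫ U.hom)
  let jo : Zo ⟶ U := Over.homMk (U.left.affineCover.f i₀) rfl
  change Flat (jo.left ≫ h.left)
  have hZo : IsAffine Zo.left := by
    change IsAffine (U.left.affineCover.X i₀)
    infer_instance
  have hjo : Etale jo.left := by
    change Etale (U.left.affineCover.f i₀)
    infer_instance
  set gz : (yon S).obj Zo ⟶ X := (yon S).map jo ≫ a with hgz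
  have hgze : RepWith @Etale gz :=
    (RepWith @Etale).comp_mem _ _ ((repWith_yon_map_iff _ _).2 hjo) hae
  obtain ⟨m, W, cc, -, -, hcsurj, hlift⟩ := hcov.2 Zo hZo gz
  refine flat_of_family _ fun z => ?_
  obtain ⟨j, w, hw⟩ := hcsurj z
  obtain ⟨i, l, hl⟩ := hlift j
  -- `T = Xi i ×_X h_Zo`
  have sqT := IsPullback.of_hasPullback (g i) gz
  have hT : IsAlgSpace (pullback (g i) gz) :=
    isAlgSpace_of_isPullback (hXi i) (IsAlgSpace.yon_obj Zo) hX.diag sqT
  set tfst := pullback.fst (g i) gz
  set tsnd := pullback.snd (g i) gz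
  have htfst : RepWith @Etale tfst := MorphismProperty.pullback_fst (P := RepWith @Etale) _ _ hgze
  have htsnd : LocP @Flat tsnd :=
    locP_of_isPullback hQ (hXi i) hX hT (IsAlgSpace.yon_obj Zo) sqT (hcov.1 i)
  obtain ⟨E, de, hdee, hdes⟩ := hT.atlas
  obtain ⟨ez, hez⟩ := (yon S).map_surjective (de ≫ tsnd)
  have h1 : Flat ez.left :=
    htsnd de (𝟙 _) ez hdee (repWith_id _ Zo) (by rw [hez, Category.comp_id])
  have h2 : Flat ((ez ≫ jo ≫ h).left) := by
    refine H i (de ≫ tfst) c (ez ≫ jo ≫ h) ((RepWith @Etale).comp_mem _ _ hdee htfst) hce ?_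
    have e1 : tfst ≫ g i ≫ f = tsnd ≫ gz ≫ f := by
      rw [← Category.assoc, sqT.w, Category.assoc]
    have e2 : gz ≫ f = (yon S).map jo ≫ (yon S).map h ≫ c := by rw [hgz, Category.assoc, comm]
    rw [Functor.map_comp, Functor.map_comp, hez]
    simp only [Category.assoc]
    rw [e1, e2]
  refine ⟨E.left, ez.left, h1, h2, ?_⟩
  -- the point
  set lam : (yon S).obj (W j) ⟶ pullback (g i) gz := pullback.lift l ((yon S).map (cc j)) hl
    with hlam
  obtain ⟨y, hy⟩ := isSurjectiveMor_of_repWith_surjective de hdes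
    (Points.map lam (Points.schemeHomeo (W j) w))
  refine ⟨(Points.schemeHomeo E).symm y, ?_⟩
  apply (Points.schemeHomeo Zo).injective
  rw [← Points.map_yon_map_apply, Homeomorph.apply_symm_apply, hez, Points.map_comp, hy,
    ← Points.map_comp, hlam, pullback.lift_snd, Points.map_yon_map_apply, hw]

end Groth.Agent.Lib.Helper46.LocPSource

namespace Groth.Agent.Lib.Helper46

open AlgebraicGeometry CategoryTheory CategoryTheory.Limits

/-- family version of etale locality on the source -/
theorem EtLocal.of_family {Q : MorphismProperty Scheme.{u}} (hQ : EtLocal Q)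
    [IsZariskiLocalAtSource Q] {U V : Scheme.{u}} (q : U ⟶ V)
    (H : ∀ x : U, ∃ (E : Scheme.{u}) (e : E ⟶ U), Etale e ∧ x ∈ Set.range e ∧ Q (e ≫ q)) :
    Q q := by
  choose E e he hx hq using H
  let φ : (∐ E) ⟶ U := Sigma.desc e
  have hφe : Etale φ := IsZariskiLocalAtSource.sigmaDesc (P := @Etale) he
  have hφs : Surjective φ := by
    refine ⟨fun x => ?_⟩
    obtain ⟨y, hy⟩ := hx x
    refine ⟨Sigma.ι E x y, ?_⟩
    rw [← Scheme.Hom.comp_apply, Sigma.ι_desc, hy]
  refine hQ.of_cover φ q hφe hφs ?_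
  have : φ ≫ q = Sigma.desc fun x => e x ≫ q := by
    apply Sigma.hom_ext
    intro x
    rw [← Category.assoc, Sigma.ι_desc, Sigma.ι_desc]
  rw [this]
  exact IsZariskiLocalAtSource.sigmaDesc (P := Q) hq

end Groth.Agent.Lib.Helper46

namespace Groth.Agent.Lib.Helper46.LocPSource

open AlgSp Groth.Agent.Lib.Helper23.AlgSpMor Groth.Agent.Lib.Helper46
open Groth.Agent.Lib.Helper46.LocPChart Groth.Agent.Lib.Helper37.AlgSpPoints
open Groth.Agent.Lib.Helper36.AlgSpCharts

variable {S : Scheme.{u}} {Q : MorphismProperty Scheme.{u}}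

/-- precomposition with an etale morphism of sheaves preserves `LocP Q` (any `Q`) -/
theorem locP_precomp_isEtaleMor {X' X Y : Sp S} (g : X' ⟶ X) (hg : IsEtaleMor g) (f : X ⟶ Y)
    (hf : LocP Q f) : LocP Q (g ≫ f) := by
  intro U V a b h ha hb comm
  exact hf (a ≫ g) b h (hg a ha) hb (by rw [Category.assoc, comm])

/-- the chart-wise property `LocP Q` is etale local on the source -/
theorem isLocalOnSource_et_locP (hQ : EtLocal Q) [IsZariskiLocalAtSource Q] :
    IsLocalOnSource (IsEtCover (S := S)) (LocP Q) := by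
  intro ι X Xi g hX hXi hcov Y f hY
  refine ⟨fun hf i => locP_precomp_isEtaleMor (g i) (hcov.1 i) f hf, fun H => ?_⟩
  intro U V a b h ha hb comm
  refine hQ.of_family h.left fun x => ?_
  -- the point of `X` and a member of the covering hitting it
  obtain ⟨i, xi, hxi⟩ := hcov.2 (Points.map a (Points.schemeHomeo U x))
  have sqT := IsPullback.of_hasPullback (g i) a
  have hT : IsAlgSpace (pullback (g i) a) :=
    isAlgSpace_of_isPullback (hXi i) (IsAlgSpace.yon_obj U) hX.diag sqT
  set tfst := pullback.fst (g i) a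
  set tsnd := pullback.snd (g i) a
  have htfst : RepWith @Etale tfst := MorphismProperty.pullback_fst (P := RepWith @Etale) _ _ ha
  obtain ⟨E, de, hdee, hdes⟩ := hT.atlas
  obtain ⟨e, he⟩ := (yon S).map_surjective (de ≫ tsnd)
  have hchart : RepWith @Etale (de ≫ tfst) := (RepWith @Etale).comp_mem _ _ hdee htfst
  have hea : (yon S).map e ≫ a = (de ≫ tfst) ≫ g i := by
    rw [he, Category.assoc, Category.assoc, sqT.w]
  have hee : Etale e.left :=
    etale_of_comp_eq ((de ≫ tfst) ≫ g i) a e (hcov.1 i _ hchart) ha hea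
  refine ⟨E.left, e.left, hee, ?_, ?_⟩
  · obtain ⟨t, -, ht2⟩ := points_exists_of_isPullback sqT xi (Points.schemeHomeo U x) hxi
    obtain ⟨y, hy⟩ := isSurjectiveMor_of_repWith_surjective de hdes t
    refine ⟨(Points.schemeHomeo E).symm y, ?_⟩
    apply (Points.schemeHomeo U).injective
    rw [← Points.map_yon_map_apply, Homeomorph.apply_symm_apply, he, Points.map_comp, hy, ht2]
  · have := H i (de ≫ tfst) b (e ≫ h) hchart hb (by
      rw [Functor.map_comp]
      simp only [Category.assoc]
      rw [← comm, ← Category.assoc ((yon S).map e), hea]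
      simp only [Category.assoc])
    rwa [Over.comp_left] at this

end Groth.Agent.Lib.Helper46.LocPSource
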