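import Mathlib
import Groth.Agent.Lib.Helper19.Sm.SmoothDescent

set_option autoImplicit false
universe u
open CategoryTheory CategoryTheory.Limits AlgebraicGeometry

namespace Groth.Agent.Lib.Helper46.NeronFinBC

theorem fst_mem_smoothLocus_of_snd_mem {T S W : Scheme.{u}} (π : T ⟶ S)
    [LocallyOfFinitePresentation π] (g : W ⟶ S) [Flat g] (x : ↥(pullback π g))
    (hx : x ∈ (pullback.snd π g).smoothLocus) : (pullback.fst π g) x ∈ π.smoothLocus :=
  Groth.Agent.Lib.Helper19.mem_smoothLocus_of_isPullback_of_flat π g (pullback.snd π g)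
    (pullback.fst π g) (IsPullback.of_hasPullback π g) x hx

end Groth.Agent.Lib.Helper46.NeronFinBC
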