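import Mathlib
import Groth.Agent.Lib.Helper69.SmoothQF
import Groth.Agent.Lib.Helper69.RatSec

set_option autoImplicit false
universe u
open CategoryTheory CategoryTheory.Limits AlgebraicGeometry

namespace Groth.Agent.Lib.Helper46.NeronFinLFT

theorem smooth_smoothLocus_ι_comp {T S : Scheme.{u}} (π : T ⟶ S) [LocallyOfFinitePresentation π] :
    Smooth (π.smoothLocus.ι ≫ π) := by
  rw [← Scheme.Hom.smoothLocus_eq_top_iff, ← Scheme.Hom.preimage_smoothLocus_eq]
  ext x
  exact ⟨fun _ => trivial, fun _ => x.2⟩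

theorem isOpenImmersion_lift_smoothLocus {T S W : Scheme.{u}} (π : T ⟶ S) [IsFinite π]
    [LocallyOfFinitePresentation π] (g : W ⟶ S) (V : W.Opens)
    (a : V.toScheme ⟶ π.smoothLocus.toScheme)
    (ha : (a ≫ π.smoothLocus.ι) ≫ π = V.ι ≫ g) :
    IsOpenImmersion (pullback.lift (a ≫ π.smoothLocus.ι) V.ι ha : V.toScheme ⟶ pullback π g) := by
  haveI : Smooth (π.smoothLocus.ι ≫ π) := smooth_smoothLocus_ι_comp π
  haveI : LocallyQuasiFinite (π.smoothLocus.ι ≫ π) := inferInstance
  haveI : Etale (π.smoothLocus.ι ≫ π) :=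
    Groth.Agent.Lib.Helper69.SmoothQF.etale_of_smooth_of_locallyQuasiFinite _
  have ha' : a ≫ (π.smoothLocus.ι ≫ π) = V.ι ≫ g := by rw [← Category.assoc]; exact ha
  let l : V.toScheme ⟶ pullback (π.smoothLocus.ι ≫ π) g := pullback.lift a V.ι ha'
  haveI : IsOpenImmersion (l ≫ pullback.snd (π.smoothLocus.ι ≫ π) g) := by
    have : l ≫ pullback.snd (π.smoothLocus.ι ≫ π) g = V.ι := pullback.lift_snd _ _ _
    rw [this]; infer_instance
  haveI : Etale (pullback.snd (π.smoothLocus.ι ≫ π) g) := inferInstance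
  haveI : IsOpenImmersion l :=
    Groth.Agent.Lib.Helper69.RatSec.isOpenImmersion_of_comp_unramified l
      (pullback.snd (π.smoothLocus.ι ≫ π) g)
  let m : pullback (π.smoothLocus.ι ≫ π) g ⟶ pullback π g :=
    pullback.map (π.smoothLocus.ι ≫ π) g π g π.smoothLocus.ι (𝟙 W) (𝟙 S)
      (by simp) (by simp)
  have hm1 : m ≫ pullback.fst π g =
      pullback.fst (π.smoothLocus.ι ≫ π) g ≫ π.smoothLocus.ι := pullback.lift_fst _ _ _
  have hm2 : m ≫ pullback.snd π g = pullback.snd (π.smoothLocus.ι ≫ π) g :=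
    (pullback.lift_snd _ _ _).trans (Category.comp_id _)
  have hm : IsOpenImmersion m := by
    have big : IsPullback (pullback.fst (π.smoothLocus.ι ≫ π) g)
        (pullback.snd (π.smoothLocus.ι ≫ π) g) (π.smoothLocus.ι ≫ π) g :=
      IsPullback.of_hasPullback _ _
    have right : IsPullback (pullback.fst π g) (pullback.snd π g) π g :=
      IsPullback.of_hasPullback _ _
    have sq : IsPullback m (pullback.fst (π.smoothLocus.ι ≫ π) g) (pullback.fst π g)
        π.smoothLocus.ι :=
      IsPullback.of_right (by rw [hm2]; exact big.flip) hm1 right.flip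
    exact MorphismProperty.of_isPullback (P := @IsOpenImmersion) sq.flip inferInstance
  have : pullback.lift (a ≫ π.smoothLocus.ι) V.ι ha = l ≫ m := by
    apply pullback.hom_ext
    · rw [Category.assoc, hm1, ← Category.assoc, pullback.lift_fst, pullback.lift_fst]
    · rw [Category.assoc, hm2, pullback.lift_snd, pullback.lift_snd]
  rw [this]
  infer_instance

end Groth.Agent.Lib.Helper46.NeronFinLFT
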