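import Mathlib
import Groth.Agent.S15542
import Groth.Agent.S15543
import Groth.Agent.S9207
import Groth.Agent.Lib.Helper36.ProConsScheme3
import Groth.Agent.Lib.Helper36.ProCons2
import Groth.Agent.Lib.Helper41.QCClosure

set_option autoImplicit false
universe u
open CategoryTheory AlgebraicGeometry

namespace Groth.Agent.Lib.Helper46

/-- A point in the closure of a pro-constructible subset of a scheme is a specialization of a
point of that subset. -/
theorem exists_specializes_of_mem_closure_of_isProConstructible {X : Scheme.{u}} {Z : Set X}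
    (hZ : ProCons.IsProConstructible Z) {x : X} (hx : x ∈ closure Z) : ∃ z ∈ Z, z ⤳ x := by
  obtain ⟨U, hU, hxU, -⟩ := exists_isAffineOpen_mem_and_subset (x := x) (U := ⊤) trivial
  obtain ⟨Y, g, hY, hg⟩ := Groth.Agent.Lib.Helper36.exists_affine_range_eq_inter hU hZ
  have hgU : Set.range g.base ⊆ Set.range U.ι.base := by
    rw [hg, Scheme.Opens.range_ι]; exact Set.inter_subset_right
  let g' : Y ⟶ U.toScheme := IsOpenImmersion.lift U.ι g hgU
  have hg' : g' ≫ U.ι = g := IsOpenImmersion.lift_fac _ _ _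
  haveI : IsAffine U.toScheme := hU
  have hx2 : x ∈ closure (Z ∩ U) := by
    have := U.2.inter_closure (t := Z) ⟨hxU, hx⟩
    rwa [Set.inter_comm] at this
  obtain ⟨x', hx'⟩ : ∃ x' : U.toScheme, U.ι.base x' = x := ⟨⟨x, hxU⟩, rfl⟩
  have hx3 : x' ∈ closure (Set.range g'.base) := by
    rw [U.ι.isOpenEmbedding.isEmbedding.closure_eq_preimage_closure_image]
    change U.ι.base x' ∈ closure (U.ι.base '' Set.range g'.base)
    have h4 : U.ι.base '' Set.range g'.base = Set.range g.base := by
      rw [← Set.range_comp, ← hg']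
      rfl
    rw [h4, hg, hx']
    exact hx2
  obtain ⟨y, hy⟩ := Groth.Agent.Lib.Helper41.exists_specializes_of_mem_closure_range g' x' hx3
  refine ⟨g.base y, ?_, ?_⟩
  · have : g.base y ∈ Z ∩ U := by rw [← hg]; exact ⟨y, rfl⟩
    exact this.1
  · have h5 := hy.map U.ι.continuous
    have h6 : U.ι.base (g'.base y) = g.base y := by
      rw [← Scheme.Hom.comp_apply, hg']
    rw [h6, hx'] at h5
    exact h5

/-- For a generalizing morphism `f` and a pro-constructible subset `Z` of the target, taking the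
preimage under `f` commutes with closure. -/
theorem preimage_closure_eq_of_isProConstructible {X Y : Scheme.{u}} (f : X ⟶ Y)
    (hf : GeneralizingMap f.base) {Z : Set Y} (hZ : ProCons.IsProConstructible Z) :
    f.base ⁻¹' closure Z = closure (f.base ⁻¹' Z) := by
  apply Set.Subset.antisymm
  · intro x hx
    obtain ⟨z, hz, hzx⟩ := exists_specializes_of_mem_closure_of_isProConstructible hZ hx
    obtain ⟨x', hx', hfx'⟩ := hf hzx
    have : x' ∈ f.base ⁻¹' Z := by
      change f.base x' ∈ Z
      rw [hfx']; exact hz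
    exact hx'.mem_closed isClosed_closure (subset_closure this)
  · exact f.base.hom.continuous.closure_preimage_subset _

/-- On a quasi-compact scheme, the difference of a pro-constructible and an ind-constructible
subset is the image of an affine scheme. -/
theorem exists_affine_range_eq_diff {X : Scheme.{u}} [CompactSpace X] {E F : Set X}
    (hE : ProCons.IsProConstructible E) (hF : ProCons.IsIndConstructible F) :
    ∃ (T : Scheme.{u}) (a : T ⟶ X), IsAffine T ∧ Set.range a.base = E \ F := by
  obtain ⟨T₁, a₁, hT₁, h₁⟩ := Groth.Agent.Lib.Helper36.exists_affine_range_eq hE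
  have hF' : ProCons.IsProConstructible (a₁.base ⁻¹' F)ᶜ :=
    Groth.Agent.Lib.Helper36.isProConstructible_compl (Groth.Agent.S15543.result a₁ F hF)
  obtain ⟨T₂, a₂, hT₂, h₂⟩ := Groth.Agent.Lib.Helper36.exists_affine_range_eq (X := T₁) hF'
  refine ⟨T₂, a₂ ≫ a₁, hT₂, ?_⟩
  ext x
  constructor
  · rintro ⟨t, rfl⟩
    have h3 : a₂.base t ∈ (a₁.base ⁻¹' F)ᶜ := by rw [← h₂]; exact ⟨t, rfl⟩
    refine ⟨?_, h3⟩
    rw [← h₁]
    exact ⟨a₂.base t, rfl⟩
  · rintro ⟨hxE, hxF⟩
    rw [← h₁] at hxE
    obtain ⟨t₁, rfl⟩ := hxE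
    have h3 : t₁ ∈ Set.range a₂.base := by rw [h₂]; exact hxF
    obtain ⟨t₂, rfl⟩ := h3
    exact ⟨t₂, rfl⟩

/-- Let `S = lim S_i` be a cofiltered limit with affine transition maps, `S_i` a quasi-compact
stage, `E ⊆ S_i` pro-constructible and `F ⊆ S_i` ind-constructible. If the preimage of `E` in `S`
lies in the preimage of `F`, the same holds at some stage over `i`. -/
theorem exists_stage_preimage_subset {I : Type u} [SmallCategory I] [IsCofiltered I]
    (D : I ⥤ Scheme.{u}) (c : Limits.Cone D) (hc : Limits.IsLimit c)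
    [∀ (i j : I) (f : i ⟶ j), IsAffineHom (D.map f)] (i : I) [CompactSpace (D.obj i)]
    {E F : Set (D.obj i)} (hE : ProCons.IsProConstructible E) (hF : ProCons.IsIndConstructible F)
    (h : (c.π.app i).base ⁻¹' E ⊆ (c.π.app i).base ⁻¹' F) :
    ∃ (j : I) (φ : j ⟶ i), (D.map φ).base ⁻¹' E ⊆ (D.map φ).base ⁻¹' F := by
  obtain ⟨T, a, hT, ha⟩ := exists_affine_range_eq_diff hE hF
  have hempty : IsEmpty ↥(Limits.pullback a (c.π.app i)) := by
    refine ⟨fun z => ?_⟩
    have h1 : (c.π.app i).base ((Limits.pullback.snd a (c.π.app i)).base z) =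
        a.base ((Limits.pullback.fst a (c.π.app i)).base z) := by
      rw [← Scheme.Hom.comp_apply, ← Scheme.Hom.comp_apply, Limits.pullback.condition]
    have h2 : a.base ((Limits.pullback.fst a (c.π.app i)).base z) ∈ E \ F := by
      rw [← ha]; exact ⟨_, rfl⟩
    rw [← h1] at h2
    exact h2.2 (h h2.1)
  obtain ⟨j, φ, hφ⟩ : ∃ (j : I) (φ : j ⟶ i), IsEmpty ↥(Limits.pullback a (D.map φ)) := by
    by_contra! H
    exact hempty.elim (Groth.Agent.S9207.aux D c hc i a fun i' φ => H i' φ).some
  refine ⟨j, φ, fun y hy => ?_⟩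
  by_contra hyF
  have h3 : (D.map φ).base y ∈ E \ F := ⟨hy, hyF⟩
  rw [← ha] at h3
  obtain ⟨t, ht⟩ := h3
  obtain ⟨w, -, -⟩ := Scheme.Pullback.exists_preimage_pullback
    (f := a) (g := D.map φ) t y ht
  exact hφ.false w

end Groth.Agent.Lib.Helper46
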