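import Groth.Agent.Lib.Helper36.ProCons2

set_option autoImplicit false
universe u
open Topology Set

namespace Groth.Agent.Lib.Helper46

open Groth.Agent.Lib.Helper36

/-- An intersection of constructible sets is pro-constructible. -/
theorem isProConstructible_of_eq_sInter {X : Type*} [TopologicalSpace X] {E : Set X}
    (h : ∃ S : Set (Set X), (∀ s ∈ S, IsConstructible s) ∧ E = ⋂₀ S) :
    ProCons.IsProConstructible E := by
  obtain ⟨S, hS, rfl⟩ := h
  intro x
  refine ⟨univ, isOpen_univ, mem_univ x, (fun s => (Subtype.val : ↥(univ : Set X) → X) ⁻¹' s) '' S,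
    ?_, ?_⟩
  · rintro _ ⟨s, hs, rfl⟩
    exact (hS s hs).isLocallyConstructible.preimage_of_isOpenEmbedding
      isOpen_univ.isOpenEmbedding_subtypeVal
  · ext y
    simp only [mem_preimage, mem_sInter, mem_image, forall_exists_index, and_imp,
      forall_apply_eq_imp_iff₂]

/-- In a spectral space, a pro-constructible set is an intersection of constructible sets. -/
theorem exists_eq_sInter_of_isProConstructible {X : Type*} [TopologicalSpace X]
    [SpectralSpace X] {E : Set X} (hE : ProCons.IsProConstructible E) :
    ∃ S : Set (Set X), (∀ s ∈ S, IsConstructible s) ∧ E = ⋂₀ S := by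
  have hcl : IsClosed (up E) := isClosed_up_of_isProConstructible_of_spectral hE
  have hop : IsOpen (up Eᶜ) := by rw [up_compl]; exact hcl.isOpen_compl
  refine ⟨{s | IsConstructible s ∧ E ⊆ s}, fun s hs => hs.1, ?_⟩
  apply subset_antisymm
  · intro x hx s hs
    exact hs.2 hx
  · intro x hx
    by_contra hxE
    obtain ⟨C, hC, hxC, hCE⟩ := exists_isConstructible_subset_of_isOpen_up hop (x := x) hxE
    have : x ∈ Cᶜ := hx Cᶜ ⟨hC.compl, fun y hy hyC => hCE hyC hy⟩
    exact this hxC

end Groth.Agent.Lib.Helper46
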