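import Mathlib
import Groth.Prelude.Def_Desc
import Groth.Agent.Lib.Helper46.FlatHartogs

/-!
# A descent datum obtained by Hartogs extension (helper46)

Setting: `g : S' ⟶ S` flat with `S` locally Noetherian, `ju : SU ⟶ S` an open immersion such that
`S` has the Hartogs property off `SU`, `SU' = S' ×_S SU`.  Given `W ⟶ SU` and an affine flat
`W' ⟶ S'` whose restriction to `SU'` is identified with `W ×_{SU} SU'`, the canonical descent datum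
of `W ×_{SU} SU'` relative to `gU` extends uniquely to a descent datum on `W'` relative to `g`.
-/

set_option autoImplicit false
set_option linter.style.haveILetI false
universe u

open CategoryTheory CategoryTheory.Limits Opposite TopologicalSpace AlgebraicGeometry Desc

namespace Groth.Agent.Lib.Helper46.PureDesc

open Groth.Agent.Lib.Helper46.FlatHartogs

/-- The data. -/
structure Ctx where
  S : Scheme.{u}
  S' : Scheme.{u}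
  SU : Scheme.{u}
  SU' : Scheme.{u}
  g : S' ⟶ S
  ju : SU ⟶ S
  ju' : SU' ⟶ S'
  gU : SU' ⟶ SU
  hsq : IsPullback ju' gU g ju
  W : Scheme.{u}
  W' : Scheme.{u}
  wh : W ⟶ SU
  wh' : W' ⟶ S'
  a : pullback wh gU ⟶ W'
  ha : IsPullback a (pullback.snd wh gU) wh' ju'
  noeth : IsLocallyNoetherian S
  flat_g : Flat g
  oi : IsOpenImmersion ju
  aff : IsAffineHom wh'
  flat_w : Flat wh'
  hS : ResBij S ju.opensRange

attribute [instance] Ctx.noeth Ctx.flat_g Ctx.oi Ctx.aff Ctx.flat_w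

variable (C : Ctx.{u})

section Res

variable {T : Scheme.{u}} {t : T ⟶ C.S}

/-- The `SU'`-point induced by a point of `S'`. -/
noncomputable def xU (x : T ⟶ C.S') (hx : x ≫ C.g = t) : pullback t C.ju ⟶ C.SU' :=
  C.hsq.lift (pullback.fst t C.ju ≫ x) (pullback.snd t C.ju)
    (by rw [Category.assoc, hx, pullback.condition])

lemma xU_ju' (x : T ⟶ C.S') (hx : x ≫ C.g = t) :
    xU C x hx ≫ C.ju' = pullback.fst t C.ju ≫ x := C.hsq.lift_fst _ _ _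

lemma xU_gU (x : T ⟶ C.S') (hx : x ≫ C.g = t) :
    xU C x hx ≫ C.gU = pullback.snd t C.ju := C.hsq.lift_snd _ _ _

/-- The `W' ×_{S'} SU'`-point induced by a point of `W'`. -/
noncomputable def vU (x : T ⟶ C.S') (hx : x ≫ C.g = t) (v : T ⟶ C.W') (hv : v ≫ C.wh' = x) :
    pullback t C.ju ⟶ pullback C.wh C.gU :=
  C.ha.lift (pullback.fst t C.ju ≫ v) (xU C x hx)
    (by rw [Category.assoc, hv, xU_ju'])

lemma vU_a (x : T ⟶ C.S') (hx : x ≫ C.g = t) (v : T ⟶ C.W') (hv : v ≫ C.wh' = x) :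
    vU C x hx v hv ≫ C.a = pullback.fst t C.ju ≫ v := C.ha.lift_fst _ _ _

lemma vU_snd (x : T ⟶ C.S') (hx : x ≫ C.g = t) (v : T ⟶ C.W') (hv : v ≫ C.wh' = x) :
    vU C x hx v hv ≫ pullback.snd C.wh C.gU = xU C x hx := C.ha.lift_snd _ _ _

/-- The `W`-valued point over the `SU`-part attached to a point of `W'`. -/
noncomputable def resm (x : T ⟶ C.S') (hx : x ≫ C.g = t) (v : T ⟶ C.W') (hv : v ≫ C.wh' = x) :
    pullback t C.ju ⟶ C.W :=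
  vU C x hx v hv ≫ pullback.fst C.wh C.gU

lemma resm_wh (x : T ⟶ C.S') (hx : x ≫ C.g = t) (v : T ⟶ C.W') (hv : v ≫ C.wh' = x) :
    resm C x hx v hv ≫ C.wh = pullback.snd t C.ju := by
  unfold resm
  rw [Category.assoc, pullback.condition, ← Category.assoc, vU_snd, xU_gU]

/-- The induced map on the `SU`-parts. -/
noncomputable def kU {T₁ : Scheme.{u}} {t₁ : T₁ ⟶ C.S} (k : T₁ ⟶ T) (ht : k ≫ t = t₁) :
    pullback t₁ C.ju ⟶ pullback t C.ju :=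
  pullback.lift (pullback.fst t₁ C.ju ≫ k) (pullback.snd t₁ C.ju)
    (by rw [Category.assoc, ht, pullback.condition])

lemma resm_nat {T₁ : Scheme.{u}} {t₁ : T₁ ⟶ C.S} (k : T₁ ⟶ T) (ht : k ≫ t = t₁)
    (x : T ⟶ C.S') (hx : x ≫ C.g = t) (v : T ⟶ C.W') (hv : v ≫ C.wh' = x)
    (x₁ : T₁ ⟶ C.S') (hx₁ : x₁ ≫ C.g = t₁) (v₁ : T₁ ⟶ C.W') (hv₁ : v₁ ≫ C.wh' = x₁)
    (ex : k ≫ x = x₁) (ev : k ≫ v = v₁) :
    resm C x₁ hx₁ v₁ hv₁ = kU C k ht ≫ resm C x hx v hv := by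
  subst ex ev
  unfold resm
  rw [← Category.assoc]
  congr 1
  apply C.ha.hom_ext
  · rw [vU_a, Category.assoc, vU_a]
    unfold kU
    rw [pullback.lift_fst_assoc, Category.assoc]
  · rw [vU_snd, Category.assoc, vU_snd]
    apply C.hsq.hom_ext
    · rw [xU_ju', Category.assoc, xU_ju']
      unfold kU
      rw [pullback.lift_fst_assoc, Category.assoc]
    · rw [xU_gU, Category.assoc, xU_gU]
      unfold kU
      rw [pullback.lift_snd]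

lemma range_fst : Set.range (pullback.fst t C.ju) = t ⁻¹' (C.ju.opensRange : Set C.S) := by
  rw [Scheme.Pullback.range_fst]
  rfl

/-- Extension of a `W`-valued point on the `SU`-part to a point of `W'`, for flat `t`. -/
theorem exists_ext [Flat t] (x : T ⟶ C.S') (hx : x ≫ C.g = t) (m : pullback t C.ju ⟶ C.W)
    (hm : m ≫ C.wh = pullback.snd t C.ju) :
    ∃ (v : T ⟶ C.W') (hv : v ≫ C.wh' = x), resm C x hx v hv = m := by
  have hm' : m ≫ C.wh = xU C x hx ≫ C.gU := by rw [hm, xU_gU]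
  obtain ⟨v, ⟨hv1, hv2⟩, -⟩ := existsUnique_extension_of_flat C.ju.opensRange C.hS t
    (pullback.fst t C.ju) (range_fst C) x C.wh' (pullback.lift m (xU C x hx) hm' ≫ C.a)
    (by rw [Category.assoc, C.ha.w, ← Category.assoc, pullback.lift_snd, xU_ju'])
  refine ⟨v, hv1, ?_⟩
  unfold resm
  have e : vU C x hx v hv1 = pullback.lift m (xU C x hx) hm' := by
    apply C.ha.hom_ext
    · rw [vU_a, hv2]
    · rw [vU_snd, pullback.lift_snd]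
  rw [e, pullback.lift_fst]

theorem resm_injective [Flat t] (x : T ⟶ C.S') (hx : x ≫ C.g = t) (v v' : T ⟶ C.W')
    (hv : v ≫ C.wh' = x) (hv' : v' ≫ C.wh' = x) (h : resm C x hx v hv = resm C x hx v' hv') :
    v = v' := by
  have e : vU C x hx v hv = vU C x hx v' hv' := by
    apply pullback.hom_ext
    · exact h
    · rw [vU_snd, vU_snd]
  have e2 : pullback.fst t C.ju ≫ v = pullback.fst t C.ju ≫ v' := by
    rw [← vU_a C x hx v hv, ← vU_a C x hx v' hv', e]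
  obtain ⟨w, -, huniq⟩ := existsUnique_extension_of_flat C.ju.opensRange C.hS t
    (pullback.fst t C.ju) (range_fst C) x C.wh' (pullback.fst t C.ju ≫ v)
    (by rw [Category.assoc, hv])
  exact (huniq v ⟨hv, rfl⟩).trans (huniq v' ⟨hv', e2.symm⟩).symm

end Res

section Tau

/-- The universal test object `W' ×_{S'} (S' ×_S S')`. -/
noncomputable abbrev P₁ : Scheme.{u} := pullback C.wh' (pullback.fst C.g C.g)

noncomputable abbrev X₀ : P₁ C ⟶ C.S' := pullback.snd C.wh' (pullback.fst C.g C.g) ≫ pullback.fst C.g C.g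

noncomputable abbrev X₁ : P₁ C ⟶ C.S' := pullback.snd C.wh' (pullback.fst C.g C.g) ≫ pullback.snd C.g C.g

noncomputable abbrev tP : P₁ C ⟶ C.S := X₀ C ≫ C.g

lemma hX₁ : X₁ C ≫ C.g = tP C := by
  unfold X₁ tP X₀
  rw [Category.assoc, Category.assoc, pullback.condition]

lemma hV₀ : pullback.fst C.wh' (pullback.fst C.g C.g) ≫ C.wh' = X₀ C := pullback.condition

instance : Flat (tP C) := by
  unfold tP X₀
  infer_instance

/-- The transported universal point. -/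
noncomputable def τ : P₁ C ⟶ C.W' :=
  (exists_ext C (X₁ C) (hX₁ C) (resm C (X₀ C) rfl (pullback.fst _ _) (hV₀ C))
    (resm_wh C _ _ _ _)).choose

lemma τ_wh' : τ C ≫ C.wh' = X₁ C :=
  (exists_ext C (X₁ C) (hX₁ C) (resm C (X₀ C) rfl (pullback.fst _ _) (hV₀ C))
    (resm_wh C _ _ _ _)).choose_spec.choose

lemma resm_τ : resm C (X₁ C) (hX₁ C) (τ C) (τ_wh' C) =
    resm C (X₀ C) rfl (pullback.fst _ _) (hV₀ C) :=
  (exists_ext C (X₁ C) (hX₁ C) (resm C (X₀ C) rfl (pullback.fst _ _) (hV₀ C))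
    (resm_wh C _ _ _ _)).choose_spec.choose_spec

variable {T : Scheme.{u}}

/-- The classifying map of a point of `W'` and a second point of `S'`. -/
noncomputable def cmap (x₀ x₁ : T ⟶ C.S') (h : x₀ ≫ C.g = x₁ ≫ C.g) (v : T ⟶ C.W')
    (hv : v ≫ C.wh' = x₀) : T ⟶ P₁ C :=
  pullback.lift v (pullback.lift x₀ x₁ h) (by rw [hv, pullback.lift_fst])

lemma cmap_fst (x₀ x₁ : T ⟶ C.S') (h : x₀ ≫ C.g = x₁ ≫ C.g) (v : T ⟶ C.W')
    (hv : v ≫ C.wh' = x₀) : cmap C x₀ x₁ h v hv ≫ pullback.fst _ _ = v := pullback.lift_fst _ _ _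

lemma cmap_X₀ (x₀ x₁ : T ⟶ C.S') (h : x₀ ≫ C.g = x₁ ≫ C.g) (v : T ⟶ C.W')
    (hv : v ≫ C.wh' = x₀) : cmap C x₀ x₁ h v hv ≫ X₀ C = x₀ := by
  unfold cmap X₀
  rw [pullback.lift_snd_assoc, pullback.lift_fst]

lemma cmap_X₁ (x₀ x₁ : T ⟶ C.S') (h : x₀ ≫ C.g = x₁ ≫ C.g) (v : T ⟶ C.W')
    (hv : v ≫ C.wh' = x₀) : cmap C x₀ x₁ h v hv ≫ X₁ C = x₁ := by
  unfold cmap X₁
  rw [pullback.lift_snd_assoc, pullback.lift_snd]

lemma cmap_nat {T₁ : Scheme.{u}} (k : T₁ ⟶ T) (x₀ x₁ : T ⟶ C.S') (h : x₀ ≫ C.g = x₁ ≫ C.g)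
    (v : T ⟶ C.W') (hv : v ≫ C.wh' = x₀) (y₀ y₁ : T₁ ⟶ C.S') (h' : y₀ ≫ C.g = y₁ ≫ C.g)
    (w : T₁ ⟶ C.W') (hw : w ≫ C.wh' = y₀) (e₀ : k ≫ x₀ = y₀) (e₁ : k ≫ x₁ = y₁)
    (ev : k ≫ v = w) : cmap C y₀ y₁ h' w hw = k ≫ cmap C x₀ x₁ h v hv := by
  subst e₀ e₁ ev
  unfold cmap
  apply pullback.hom_ext
  · rw [pullback.lift_fst, Category.assoc, pullback.lift_fst]
  · rw [pullback.lift_snd, Category.assoc, pullback.lift_snd]
    apply pullback.hom_ext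
    · rw [pullback.lift_fst, Category.assoc, pullback.lift_fst]
    · rw [pullback.lift_snd, Category.assoc, pullback.lift_snd]

/-- The transport of points. -/
noncomputable def phi (x₀ x₁ : T ⟶ C.S') (h : x₀ ≫ C.g = x₁ ≫ C.g) (v : T ⟶ C.W')
    (hv : v ≫ C.wh' = x₀) : T ⟶ C.W' := cmap C x₀ x₁ h v hv ≫ τ C

lemma phi_wh' (x₀ x₁ : T ⟶ C.S') (h : x₀ ≫ C.g = x₁ ≫ C.g) (v : T ⟶ C.W')
    (hv : v ≫ C.wh' = x₀) : phi C x₀ x₁ h v hv ≫ C.wh' = x₁ := by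
  unfold phi
  rw [Category.assoc, τ_wh', cmap_X₁]

lemma phi_nat {T₁ : Scheme.{u}} (k : T₁ ⟶ T) (x₀ x₁ : T ⟶ C.S') (h : x₀ ≫ C.g = x₁ ≫ C.g)
    (v : T ⟶ C.W') (hv : v ≫ C.wh' = x₀) (y₀ y₁ : T₁ ⟶ C.S') (h' : y₀ ≫ C.g = y₁ ≫ C.g)
    (w : T₁ ⟶ C.W') (hw : w ≫ C.wh' = y₀) (e₀ : k ≫ x₀ = y₀) (e₁ : k ≫ x₁ = y₁)
    (ev : k ≫ v = w) : phi C y₀ y₁ h' w hw = k ≫ phi C x₀ x₁ h v hv := by
  unfold phi
  rw [cmap_nat C k x₀ x₁ h v hv y₀ y₁ h' w hw e₀ e₁ ev, Category.assoc]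

/-- **Key lemma**: transport does not change the `W`-valued point on the `SU`-part. -/
theorem resm_phi {t : T ⟶ C.S} (x₀ x₁ : T ⟶ C.S') (hx₀ : x₀ ≫ C.g = t) (hx₁ : x₁ ≫ C.g = t)
    (v : T ⟶ C.W') (hv : v ≫ C.wh' = x₀) :
    resm C x₁ hx₁ (phi C x₀ x₁ (hx₀.trans hx₁.symm) v hv) (phi_wh' C _ _ _ _ _) =
      resm C x₀ hx₀ v hv := by
  have ht : cmap C x₀ x₁ (hx₀.trans hx₁.symm) v hv ≫ tP C = t := by
    unfold tP
    rw [← Category.assoc, cmap_X₀, hx₀]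
  have h1 := resm_nat C (cmap C x₀ x₁ (hx₀.trans hx₁.symm) v hv) ht (X₁ C) (hX₁ C) (τ C) (τ_wh' C)
    x₁ hx₁ (phi C x₀ x₁ (hx₀.trans hx₁.symm) v hv) (phi_wh' C _ _ _ _ _) (cmap_X₁ C _ _ _ _ _) rfl
  have h2 := resm_nat C (cmap C x₀ x₁ (hx₀.trans hx₁.symm) v hv) ht (X₀ C) rfl (pullback.fst _ _)
    (hV₀ C) x₀ hx₀ v hv (cmap_X₀ C _ _ _ _ _) (cmap_fst C _ _ _ _ _)
  rw [h1, resm_τ, ← h2]

end Tau

section DD

variable {T : Scheme.{u}}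

lemma phi_self_univ : phi C C.wh' C.wh' rfl (𝟙 C.W') (Category.id_comp _) = 𝟙 C.W' := by
  haveI : Flat (C.wh' ≫ C.g) := inferInstance
  apply resm_injective C (t := C.wh' ≫ C.g) C.wh' rfl _ _ (phi_wh' C _ _ _ _ _)
    (Category.id_comp _)
  exact resm_phi C C.wh' C.wh' rfl rfl (𝟙 _) (Category.id_comp _)

theorem phi_self (x : T ⟶ C.S') (v : T ⟶ C.W') (hv : v ≫ C.wh' = x) :
    phi C x x rfl v hv = v := by
  have h := phi_nat C v C.wh' C.wh' rfl (𝟙 C.W') (Category.id_comp _) x x rfl v hv hv hv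
    (Category.comp_id v)
  rw [h, phi_self_univ, Category.comp_id]

/-- The universal test object for the cocycle condition. -/
noncomputable abbrev T₃ : Scheme.{u} := pullback (X₁ C) (pullback.fst C.g C.g)

noncomputable abbrev Y₀ : T₃ C ⟶ C.S' := pullback.fst (X₁ C) (pullback.fst C.g C.g) ≫ X₀ C

noncomputable abbrev Y₁ : T₃ C ⟶ C.S' := pullback.fst (X₁ C) (pullback.fst C.g C.g) ≫ X₁ C

noncomputable abbrev Y₂ : T₃ C ⟶ C.S' :=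
  pullback.snd (X₁ C) (pullback.fst C.g C.g) ≫ pullback.snd C.g C.g

noncomputable abbrev V₃ : T₃ C ⟶ C.W' :=
  pullback.fst (X₁ C) (pullback.fst C.g C.g) ≫ pullback.fst C.wh' (pullback.fst C.g C.g)

lemma hV₃ : V₃ C ≫ C.wh' = Y₀ C := by
  unfold V₃ Y₀
  rw [Category.assoc, hV₀]

lemma hY₁ : Y₁ C ≫ C.g = Y₀ C ≫ C.g :=
  calc (pullback.fst (X₁ C) (pullback.fst C.g C.g) ≫ X₁ C) ≫ C.g
      = pullback.fst (X₁ C) (pullback.fst C.g C.g) ≫ (X₁ C ≫ C.g) := Category.assoc _ _ _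
    _ = pullback.fst (X₁ C) (pullback.fst C.g C.g) ≫ (X₀ C ≫ C.g) :=
        congrArg (pullback.fst (X₁ C) (pullback.fst C.g C.g) ≫ ·) (hX₁ C)
    _ = (pullback.fst (X₁ C) (pullback.fst C.g C.g) ≫ X₀ C) ≫ C.g := (Category.assoc _ _ _).symm

lemma hY₂ : Y₂ C ≫ C.g = Y₀ C ≫ C.g :=
  calc (pullback.snd (X₁ C) (pullback.fst C.g C.g) ≫ pullback.snd C.g C.g) ≫ C.g
      = pullback.snd (X₁ C) (pullback.fst C.g C.g) ≫ (pullback.snd C.g C.g ≫ C.g) :=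
        Category.assoc _ _ _
    _ = pullback.snd (X₁ C) (pullback.fst C.g C.g) ≫ (pullback.fst C.g C.g ≫ C.g) :=
        congrArg (pullback.snd (X₁ C) (pullback.fst C.g C.g) ≫ ·) pullback.condition.symm
    _ = (pullback.snd (X₁ C) (pullback.fst C.g C.g) ≫ pullback.fst C.g C.g) ≫ C.g :=
        (Category.assoc _ _ _).symm
    _ = (pullback.fst (X₁ C) (pullback.fst C.g C.g) ≫ X₁ C) ≫ C.g :=
        congrArg (· ≫ C.g) pullback.condition.symm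
    _ = Y₀ C ≫ C.g := hY₁ C

instance : Flat (Y₀ C ≫ C.g) := by
  unfold Y₀ X₀
  infer_instance

lemma phi_comp_univ :
    phi C (Y₁ C) (Y₂ C) ((hY₁ C).trans (hY₂ C).symm)
      (phi C (Y₀ C) (Y₁ C) (hY₁ C).symm (V₃ C) (hV₃ C)) (phi_wh' C _ _ _ _ _) =
    phi C (Y₀ C) (Y₂ C) (hY₂ C).symm (V₃ C) (hV₃ C) := by
  apply resm_injective C (t := Y₀ C ≫ C.g) (Y₂ C) (hY₂ C) _ _ (phi_wh' C _ _ _ _ _)
    (phi_wh' C _ _ _ _ _)
  have h1 := resm_phi C (Y₁ C) (Y₂ C) (hY₁ C) (hY₂ C)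
    (phi C (Y₀ C) (Y₁ C) (hY₁ C).symm (V₃ C) (hV₃ C)) (phi_wh' C _ _ _ _ _)
  have h2 := resm_phi C (Y₀ C) (Y₁ C) rfl (hY₁ C) (V₃ C) (hV₃ C)
  have h3 := resm_phi C (Y₀ C) (Y₂ C) rfl (hY₂ C) (V₃ C) (hV₃ C)
  exact h1.trans (h2.trans h3.symm)

theorem phi_comp (x₀ x₁ x₂ : T ⟶ C.S') (h₀₁ : x₀ ≫ C.g = x₁ ≫ C.g) (h₁₂ : x₁ ≫ C.g = x₂ ≫ C.g)
    (v : T ⟶ C.W') (hv : v ≫ C.wh' = x₀) :
    phi C x₁ x₂ h₁₂ (phi C x₀ x₁ h₀₁ v hv) (phi_wh' C _ _ _ _ _) =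
      phi C x₀ x₂ (h₀₁.trans h₁₂) v hv := by
  let k : T ⟶ T₃ C := pullback.lift (cmap C x₀ x₁ h₀₁ v hv) (pullback.lift x₁ x₂ h₁₂)
    (by rw [cmap_X₁, pullback.lift_fst])
  have ek0 : k ≫ Y₀ C = x₀ := by
    unfold Y₀
    rw [pullback.lift_fst_assoc, cmap_X₀]
  have ek1 : k ≫ Y₁ C = x₁ := by
    unfold Y₁
    rw [pullback.lift_fst_assoc, cmap_X₁]
  have ek2 : k ≫ Y₂ C = x₂ := by
    unfold Y₂
    rw [pullback.lift_snd_assoc, pullback.lift_snd]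
  have ekv : k ≫ V₃ C = v := by
    unfold V₃
    rw [pullback.lift_fst_assoc, cmap_fst]
  have e1 := phi_nat C k (Y₀ C) (Y₁ C) (hY₁ C).symm (V₃ C) (hV₃ C) x₀ x₁ h₀₁ v hv ek0 ek1 ekv
  have e2 := phi_nat C k (Y₁ C) (Y₂ C) ((hY₁ C).trans (hY₂ C).symm)
    (phi C (Y₀ C) (Y₁ C) (hY₁ C).symm (V₃ C) (hV₃ C)) (phi_wh' C _ _ _ _ _) x₁ x₂ h₁₂
    (phi C x₀ x₁ h₀₁ v hv) (phi_wh' C _ _ _ _ _) ek1 ek2 e1.symm
  have e3 := phi_nat C k (Y₀ C) (Y₂ C) (hY₂ C).symm (V₃ C) (hV₃ C) x₀ x₂ (h₀₁.trans h₁₂) v hv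
    ek0 ek2 ekv
  rw [e2, e3, phi_comp_univ]

/-- The descent datum on `W'` relative to `g`. -/
noncomputable def dd : SchDD C.g where
  obj := Over.mk C.wh'
  φ T x₀ x₁ h :=
    { toFun := fun v => ⟨phi C x₀ x₁ h v.1 v.2, phi_wh' C _ _ _ _ _⟩
      invFun := fun v => ⟨phi C x₁ x₀ h.symm v.1 v.2, phi_wh' C _ _ _ _ _⟩
      left_inv := fun v => Subtype.ext (by
        show phi C x₁ x₀ h.symm (phi C x₀ x₁ h v.1 v.2) (phi_wh' C _ _ _ _ _) = v.1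
        rw [phi_comp, phi_self])
      right_inv := fun v => Subtype.ext (by
        show phi C x₀ x₁ h (phi C x₁ x₀ h.symm v.1 v.2) (phi_wh' C _ _ _ _ _) = v.1
        rw [phi_comp, phi_self]) }
  φ_natural T T' k x₀ x₁ h h' v v' hv' :=
    phi_nat C k x₀ x₁ h v.1 v.2 _ _ h' v'.1 v'.2 rfl rfl hv'.symm
  φ_self T x v := Subtype.ext (phi_self C x v.1 v.2)
  φ_comp T x₀ x₁ x₂ h₀₁ h₁₂ v := Subtype.ext (phi_comp C x₀ x₁ x₂ h₀₁ h₁₂ v.1 v.2)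

lemma dd_obj : (dd C).obj = Over.mk C.wh' := rfl

lemma dd_φ (x₀ x₁ : T ⟶ C.S') (h : x₀ ≫ C.g = x₁ ≫ C.g) (v : Lifts (dd C).obj x₀) :
    ((dd C).φ x₀ x₁ h v).1 = phi C x₀ x₁ h v.1 v.2 := rfl

end DD

section OverU

variable {T : Scheme.{u}}

lemma resm_congr {t : T ⟶ C.S} (x : T ⟶ C.S') (hx : x ≫ C.g = t) (v v' : T ⟶ C.W')
    (hv : v ≫ C.wh' = x) (hv' : v' ≫ C.wh' = x) (e : v = v') :
    resm C x hx v hv = resm C x hx v' hv' := by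
  subst e
  rfl

/-- For a point lying over `SU`, the `W`-valued point `resm` is computed by the point itself. -/
lemma resm_of_overU (x : T ⟶ C.SU') (s : T ⟶ C.SU) (hs : x ≫ C.gU = s)
    (y : T ⟶ pullback C.wh C.gU) (hy : y ≫ pullback.snd C.wh C.gU = x)
    (hx : (x ≫ C.ju') ≫ C.g = s ≫ C.ju) (hv : (y ≫ C.a) ≫ C.wh' = x ≫ C.ju') :
    resm C (x ≫ C.ju') hx (y ≫ C.a) hv =
      pullback.fst (s ≫ C.ju) C.ju ≫ y ≫ pullback.fst C.wh C.gU := by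
  unfold resm
  have e : vU C (x ≫ C.ju') hx (y ≫ C.a) hv = pullback.fst (s ≫ C.ju) C.ju ≫ y := by
    apply C.ha.hom_ext
    · rw [vU_a, Category.assoc]
    · rw [vU_snd, Category.assoc, hy]
      apply C.hsq.hom_ext
      · rw [xU_ju', Category.assoc]
      · rw [xU_gU, ← cancel_mono C.ju, ← pullback.condition, Category.assoc, Category.assoc,
          ← Category.assoc x, hs]
  rw [e, Category.assoc]

theorem fst_eq_of_phi (x₀ x₁ : T ⟶ C.SU') (h : x₀ ≫ C.gU = x₁ ≫ C.gU)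
    (y₀ y₁ : T ⟶ pullback C.wh C.gU) (hy₀ : y₀ ≫ pullback.snd C.wh C.gU = x₀)
    (hy₁ : y₁ ≫ pullback.snd C.wh C.gU = x₁)
    (h' : (x₀ ≫ C.ju') ≫ C.g = (x₁ ≫ C.ju') ≫ C.g) (hv₀ : (y₀ ≫ C.a) ≫ C.wh' = x₀ ≫ C.ju')
    (hphi : phi C (x₀ ≫ C.ju') (x₁ ≫ C.ju') h' (y₀ ≫ C.a) hv₀ = y₁ ≫ C.a) :
    y₀ ≫ pullback.fst C.wh C.gU = y₁ ≫ pullback.fst C.wh C.gU := by
  have hx₀ : (x₀ ≫ C.ju') ≫ C.g = (x₀ ≫ C.gU) ≫ C.ju := by
    rw [Category.assoc, Category.assoc, C.hsq.w]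
  have hx₁ : (x₁ ≫ C.ju') ≫ C.g = (x₀ ≫ C.gU) ≫ C.ju := by
    rw [h, Category.assoc, Category.assoc, C.hsq.w]
  have hv₁ : (y₁ ≫ C.a) ≫ C.wh' = x₁ ≫ C.ju' := by
    rw [Category.assoc, C.ha.w, ← Category.assoc, hy₁]
  have key := resm_phi C (x₀ ≫ C.ju') (x₁ ≫ C.ju') hx₀ hx₁ (y₀ ≫ C.a) hv₀
  have key' : resm C (x₁ ≫ C.ju') hx₁ (y₁ ≫ C.a) hv₁ = resm C (x₀ ≫ C.ju') hx₀ (y₀ ≫ C.a) hv₀ :=
    (resm_congr C _ _ _ _ _ _ hphi.symm).trans key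
  rw [resm_of_overU C x₁ (x₀ ≫ C.gU) h.symm y₁ hy₁ hx₁ hv₁,
    resm_of_overU C x₀ (x₀ ≫ C.gU) rfl y₀ hy₀ hx₀ hv₀] at key'
  exact ((cancel_epi _).1 key').symm

end OverU

end Groth.Agent.Lib.Helper46.PureDesc
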