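import Mathlib
import Groth.Agent.Lib.Helper46.PureDesc
import Groth.Agent.Lib.Helper5.DescQAffHom
import Groth.Agent.Lib.Helper5.DescProps
import Groth.Agent.Lib.Helper5.AffCore2
import Groth.Agent.Lib.Helper7.QuasiAffine
import Groth.Agent.S1131
import Groth.Agent.S1132

/-!
# Effectiveness of the Hartogs descent datum and its restriction to the open part (helper46)
-/

set_option autoImplicit false
set_option linter.style.haveILetI false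
universe u

open CategoryTheory CategoryTheory.Limits Opposite TopologicalSpace AlgebraicGeometry Desc

namespace Groth.Agent.Lib.Helper46.PureEff

open Groth.Agent.Lib.Helper46.FlatHartogs Groth.Agent.Lib.Helper46.PureDesc

variable (C : Ctx.{u})

theorem effective [Surjective C.g] [QuasiCompact C.g] :
    ∃ U : Over C.S, Nonempty ((toDD C.g).obj U ≅ dd C) :=
  Groth.Agent.Lib.Helper5.DescQAffHom.effective_of_isQuasiAffine C.g (dd C)
    (Groth.Agent.Lib.Helper7.QA.QAffHom_of_isAffineHom C.wh')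

section Ident

variable (Wd : Over C.S) (κ : (toDD C.g).obj Wd ≅ dd C)

noncomputable def k : pullback C.g Wd.hom ⟶ C.W' := κ.hom.hom.left

noncomputable def ki : C.W' ⟶ pullback C.g Wd.hom := κ.inv.hom.left

lemma k_ki : k C Wd κ ≫ ki C Wd κ = 𝟙 _ := Groth.Agent.Lib.Helper5.DescProps.hom_inv_left κ

lemma ki_k : ki C Wd κ ≫ k C Wd κ = 𝟙 _ := Groth.Agent.Lib.Helper5.DescProps.inv_hom_left κ

lemma k_wh' : k C Wd κ ≫ C.wh' = pullback.fst C.g Wd.hom := Over.w κ.hom.hom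

lemma ki_fst : ki C Wd κ ≫ pullback.fst C.g Wd.hom = C.wh' := Over.w κ.inv.hom

/-- `W'` is the pullback of the descended scheme. -/
lemma isPullback_ki : IsPullback (ki C Wd κ ≫ pullback.snd C.g Wd.hom) C.wh' Wd.hom C.g := by
  refine IsPullback.of_iso (IsPullback.of_hasPullback C.g Wd.hom).flip
    (⟨k C Wd κ, ki C Wd κ, k_ki C Wd κ, ki_k C Wd κ⟩ : pullback C.g Wd.hom ≅ C.W')
    (Iso.refl _) (Iso.refl _) (Iso.refl _) ?_ ?_ ?_ ?_
  · change pullback.snd C.g Wd.hom ≫ 𝟙 _ = k C Wd κ ≫ ki C Wd κ ≫ pullback.snd C.g Wd.hom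
    rw [Category.comp_id, ← Category.assoc, k_ki, Category.id_comp]
  · change pullback.fst C.g Wd.hom ≫ 𝟙 _ = k C Wd κ ≫ C.wh'
    rw [Category.comp_id, k_wh']
  · simp
  · simp

lemma isPullback_a : IsPullback (C.a ≫ ki C Wd κ ≫ pullback.snd C.g Wd.hom)
    (pullback.snd C.wh C.gU) Wd.hom (C.ju' ≫ C.g) :=
  C.ha.paste_horiz (isPullback_ki C Wd κ)

/-- The map from `W ×_{SU} SU'` to the restriction of the descended scheme. -/
noncomputable def mW : pullback C.wh C.gU ⟶ pullback Wd.hom C.ju :=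
  pullback.lift (C.a ≫ ki C Wd κ ≫ pullback.snd C.g Wd.hom) (pullback.snd C.wh C.gU ≫ C.gU)
    (by rw [(isPullback_a C Wd κ).w, C.hsq.w, Category.assoc])

lemma mW_fst : mW C Wd κ ≫ pullback.fst Wd.hom C.ju =
    C.a ≫ ki C Wd κ ≫ pullback.snd C.g Wd.hom := pullback.lift_fst _ _ _

lemma mW_snd : mW C Wd κ ≫ pullback.snd Wd.hom C.ju = pullback.snd C.wh C.gU ≫ C.gU :=
  pullback.lift_snd _ _ _

lemma isPullback_mW : IsPullback (mW C Wd κ) (pullback.snd C.wh C.gU)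
    (pullback.snd Wd.hom C.ju) C.gU := by
  have s : IsPullback (mW C Wd κ ≫ pullback.fst Wd.hom C.ju) (pullback.snd C.wh C.gU) Wd.hom
      (C.gU ≫ C.ju) := by
    rw [mW_fst, ← C.hsq.w]
    exact isPullback_a C Wd κ
  exact IsPullback.of_right s (mW_snd C Wd κ) (IsPullback.of_hasPullback Wd.hom C.ju)

/-- `W ×_{SU} SU' ≅ SU' ×_{SU} (Wd ×_S SU)`. -/
noncomputable def iso1 : pullback C.wh C.gU ≅ pullback C.gU (pullback.snd Wd.hom C.ju) :=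
  (isPullback_mW C Wd κ).flip.isoPullback

lemma iso1_inv_snd : (iso1 C Wd κ).inv ≫ pullback.snd C.wh C.gU =
    pullback.fst C.gU (pullback.snd Wd.hom C.ju) :=
  (isPullback_mW C Wd κ).flip.isoPullback_inv_fst

lemma iso1_inv_mW : (iso1 C Wd κ).inv ≫ mW C Wd κ =
    pullback.snd C.gU (pullback.snd Wd.hom C.ju) :=
  (isPullback_mW C Wd κ).flip.isoPullback_inv_snd

/-- The comparison isomorphism over `SU'`. -/
noncomputable def E : pullback C.gU (pullback.snd Wd.hom C.ju) ≅ pullback C.gU C.wh :=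
  (iso1 C Wd κ).symm ≪≫ pullbackSymmetry C.wh C.gU

lemma E_hom_fst : (E C Wd κ).hom ≫ pullback.fst C.gU C.wh =
    pullback.fst C.gU (pullback.snd Wd.hom C.ju) := by
  unfold E
  rw [Iso.trans_hom, Iso.symm_hom, Category.assoc, pullbackSymmetry_hom_comp_fst, iso1_inv_snd]

lemma E_hom_snd : (E C Wd κ).hom ≫ pullback.snd C.gU C.wh =
    (iso1 C Wd κ).inv ≫ pullback.fst C.wh C.gU := by
  unfold E
  rw [Iso.trans_hom, Iso.symm_hom, Category.assoc, pullbackSymmetry_hom_comp_snd]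

end Ident

section Comm

variable (Wd : Over C.S) (κ : (toDD C.g).obj Wd ≅ dd C)

theorem comm_E ⦃T : Scheme.{u}⦄ (x₀ x₁ : T ⟶ C.SU') (h : x₀ ≫ C.gU = x₁ ≫ C.gU)
    (v : Lifts ((toDD C.gU).obj (Over.mk (pullback.snd Wd.hom C.ju))).obj x₀)
    (w : Lifts ((toDD C.gU).obj (Over.mk C.wh)).obj x₀)
    (hw : (show T ⟶ pullback C.gU C.wh from w.1) =
      (show T ⟶ pullback C.gU (pullback.snd Wd.hom C.ju) from v.1) ≫ (E C Wd κ).hom) :
    (show T ⟶ pullback C.gU C.wh from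
      (((toDD C.gU).obj (Over.mk C.wh)).φ x₀ x₁ h w).1) =
    (show T ⟶ pullback C.gU (pullback.snd Wd.hom C.ju) from
      (((toDD C.gU).obj (Over.mk (pullback.snd Wd.hom C.ju))).φ x₀ x₁ h v).1) ≫
        (E C Wd κ).hom := by
  obtain ⟨v1, hv1⟩ : ∃ v1 : T ⟶ pullback C.gU (pullback.snd Wd.hom C.ju), v1 = v.1 := ⟨_, rfl⟩
  obtain ⟨w1, hw1⟩ : ∃ w1 : T ⟶ pullback C.gU C.wh, w1 = w.1 := ⟨_, rfl⟩
  obtain ⟨p1, hp1⟩ : ∃ p1 : T ⟶ pullback C.gU (pullback.snd Wd.hom C.ju),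
    p1 = (((toDD C.gU).obj (Over.mk (pullback.snd Wd.hom C.ju))).φ x₀ x₁ h v).1 := ⟨_, rfl⟩
  obtain ⟨q1, hq1⟩ : ∃ q1 : T ⟶ pullback C.gU C.wh,
    q1 = (((toDD C.gU).obj (Over.mk C.wh)).φ x₀ x₁ h w).1 := ⟨_, rfl⟩
  have v1_fst : v1 ≫ pullback.fst C.gU (pullback.snd Wd.hom C.ju) = x₀ := by
    rw [hv1]; exact v.2
  have p1_fst : p1 ≫ pullback.fst C.gU (pullback.snd Wd.hom C.ju) = x₁ := by
    rw [hp1]; exact (((toDD C.gU).obj (Over.mk (pullback.snd Wd.hom C.ju))).φ x₀ x₁ h v).2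
  have p1_snd : p1 ≫ pullback.snd C.gU (pullback.snd Wd.hom C.ju) =
      v1 ≫ pullback.snd C.gU (pullback.snd Wd.hom C.ju) := by
    rw [hp1, hv1]; exact pullback.lift_snd _ _ _
  have q1_fst : q1 ≫ pullback.fst C.gU C.wh = x₁ := by
    rw [hq1]; exact (((toDD C.gU).obj (Over.mk C.wh)).φ x₀ x₁ h w).2
  have q1_snd : q1 ≫ pullback.snd C.gU C.wh = w1 ≫ pullback.snd C.gU C.wh := by
    rw [hq1, hw1]; exact pullback.lift_snd _ _ _
  suffices hgoal : q1 = p1 ≫ (E C Wd κ).hom by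
    rw [hq1, hp1] at hgoal
    exact hgoal
  have hw' : w1 = v1 ≫ (E C Wd κ).hom := by rw [hw1, hv1]; exact hw
  obtain ⟨y₀, hy₀d⟩ : ∃ y₀ : T ⟶ pullback C.wh C.gU, y₀ = v1 ≫ (iso1 C Wd κ).inv := ⟨_, rfl⟩
  obtain ⟨y₁, hy₁d⟩ : ∃ y₁ : T ⟶ pullback C.wh C.gU, y₁ = p1 ≫ (iso1 C Wd κ).inv := ⟨_, rfl⟩
  have hy₀ : y₀ ≫ pullback.snd C.wh C.gU = x₀ := by
    rw [hy₀d, Category.assoc, iso1_inv_snd, v1_fst]
  have hy₁ : y₁ ≫ pullback.snd C.wh C.gU = x₁ := by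
    rw [hy₁d, Category.assoc, iso1_inv_snd, p1_fst]
  have hy₀m : y₀ ≫ mW C Wd κ = v1 ≫ pullback.snd C.gU (pullback.snd Wd.hom C.ju) := by
    rw [hy₀d, Category.assoc, iso1_inv_mW]
  have hy₁m : y₁ ≫ mW C Wd κ = v1 ≫ pullback.snd C.gU (pullback.snd Wd.hom C.ju) := by
    rw [hy₁d, Category.assoc, iso1_inv_mW, p1_snd]
  have h' : (x₀ ≫ C.ju') ≫ C.g = (x₁ ≫ C.ju') ≫ C.g := by
    rw [Category.assoc, Category.assoc, C.hsq.w, ← Category.assoc, h, Category.assoc]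
  have hv₀ : (y₀ ≫ C.a) ≫ C.wh' = x₀ ≫ C.ju' := by
    rw [Category.assoc, C.ha.w, ← Category.assoc, hy₀]
  have hv₁ : (y₁ ≫ C.a) ≫ C.wh' = x₁ ≫ C.ju' := by
    rw [Category.assoc, C.ha.w, ← Category.assoc, hy₁]
  obtain ⟨ℓ₀, hℓ₀d⟩ : ∃ ℓ₀ : T ⟶ pullback C.g Wd.hom, ℓ₀ = (y₀ ≫ C.a) ≫ ki C Wd κ := ⟨_, rfl⟩
  have hℓ₀ : ℓ₀ ≫ pullback.fst C.g Wd.hom = x₀ ≫ C.ju' := by
    rw [hℓ₀d, Category.assoc, ki_fst, hv₀]
  have hℓ₀k : y₀ ≫ C.a = ℓ₀ ≫ k C Wd κ := by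
    rw [hℓ₀d, Category.assoc, ki_k, Category.comp_id]
  let vv : Lifts ((toDD C.g).obj Wd).obj (x₀ ≫ C.ju') := ⟨ℓ₀, hℓ₀⟩
  let ww : Lifts (dd C).obj (x₀ ≫ C.ju') := ⟨y₀ ≫ C.a, hv₀⟩
  have hcomm := κ.hom.comm (x₀ ≫ C.ju') (x₁ ≫ C.ju') h' vv ww hℓ₀k
  obtain ⟨r1, hr1⟩ : ∃ r1 : T ⟶ pullback C.g Wd.hom,
    r1 = (((toDD C.g).obj Wd).φ (x₀ ≫ C.ju') (x₁ ≫ C.ju') h' vv).1 := ⟨_, rfl⟩
  have r1_fst : r1 ≫ pullback.fst C.g Wd.hom = x₁ ≫ C.ju' := by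
    rw [hr1]; exact (((toDD C.g).obj Wd).φ (x₀ ≫ C.ju') (x₁ ≫ C.ju') h' vv).2
  have r1_snd : r1 ≫ pullback.snd C.g Wd.hom = ℓ₀ ≫ pullback.snd C.g Wd.hom := by
    rw [hr1]; exact pullback.lift_snd _ _ _
  have e0 : ((y₀ ≫ C.a) ≫ ki C Wd κ) ≫ pullback.snd C.g Wd.hom =
      (y₀ ≫ mW C Wd κ) ≫ pullback.fst Wd.hom C.ju :=
    calc ((y₀ ≫ C.a) ≫ ki C Wd κ) ≫ pullback.snd C.g Wd.hom
        = y₀ ≫ (C.a ≫ ki C Wd κ ≫ pullback.snd C.g Wd.hom) := by simp only [Category.assoc]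
      _ = y₀ ≫ (mW C Wd κ ≫ pullback.fst Wd.hom C.ju) := by rw [mW_fst]
      _ = (y₀ ≫ mW C Wd κ) ≫ pullback.fst Wd.hom C.ju := (Category.assoc _ _ _).symm
  have e1 : ((y₁ ≫ C.a) ≫ ki C Wd κ) ≫ pullback.snd C.g Wd.hom =
      (y₁ ≫ mW C Wd κ) ≫ pullback.fst Wd.hom C.ju :=
    calc ((y₁ ≫ C.a) ≫ ki C Wd κ) ≫ pullback.snd C.g Wd.hom
        = y₁ ≫ (C.a ≫ ki C Wd κ ≫ pullback.snd C.g Wd.hom) := by simp only [Category.assoc]
      _ = y₁ ≫ (mW C Wd κ ≫ pullback.fst Wd.hom C.ju) := by rw [mW_fst]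
      _ = (y₁ ≫ mW C Wd κ) ≫ pullback.fst Wd.hom C.ju := (Category.assoc _ _ _).symm
  have e : r1 = (y₁ ≫ C.a) ≫ ki C Wd κ := by
    apply pullback.hom_ext
    · rw [r1_fst, Category.assoc, ki_fst, hv₁]
    · rw [r1_snd, hℓ₀d, e0, e1, hy₀m, hy₁m]
  have hphi : phi C (x₀ ≫ C.ju') (x₁ ≫ C.ju') h' (y₀ ≫ C.a) hv₀ = y₁ ≫ C.a := by
    refine hcomm.trans ?_
    rw [← hr1]
    change r1 ≫ k C Wd κ = _
    rw [e, Category.assoc, ki_k, Category.comp_id]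
  have key := fst_eq_of_phi C x₀ x₁ h y₀ y₁ hy₀ hy₁ h' hv₀ hphi
  apply pullback.hom_ext
  · rw [Category.assoc, E_hom_fst, q1_fst, p1_fst]
  · rw [Category.assoc, E_hom_snd, q1_snd, hw', Category.assoc, E_hom_snd, ← Category.assoc,
      ← Category.assoc, ← hy₀d, ← hy₁d]
    exact key

end Comm

section Final

variable [Surjective C.g] [QuasiCompact C.g] (Wd : Over C.S) (κ : (toDD C.g).obj Wd ≅ dd C)

lemma surjective_gU : Surjective C.gU :=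
  MorphismProperty.of_isPullback (P := @Surjective) C.hsq (inferInstance : Surjective C.g)

lemma flat_gU : Flat C.gU :=
  MorphismProperty.of_isPullback (P := @Flat) C.hsq (inferInstance : Flat C.g)

lemma quasiCompact_gU : QuasiCompact C.gU :=
  MorphismProperty.of_isPullback (P := @QuasiCompact) C.hsq (inferInstance : QuasiCompact C.g)

include κ in
/-- The restriction of the descended scheme to `SU` is `W`. -/
theorem exists_iso_restrict :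
    ∃ ε : pullback Wd.hom C.ju ≅ C.W, ε.hom ≫ C.wh = pullback.snd Wd.hom C.ju := by
  haveI := surjective_gU C
  haveI := flat_gU C
  haveI := quasiCompact_gU C
  haveI := Groth.Agent.S1131.result C.gU
  haveI := Groth.Agent.S1132.result C.gU
  let D₁ := (toDD C.gU).obj (Over.mk (pullback.snd Wd.hom C.ju))
  let D₂ := (toDD C.gU).obj (Over.mk C.wh)
  let ε : D₁.obj ≅ D₂.obj := Over.isoMk (E C Wd κ) (E_hom_fst C Wd κ)
  let θ : D₁ ≅ D₂ := Groth.Agent.Lib.Helper5.AffCore.isoMk D₁ D₂ ε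
    (fun T x₀ x₁ h v w hw => comm_E C Wd κ x₀ x₁ h v w hw)
  let e := (toDD C.gU).preimageIso θ
  exact ⟨(Over.forget _).mapIso e, Over.w e.hom⟩

end Final

end Groth.Agent.Lib.Helper46.PureEff
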