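import Mathlib
import Groth.Prelude.Def_FEt
import Groth.Agent.S0084
import Groth.Agent.Lib.Helper46.PureEff

/-!
# Purity of a pair descends along faithfully flat quasi-compact morphisms (helper46)
-/

set_option autoImplicit false
set_option linter.style.haveILetI false
universe u

open CategoryTheory CategoryTheory.Limits Opposite TopologicalSpace AlgebraicGeometry Desc

namespace Groth.Agent.Lib.Helper46.PureFinal

open Groth.Agent.Lib.Helper46.FlatHartogs Groth.Agent.Lib.Helper46.PureDesc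
  Groth.Agent.Lib.Helper46.PureEff

variable {S SU : Scheme.{u}} [IsLocallyNoetherian S] (ju : SU ⟶ S) [IsOpenImmersion ju]
  (hS : ResBij S ju.opensRange)

include hS in
theorem key_ext (Y₁ Y₂ : FEt.Cat S) (ψ : pullback Y₁.hom ju ⟶ Y₂.left)
    (hψ : ψ ≫ Y₂.hom = pullback.fst Y₁.hom ju ≫ Y₁.hom) :
    ∃! φ : Y₁.left ⟶ Y₂.left, φ ≫ Y₂.hom = Y₁.hom ∧ pullback.fst Y₁.hom ju ≫ φ = ψ := by
  haveI : Etale Y₁.hom := Y₁.prop.2
  haveI : IsFinite Y₂.hom := Y₂.prop.1
  refine existsUnique_extension_of_flat ju.opensRange hS Y₁.hom (pullback.fst Y₁.hom ju) ?_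
    Y₁.hom Y₂.hom ψ hψ
  rw [Scheme.Pullback.range_fst]
  rfl

include hS in
theorem full_faithful_restrict : (FEt.restrict ju).Full ∧ (FEt.restrict ju).Faithful := by
  constructor
  · refine ⟨fun {Y₁ Y₂} ψ₀ => ?_⟩
    have hw : ψ₀.left ≫ pullback.snd Y₂.hom ju =
        pullback.snd Y₁.hom ju := MorphismProperty.Over.w ψ₀
    have hψ : (ψ₀.left ≫ pullback.fst Y₂.hom ju) ≫ Y₂.hom =
        pullback.fst Y₁.hom ju ≫ Y₁.hom := by
      calc (ψ₀.left ≫ pullback.fst Y₂.hom ju) ≫ Y₂.hom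
          = ψ₀.left ≫ (pullback.fst Y₂.hom ju ≫ Y₂.hom) := Category.assoc _ _ _
        _ = ψ₀.left ≫ (pullback.snd Y₂.hom ju ≫ ju) :=
            congrArg (ψ₀.left ≫ ·) pullback.condition
        _ = (ψ₀.left ≫ pullback.snd Y₂.hom ju) ≫ ju :=
            (Category.assoc _ _ _).symm
        _ = pullback.snd Y₁.hom ju ≫ ju :=
            congrArg (· ≫ ju) hw
        _ = pullback.fst Y₁.hom ju ≫ Y₁.hom := pullback.condition.symm
    obtain ⟨φ, ⟨h1, h2⟩, -⟩ := key_ext ju hS Y₁ Y₂ _ hψ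
    refine ⟨MorphismProperty.Over.homMk φ h1 trivial, ?_⟩
    apply MorphismProperty.Over.Hom.ext
    apply pullback.hom_ext
    · exact (pullback.lift_fst _ _ _).trans h2
    · exact (pullback.lift_snd _ _ _).trans hw.symm
  · refine ⟨fun {Y₁ Y₂} a b hab => ?_⟩
    have ha : ((FEt.restrict ju).map a).left ≫
        pullback.fst Y₂.hom ju =
        pullback.fst Y₁.hom ju ≫ a.left := pullback.lift_fst _ _ _
    have hb : ((FEt.restrict ju).map b).left ≫
        pullback.fst Y₂.hom ju =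
        pullback.fst Y₁.hom ju ≫ b.left := pullback.lift_fst _ _ _
    have e : pullback.fst Y₁.hom ju ≫ a.left =
        pullback.fst Y₁.hom ju ≫ b.left :=
      ha.symm.trans ((congrArg (fun c => c.left ≫ pullback.fst Y₂.hom ju) hab).trans hb)
    have hψ : (pullback.fst Y₁.hom ju ≫ a.left) ≫ Y₂.hom =
        pullback.fst Y₁.hom ju ≫ Y₁.hom :=
      (Category.assoc _ _ _).trans (congrArg (pullback.fst Y₁.hom ju ≫ ·)
        (MorphismProperty.Over.w a))
    obtain ⟨φ, -, huniq⟩ := key_ext ju hS Y₁ Y₂ _ hψ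
    apply MorphismProperty.Over.Hom.ext
    exact (huniq a.left ⟨MorphismProperty.Over.w a, rfl⟩).trans
      (huniq b.left ⟨MorphismProperty.Over.w b, e.symm⟩).symm

variable {S' SU' : Scheme.{u}} (g : S' ⟶ S) [Flat g] [Surjective g] [QuasiCompact g]
  (ju' : SU' ⟶ S') (gU : SU' ⟶ SU) (hsq : IsPullback ju' gU g ju)

include hS hsq in
theorem essSurj_restrict (hpure : (FEt.restrict ju').EssSurj) : (FEt.restrict ju).EssSurj := by
  constructor
  intro W₀
  obtain ⟨W', ⟨e⟩⟩ : ∃ W' : FEt.Cat S', Nonempty ((FEt.restrict ju').obj W' ≅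
      (FEt.restrict gU).obj W₀) :=
    ⟨(FEt.restrict ju').objPreimage ((FEt.restrict gU).obj W₀),
      ⟨(FEt.restrict ju').objObjPreimageIso ((FEt.restrict gU).obj W₀)⟩⟩
  haveI : Etale W'.hom := W'.prop.2
  haveI : IsFinite W'.hom := W'.prop.1
  obtain ⟨eh, heh⟩ : ∃ eh : pullback W'.hom ju' ⟶ pullback W₀.hom gU, eh = e.hom.left := ⟨_, rfl⟩
  obtain ⟨ei, hei⟩ : ∃ ei : pullback W₀.hom gU ⟶ pullback W'.hom ju', ei = e.inv.left := ⟨_, rfl⟩
  have h1 : eh ≫ ei = 𝟙 _ := by
    rw [heh, hei]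
    exact congrArg (fun m => m.left) e.hom_inv_id
  have h2 : ei ≫ eh = 𝟙 _ := by
    rw [heh, hei]
    exact congrArg (fun m => m.left) e.inv_hom_id
  have hw : eh ≫ pullback.snd W₀.hom gU = pullback.snd W'.hom ju' := by
    rw [heh]; exact MorphismProperty.Over.w e.hom
  have ha : IsPullback (ei ≫ pullback.fst W'.hom ju') (pullback.snd W₀.hom gU) W'.hom ju' := by
    refine IsPullback.of_iso (IsPullback.of_hasPullback W'.hom ju')
      (⟨eh, ei, h1, h2⟩ : pullback W'.hom ju' ≅ pullback W₀.hom gU)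
      (Iso.refl _) (Iso.refl _) (Iso.refl _) ?_ ?_ ?_ ?_
    · change pullback.fst W'.hom ju' ≫ 𝟙 _ = eh ≫ ei ≫ pullback.fst W'.hom ju'
      rw [Category.comp_id, ← Category.assoc, h1, Category.id_comp]
    · change pullback.snd W'.hom ju' ≫ 𝟙 _ = eh ≫ pullback.snd W₀.hom gU
      rw [Category.comp_id, hw]
    · simp
    · simp
  let C : Ctx.{u} :=
    { S := S, S' := S', SU := SU, SU' := SU', g := g, ju := ju, ju' := ju', gU := gU, hsq := hsq
      W := W₀.left, W' := W'.left, wh := W₀.hom, wh' := W'.hom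
      a := ei ≫ pullback.fst W'.hom ju', ha := ha
      noeth := inferInstance, flat_g := inferInstance, oi := inferInstance
      aff := inferInstance, flat_w := inferInstance, hS := hS }
  haveI : Surjective C.g := inferInstanceAs (Surjective g)
  haveI : QuasiCompact C.g := inferInstanceAs (QuasiCompact g)
  haveI : Flat C.g := inferInstanceAs (Flat g)
  obtain ⟨Wd, ⟨κ⟩⟩ := effective C
  have hUet : Etale Wd.hom :=
    Groth.Agent.Lib.Helper5.DescProps.of_iso_toDD (p := C.g) @Etale κ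
      (inferInstanceAs (Etale W'.hom))
  haveI := Groth.Agent.S0084.result.{u}
  have hUfin : IsFinite Wd.hom :=
    Groth.Agent.Lib.Helper5.DescProps.of_iso_toDD (p := C.g) @IsFinite κ
      (inferInstanceAs (IsFinite W'.hom))
  obtain ⟨ε, hε⟩ := exists_iso_restrict C Wd κ
  refine ⟨MorphismProperty.Over.mk ⊤ Wd.hom ⟨hUfin, hUet⟩, ⟨?_⟩⟩
  exact MorphismProperty.Over.isoMk ε hε

include hS hsq in
/-- **Purity descends**: in the situation above, if restriction along `ju'` is essentially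
surjective then restriction along `ju` is an equivalence. -/
theorem restrict_isEquivalence (hpure : (FEt.restrict ju').EssSurj) :
    (FEt.restrict ju).IsEquivalence :=
  ⟨(full_faithful_restrict ju hS).2, (full_faithful_restrict ju hS).1,
    essSurj_restrict ju hS g ju' gU hsq hpure⟩

end Groth.Agent.Lib.Helper46.PureFinal
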