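import Mathlib
import Groth.Agent.S7291

/-!
# Algebra for the limit argument on S-subtrusive morphisms

`V` a valuation ring that is an `R`-algebra, `D k` finitely many `R`-algebras.  If for every
finitely generated `R`-subalgebra `A ⊆ V` some `D k` and `A` map compatibly to a local ring `W` with
`A → W` injective and mapping `𝔪_V ∩ A` into `𝔪_W`, then some `D k` and `V` map compatibly to a
valuation ring `W` with `V → W` injective and local.
-/

set_option autoImplicit false
universe u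
open TensorProduct

namespace Groth.Agent.Lib.Helper46.SubtrAlg

section

variable {R : Type u} [CommRing R] (D : Type u) [CommRing D] [Algebra R D]

/-- The structure map `A → A ⊗ D`. -/
noncomputable abbrev incl (A : Type u) [CommRing A] [Algebra R A] : A →+* A ⊗[R] D :=
  Algebra.TensorProduct.includeLeftRingHom

/-- The transition map `A ⊗ D → B ⊗ D`. -/
noncomputable abbrev tauR {A B : Type u} [CommRing A] [CommRing B] [Algebra R A] [Algebra R B]
    (f : A →ₐ[R] B) : A ⊗[R] D →+* B ⊗[R] D :=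
  (Algebra.TensorProduct.map f (AlgHom.id R D)).toRingHom

variable {A B C : Type u} [CommRing A] [CommRing B] [CommRing C] [Algebra R A] [Algebra R B]
  [Algebra R C]

lemma tauR_incl (f : A →ₐ[R] B) (x : A) : tauR D f (incl D A x) = incl D B (f x) := by
  change Algebra.TensorProduct.map f (AlgHom.id R D) (x ⊗ₜ 1) = f x ⊗ₜ 1
  rw [Algebra.TensorProduct.map_tmul]
  rfl

lemma tauR_mem (f : A →ₐ[R] B) (qA : Ideal A) (qB : Ideal B) (h : qA ≤ qB.comap f)
    (a : A ⊗[R] D) (ha : a ∈ qA.map (incl D A)) : tauR D f a ∈ qB.map (incl D B) := by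
  have h1 : tauR D f a ∈ (qA.map (incl D A)).map (tauR D f) := Ideal.mem_map_of_mem _ ha
  rw [Ideal.map_map] at h1
  have h2 : (tauR D f).comp (incl D A) = (incl D B).comp f.toRingHom := by
    ext x; exact tauR_incl D f x
  rw [h2, ← Ideal.map_map] at h1
  exact Ideal.map_mono (Ideal.map_le_iff_le_comap.mpr h) h1

lemma tauR_comp (f : A →ₐ[R] B) (g : B →ₐ[R] C) (x : A ⊗[R] D) :
    tauR D g (tauR D f x) = tauR D (g.comp f) x := by
  induction x using TensorProduct.induction_on with
  | zero => simp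
  | tmul a d =>
    change Algebra.TensorProduct.map g (AlgHom.id R D)
      (Algebra.TensorProduct.map f (AlgHom.id R D) (a ⊗ₜ d)) =
      Algebra.TensorProduct.map (g.comp f) (AlgHom.id R D) (a ⊗ₜ d)
    simp only [Algebra.TensorProduct.map_tmul, AlgHom.coe_comp, Function.comp_apply,
      AlgHom.coe_id, id_eq]
  | add x y hx hy => simp only [map_add, hx, hy]

lemma tauR_eq_rTensor (f : A →ₐ[R] B) (x : A ⊗[R] D) :
    tauR D f x = LinearMap.rTensor D f.toLinearMap x := rfl

end

section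

variable {R : Type u} [CommRing R] (D : Type u) [CommRing D] [Algebra R D]
  {V : Type u} [CommRing V] [Algebra R V]

lemma val_comp_inclusion {A B : Subalgebra R V} (h : A ≤ B) :
    B.val.comp (Subalgebra.inclusion h) = A.val := by
  ext; rfl

/-- Elements of `𝔪 (V ⊗ D)` come from a finitely generated stage. -/
theorem exists_fg_mem (m : Ideal V) (a : V ⊗[R] D) (ha : a ∈ m.map (incl D V)) :
    ∃ A : Subalgebra R V, A.FG ∧ ∃ a' : A ⊗[R] D,
      a' ∈ (m.comap A.val).map (incl D A) ∧ tauR D A.val a' = a := by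
  induction ha using Submodule.span_induction with
  | mem x hx =>
    obtain ⟨v, hv, rfl⟩ := hx
    have hfg : (Algebra.adjoin R ({v} : Set V)).FG := by
      have := Subalgebra.fg_adjoin_finset (R := R) ({v} : Finset V)
      simpa using this
    refine ⟨Algebra.adjoin R {v}, hfg, incl D _ ⟨v, Algebra.subset_adjoin rfl⟩,
      Ideal.mem_map_of_mem _ (by simpa using hv), ?_⟩
    rw [tauR_incl]; rfl
  | zero => exact ⟨⊥, Subalgebra.fg_bot, 0, Ideal.zero_mem _, map_zero _⟩
  | add x y _ _ hx hy =>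
    obtain ⟨A₁, hA₁, x', hx', rfl⟩ := hx
    obtain ⟨A₂, hA₂, y', hy', rfl⟩ := hy
    have h1 : A₁ ≤ A₁ ⊔ A₂ := le_sup_left
    have h2 : A₂ ≤ A₁ ⊔ A₂ := le_sup_right
    refine ⟨A₁ ⊔ A₂, hA₁.sup hA₂,
      tauR D (Subalgebra.inclusion h1) x' + tauR D (Subalgebra.inclusion h2) y',
      Ideal.add_mem _ (tauR_mem D _ _ _ (fun z hz => hz) _ hx')
        (tauR_mem D _ _ _ (fun z hz => hz) _ hy'), ?_⟩
    rw [map_add, tauR_comp, tauR_comp, val_comp_inclusion, val_comp_inclusion]
  | smul r x _ hx =>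
    obtain ⟨A₁, hA₁, x', hx', rfl⟩ := hx
    obtain ⟨A₂, hA₂, r', hr'⟩ := TensorProduct.Algebra.exists_of_fg (R := R) (S := V) (N := D) r
    have h1 : A₁ ≤ A₁ ⊔ A₂ := le_sup_left
    have h2 : A₂ ≤ A₁ ⊔ A₂ := le_sup_right
    refine ⟨A₁ ⊔ A₂, hA₁.sup hA₂,
      tauR D (Subalgebra.inclusion h2) r' * tauR D (Subalgebra.inclusion h1) x',
      Ideal.mul_mem_left _ _ (tauR_mem D _ _ _ (fun z hz => hz) _ hx'), ?_⟩
    rw [map_mul, tauR_comp, tauR_comp, val_comp_inclusion, val_comp_inclusion, smul_eq_mul]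
    congr 1

/-- A relation `s (1 + a) = 0` in `V ⊗ D` holds at a finitely generated stage. -/
theorem exists_fg_relation (m : Ideal V) (s : V) (a : V ⊗[R] D) (ha : a ∈ m.map (incl D V))
    (h0 : incl D V s * (1 + a) = 0) :
    ∃ A₀ : Subalgebra R V, A₀.FG ∧ ∃ (hs : s ∈ A₀) (a' : A₀ ⊗[R] D),
      a' ∈ (m.comap A₀.val).map (incl D A₀) ∧ incl D A₀ ⟨s, hs⟩ * (1 + a') = 0 := by
  obtain ⟨A₁, hA₁, a₁, ha₁, rfl⟩ := exists_fg_mem D m a ha
  have hfg : (Algebra.adjoin R ({s} : Set V)).FG := by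
    have := Subalgebra.fg_adjoin_finset (R := R) ({s} : Finset V)
    simpa using this
  let A₂ : Subalgebra R V := A₁ ⊔ Algebra.adjoin R {s}
  have hA₂ : A₂.FG := hA₁.sup hfg
  have h1 : A₁ ≤ A₂ := le_sup_left
  have hs₂ : s ∈ A₂ := (le_sup_right : Algebra.adjoin R {s} ≤ A₂) (Algebra.subset_adjoin rfl)
  let a₂ : A₂ ⊗[R] D := tauR D (Subalgebra.inclusion h1) a₁
  have ha₂ : a₂ ∈ (m.comap A₂.val).map (incl D A₂) := tauR_mem D _ _ _ (fun z hz => hz) _ ha₁
  let t : A₂ ⊗[R] D := incl D A₂ ⟨s, hs₂⟩ * (1 + a₂)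
  have ht : tauR D A₂.val t = 0 := by
    simp only [t, a₂, map_mul, map_add, map_one]
    rw [tauR_comp, val_comp_inclusion, tauR_incl]
    exact h0
  have ht' : LinearMap.rTensor D A₂.val.toLinearMap t = LinearMap.rTensor D A₂.val.toLinearMap 0 := by
    rw [map_zero]; exact ht
  obtain ⟨B, hAB, hB, hB0⟩ := TensorProduct.Algebra.eq_of_fg_of_subtype_eq hA₂ ht'
  rw [map_zero] at hB0
  have hB0' : tauR D (Subalgebra.inclusion hAB) t = 0 := hB0
  refine ⟨B, hB, hAB hs₂, tauR D (Subalgebra.inclusion hAB) a₂,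
    tauR_mem D _ _ _ (fun z hz => hz) _ ha₂, ?_⟩
  simp only [t, map_mul, map_add, map_one] at hB0'
  rw [tauR_incl] at hB0'
  exact hB0'

/-- A relation at a stage persists at every larger stage. -/
theorem relation_mono (m : Ideal V) {A₀ A : Subalgebra R V} (h : A₀ ≤ A) (s : V) (hs : s ∈ A₀)
    (a' : A₀ ⊗[R] D) (ha' : a' ∈ (m.comap A₀.val).map (incl D A₀))
    (h0 : incl D A₀ ⟨s, hs⟩ * (1 + a') = 0) :
    ∃ a'' : A ⊗[R] D, a'' ∈ (m.comap A.val).map (incl D A) ∧
      incl D A ⟨s, h hs⟩ * (1 + a'') = 0 := by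
  refine ⟨tauR D (Subalgebra.inclusion h) a', tauR_mem D _ _ _ (fun z hz => hz) _ ha', ?_⟩
  have := congrArg (tauR D (Subalgebra.inclusion h)) h0
  simp only [map_mul, map_add, map_one, map_zero] at this
  rw [tauR_incl] at this
  exact this

end

/-- No relation `ι s (1 + a) = 0` (`s ≠ 0`, `a ∈ q C`) when `C` maps to a local ring `W` with
`A → W` injective and `q` mapping into the maximal ideal. -/
theorem no_relation_of_hom' {A C W : Type*} [CommRing A] [CommRing C] [CommRing W] [IsLocalRing W]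
    (q : Ideal A) (ι : A →+* C) (ρ : C →+* W)
    (hinj : Function.Injective (ρ.comp ι))
    (hq : ∀ x ∈ q, ρ (ι x) ∈ IsLocalRing.maximalIdeal W)
    (s : A) (hs : s ≠ 0) (a : C) (ha : a ∈ q.map ι) : ι s * (1 + a) ≠ 0 := by
  intro h0
  have h1 : ρ (ι s) * (1 + ρ a) = 0 := by
    have := congrArg ρ h0
    simpa using this
  have h2 : ρ a ∈ IsLocalRing.maximalIdeal W := by
    have h3 : ρ a ∈ (q.map ι).map ρ := Ideal.mem_map_of_mem ρ ha
    rw [Ideal.map_map] at h3
    have h4 : q.map (ρ.comp ι) ≤ IsLocalRing.maximalIdeal W :=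
      Ideal.map_le_iff_le_comap.mpr (fun x hx => hq x hx)
    exact h4 h3
  have h4 : IsUnit (1 + ρ a) := by
    rcases IsLocalRing.isUnit_or_isUnit_of_add_one (a := 1 + ρ a) (b := -ρ a) (by ring) with h | h
    · exact h
    · exact absurd (by simpa using h) ((IsLocalRing.mem_maximalIdeal _).mp h2)
  have h5 : ρ (ι s) = 0 := (h4.mul_left_eq_zero).mp h1
  exact hs (hinj (by simpa using h5))

open Groth.Agent.S7291 in
/-- The algebraic limit argument. -/
theorem exists_valuationRing_lift {R V : Type u} [CommRing R] [CommRing V] [IsDomain V]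
    [ValuationRing V] [Algebra R V] {K : Type*} [Finite K] (D : K → Type u)
    [∀ k, CommRing (D k)] [∀ k, Algebra R (D k)]
    (H : ∀ A : Subalgebra R V, A.FG → ∃ (k : K) (W : Type u) (_ : CommRing W) (_ : IsLocalRing W)
        (α : D k →+* W) (β : A →+* W),
        α.comp (algebraMap R (D k)) = β.comp (algebraMap R A) ∧ Function.Injective β ∧
        ∀ x : A, (x : V) ∈ IsLocalRing.maximalIdeal V → β x ∈ IsLocalRing.maximalIdeal W) :
    ∃ (k : K) (W : Type u) (_ : CommRing W) (_ : IsDomain W) (_ : ValuationRing W)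
      (α : D k →+* W) (β : V →+* W),
      α.comp (algebraMap R (D k)) = β.comp (algebraMap R V) ∧ Function.Injective β ∧
      IsLocalHom β := by
  classical
  let m := IsLocalRing.maximalIdeal V
  by_cases hex : ∃ k : K, ∀ s : V, s ≠ 0 → ∀ a ∈ m.map (incl (R := R) (D k) V),
      incl (R := R) (D k) V s * (1 + a) ≠ 0
  · obtain ⟨k, hk⟩ := hex
    obtain ⟨W, hWr, hWd, hWv, ρ, hinj, hloc⟩ :=
      exists_valuationRing_of_no_relation (incl (R := R) (D k) V) hk
    refine ⟨k, W, hWr, hWd, hWv,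
      ρ.comp (Algebra.TensorProduct.includeRight (R := R) (A := V) (B := D k)).toRingHom,
      ρ.comp (incl (R := R) (D k) V), ?_, hinj, hloc⟩
    ext r
    simp only [RingHom.coe_comp, Function.comp_apply, AlgHom.toRingHom_eq_coe, RingHom.coe_coe,
      AlgHom.commutes]
    congr 1
  · exfalso
    push_neg at hex
    choose s hs a ha h0 using hex
    have hfg := fun k => exists_fg_relation (D k) m (s k) (a k) (ha k) (h0 k)
    choose A₀ hA₀ hsA a' ha' h0' using hfg
    -- the common stage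
    have hfgsup : (⨆ k, A₀ k).FG := by
      have hfin : ∀ k, ∃ t : Set V, t.Finite ∧ Algebra.adjoin R t = A₀ k := fun k =>
        Subalgebra.fg_def.mp (hA₀ k)
      choose t htf ht using hfin
      refine Subalgebra.fg_def.mpr ⟨⋃ k, t k, Set.finite_iUnion htf, ?_⟩
      rw [Algebra.adjoin_iUnion]
      exact iSup_congr ht
    let A : Subalgebra R V := ⨆ k, A₀ k
    obtain ⟨k, W, hWr, hWl, α, β, hcompat, hinj, hmax⟩ := H A hfgsup
    have hle : A₀ k ≤ A := le_iSup A₀ k
    obtain ⟨a'', ha'', h0''⟩ := relation_mono (D k) m hle (s k) (hsA k) (a' k) (ha' k) (h0' k)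
    letI : Algebra R W := (β.comp (algebraMap R A)).toAlgebra
    let βa : A →ₐ[R] W := { β with commutes' := fun r => rfl }
    let αa : D k →ₐ[R] W := { α with commutes' := fun r => congr($hcompat r) }
    let ρ : A ⊗[R] D k →+* W := (Algebra.TensorProduct.productMap βa αa).toRingHom
    have hρ : ∀ x : A, ρ (incl (R := R) (D k) A x) = β x := by
      intro x
      change Algebra.TensorProduct.productMap βa αa (x ⊗ₜ 1) = β x
      rw [Algebra.TensorProduct.productMap_left_apply]
      rfl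
    have hρ' : ρ.comp (incl (R := R) (D k) A) = β := RingHom.ext hρ
    refine no_relation_of_hom' (m.comap A.val) (incl (R := R) (D k) A) ρ (by rw [hρ']; exact hinj)
      (fun x hx => by rw [hρ]; exact hmax x hx) ⟨s k, hle (hsA k)⟩ ?_ a'' ha'' h0''
    intro h
    exact hs k (congrArg Subtype.val h)

end Groth.Agent.Lib.Helper46.SubtrAlg
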