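import Mathlib

/-!
# Descent of "relations" along cofiltered limits of affine schemes

For a morphism `q : Q ⟶ P` of affine schemes and points `b' ⤳ b` of `P`, a pair of points
`z' ⤳ z` of `Q` over `(b', b)` exists iff no "relation" `θ s (θ t + a) = e` holds in `Γ(Q)` with
`s ∉ 𝔭(b')`, `t ∉ 𝔭(b)`, `a ∈ 𝔭(b) Γ(Q)`, `e ∈ 𝔭(b') Γ(Q)`.  Relations descend to a finite stage of
a cofiltered limit of affine schemes.
-/

set_option autoImplicit false
universe u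
open CategoryTheory CategoryTheory.Limits AlgebraicGeometry

namespace Groth.Agent.Lib.Helper46.SubtrLim

/-- The prime ideal of global sections attached to a point of an affine scheme. -/
noncomputable def pr {P : Scheme.{u}} [IsAffine P] (b : P) : Ideal Γ(P, ⊤) :=
  (P.isoSpec.hom b : PrimeSpectrum Γ(P, ⊤)).asIdeal

instance {P : Scheme.{u}} [IsAffine P] (b : P) : (pr b).IsPrime :=
  (P.isoSpec.hom b : PrimeSpectrum Γ(P, ⊤)).isPrime

lemma pr_map {Q P : Scheme.{u}} [IsAffine Q] [IsAffine P] (q : Q ⟶ P) (z : Q) :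
    pr (q z) = (pr z).comap q.appTop.hom := by
  have h := Scheme.isoSpec_hom_naturality q
  have h2 : P.isoSpec.hom (q z) = Spec.map q.appTop (Q.isoSpec.hom z) := by
    rw [← Scheme.Hom.comp_apply, ← Scheme.Hom.comp_apply, h]
  unfold pr
  rw [h2]
  rfl

lemma pr_injective {P : Scheme.{u}} [IsAffine P] {b₁ b₂ : P} (h : pr b₁ = pr b₂) : b₁ = b₂ := by
  have h1 : P.isoSpec.hom b₁ = P.isoSpec.hom b₂ := PrimeSpectrum.ext h
  have h3 : ∀ b : P, P.isoSpec.inv (P.isoSpec.hom b) = b := fun b => by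
    rw [← Scheme.Hom.comp_apply, Iso.hom_inv_id]; rfl
  rw [← h3 b₁, ← h3 b₂, h1]

lemma specializes_iff_pr_le {P : Scheme.{u}} [IsAffine P] (b' b : P) :
    b' ⤳ b ↔ pr b' ≤ pr b := by
  have hind : Topology.IsInducing P.isoSpec.hom := P.isoSpec.hom.homeomorph.isInducing
  rw [← hind.specializes_iff]
  exact (PrimeSpectrum.le_iff_specializes
    (P.isoSpec.hom b' : PrimeSpectrum Γ(P, ⊤)) (P.isoSpec.hom b)).symm

lemma exists_pr_eq {P : Scheme.{u}} [IsAffine P] (p : Ideal Γ(P, ⊤)) [hp : p.IsPrime] :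
    ∃ b : P, pr b = p := by
  refine ⟨P.isoSpec.inv (⟨p, hp⟩ : PrimeSpectrum Γ(P, ⊤)), ?_⟩
  unfold pr
  rw [← Scheme.Hom.comp_apply, Iso.inv_hom_id]
  rfl

/-- A relation obstructing the lifting of the pair `(b', b)` along `q`. -/
def HasRel {Q P : Scheme.{u}} [IsAffine P] (q : Q ⟶ P) (b' b : P) : Prop :=
  ∃ (s t : Γ(P, ⊤)) (a e : Γ(Q, ⊤)), s ∉ pr b' ∧ t ∉ pr b ∧ a ∈ (pr b).map q.appTop.hom ∧
    e ∈ (pr b').map q.appTop.hom ∧ q.appTop.hom s * (q.appTop.hom t + a) = e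

lemma not_hasRel_of_pair {Q P : Scheme.{u}} [IsAffine Q] [IsAffine P] (q : Q ⟶ P) (z' z : Q)
    (hz : z' ⤳ z) : ¬ HasRel q (q z') (q z) := by
  rintro ⟨s, t, a, e, hs, ht, ha, he, h⟩
  have hP' : pr (q z') = (pr z').comap q.appTop.hom := pr_map q z'
  have hP : pr (q z) = (pr z).comap q.appTop.hom := pr_map q z
  have hle : pr z' ≤ pr z := (specializes_iff_pr_le z' z).mp hz
  have h1 : (pr (q z')).map q.appTop.hom ≤ pr z' := by rw [hP']; exact Ideal.map_comap_le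
  have h2 : (pr (q z)).map q.appTop.hom ≤ pr z := by rw [hP]; exact Ideal.map_comap_le
  have hs' : q.appTop.hom s ∉ pr z' := fun hc => hs (by rw [hP']; exact hc)
  have h3 : q.appTop.hom s * (q.appTop.hom t + a) ∈ pr z' := by rw [h]; exact h1 he
  have h4 : q.appTop.hom t + a ∈ pr z' :=
    (Ideal.IsPrime.mem_or_mem inferInstance h3).resolve_left hs'
  have h5 : q.appTop.hom t ∈ pr z := by
    have := (pr z).sub_mem (hle h4) (h2 ha)
    simpa using this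
  exact ht (by rw [hP]; exact h5)

lemma exists_pair_of_not_hasRel {Q P : Scheme.{u}} [IsAffine Q] [IsAffine P] (q : Q ⟶ P)
    (b' b : P) (h : ¬ HasRel q b' b) : ∃ z' z : Q, z' ⤳ z ∧ q z = b ∧ q z' = b' := by
  classical
  let θ := q.appTop.hom
  let p' := pr b'
  let p := pr b
  let M : Submonoid Γ(Q, ⊤) :=
    { carrier := {x | ∃ s, s ∉ p' ∧ ∃ t, t ∉ p ∧ ∃ a ∈ p.map θ, x = θ s * (θ t + a)}
      one_mem' := ⟨1, Ideal.IsPrime.one_notMem inferInstance, 1,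
        Ideal.IsPrime.one_notMem inferInstance, 0, Ideal.zero_mem _, by simp⟩
      mul_mem' := by
        rintro x y ⟨s, hs, t, ht, a, ha, rfl⟩ ⟨s₂, hs₂, t₂, ht₂, a₂, ha₂, rfl⟩
        refine ⟨s * s₂, fun hc => (Ideal.IsPrime.mem_or_mem inferInstance hc).elim hs hs₂,
          t * t₂, fun hc => (Ideal.IsPrime.mem_or_mem inferInstance hc).elim ht ht₂,
          θ t * a₂ + a * θ t₂ + a * a₂, ?_, ?_⟩
        · exact Ideal.add_mem _ (Ideal.add_mem _ (Ideal.mul_mem_left _ _ ha₂)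
            (Ideal.mul_mem_right _ _ ha)) (Ideal.mul_mem_right _ _ ha)
        · rw [map_mul, map_mul]; ring }
  have hdisj : Disjoint ((p'.map θ : Ideal Γ(Q, ⊤)) : Set Γ(Q, ⊤)) M := by
    rw [Set.disjoint_left]
    rintro x hx ⟨s, hs, t, ht, a, ha, rfl⟩
    exact h ⟨s, t, a, _, hs, ht, ha, hx, rfl⟩
  obtain ⟨P', hP'prime, hP'le, hP'M⟩ := Ideal.exists_le_prime_disjoint (p'.map θ) M hdisj
  rw [Set.disjoint_left] at hP'M
  have hcomap' : P'.comap θ = p' := by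
    apply le_antisymm
    · intro x hx
      by_contra hxp
      refine hP'M hx ⟨x, hxp, 1, Ideal.IsPrime.one_notMem inferInstance, 0, Ideal.zero_mem _, ?_⟩
      simp
    · exact Ideal.le_comap_map.trans (Ideal.comap_mono hP'le)
  let N : Submonoid Γ(Q, ⊤) := Submonoid.map θ p.primeCompl
  have hdisj2 : Disjoint ((P' ⊔ p.map θ : Ideal Γ(Q, ⊤)) : Set Γ(Q, ⊤)) N := by
    rw [Set.disjoint_left]
    rintro y hy ⟨t, ht, rfl⟩
    obtain ⟨x, hx, a, ha, hxa⟩ := Submodule.mem_sup.mp hy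
    refine hP'M hx ⟨1, Ideal.IsPrime.one_notMem inferInstance, t, ht, -a,
      Ideal.neg_mem_iff _ |>.mpr ha, ?_⟩
    rw [map_one, one_mul, ← hxa]; ring
  obtain ⟨Pp, hPprime, hPle, hPN⟩ := Ideal.exists_le_prime_disjoint (P' ⊔ p.map θ) N hdisj2
  rw [Set.disjoint_left] at hPN
  have hcomap : Pp.comap θ = p := by
    apply le_antisymm
    · intro x hx
      by_contra hxp
      exact hPN hx ⟨x, hxp, rfl⟩
    · exact Ideal.le_comap_map.trans (Ideal.comap_mono (le_sup_right.trans hPle))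
  obtain ⟨z', hz'⟩ := exists_pr_eq P'
  obtain ⟨z, hz⟩ := exists_pr_eq Pp
  refine ⟨z', z, ?_, ?_, ?_⟩
  · rw [specializes_iff_pr_le, hz', hz]
    exact le_sup_left.trans hPle
  · apply pr_injective
    rw [pr_map, hz]
    exact hcomap
  · apply pr_injective
    rw [pr_map, hz']
    exact hcomap'

/-- Relations pull back along a commutative square. -/
lemma HasRel.of_comm_sq {Q' Q P' P : Scheme.{u}} [IsAffine P'] [IsAffine P]
    (q : Q ⟶ P) (q' : Q' ⟶ P') (uQ : Q' ⟶ Q) (uP : P' ⟶ P) (hsq : uQ ≫ q = q' ≫ uP) (b' b : P')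
    (h : HasRel q (uP b') (uP b)) : HasRel q' b' b := by
  obtain ⟨s, t, a, e, hs, ht, ha, he, hrel⟩ := h
  have hsq' : uQ.appTop.hom.comp q.appTop.hom = q'.appTop.hom.comp uP.appTop.hom := by
    rw [← CommRingCat.hom_comp, ← CommRingCat.hom_comp, ← Scheme.Hom.comp_appTop,
      ← Scheme.Hom.comp_appTop, hsq]
  have hsq'' : ∀ x, uQ.appTop.hom (q.appTop.hom x) = q'.appTop.hom (uP.appTop.hom x) :=
    fun x => congr($hsq' x)
  have key : ∀ (c : P') (x : Γ(Q, ⊤)), x ∈ (pr (uP c)).map q.appTop.hom →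
      uQ.appTop.hom x ∈ (pr c).map q'.appTop.hom := by
    intro c x hx
    have h1 := Ideal.mem_map_of_mem uQ.appTop.hom hx
    rw [Ideal.map_map, hsq', ← Ideal.map_map] at h1
    refine Ideal.map_mono ?_ h1
    rw [pr_map]
    exact Ideal.map_comap_le
  refine ⟨uP.appTop.hom s, uP.appTop.hom t, uQ.appTop.hom a, uQ.appTop.hom e, ?_, ?_,
    key b a ha, key b' e he, ?_⟩
  · intro hc; apply hs; rw [pr_map]; exact hc
  · intro hc; apply ht; rw [pr_map]; exact hc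
  · rw [← hsq'', ← hsq'', ← map_add, ← map_mul, hrel]

section Descent

variable {J : Type u} [SmallCategory J] [IsCofiltered J] (DP DQ : J ⥤ Scheme.{u})
  [∀ j, IsAffine (DP.obj j)] [∀ j, IsAffine (DQ.obj j)]
  (cP : Cone DP) (hcP : IsLimit cP) (cQ : Cone DQ) (hcQ : IsLimit cQ) [IsAffine cP.pt]
  (q : DQ ⟶ DP) (qI : cQ.pt ⟶ cP.pt) (hq : ∀ j, cQ.π.app j ≫ q.app j = qI ≫ cP.π.app j)

include hcP hcQ hq in
/-- A relation at the limit already holds at some stage, and at all finer stages. -/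
theorem exists_stage_hasRel (b' b : cP.pt) (h : HasRel qI b' b) :
    ∃ j, ∀ (j' : J) (_ : j' ⟶ j), HasRel (q.app j') (cP.π.app j' b') (cP.π.app j' b) := by
  classical
  obtain ⟨s, t, a, e, hs, ht, ha, he, hrel⟩ := h
  -- notation
  let πP : ∀ j, Γ(DP.obj j, ⊤) →+* Γ(cP.pt, ⊤) := fun j => (cP.π.app j).appTop.hom
  let πQ : ∀ j, Γ(DQ.obj j, ⊤) →+* Γ(cQ.pt, ⊤) := fun j => (cQ.π.app j).appTop.hom
  let θ : ∀ j, Γ(DP.obj j, ⊤) →+* Γ(DQ.obj j, ⊤) := fun j => (q.app j).appTop.hom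
  let θI : Γ(cP.pt, ⊤) →+* Γ(cQ.pt, ⊤) := qI.appTop.hom
  let tP : ∀ {j' j : J} (_ : j' ⟶ j), Γ(DP.obj j, ⊤) →+* Γ(DP.obj j', ⊤) :=
    fun u => (DP.map u).appTop.hom
  let tQ : ∀ {j' j : J} (_ : j' ⟶ j), Γ(DQ.obj j, ⊤) →+* Γ(DQ.obj j', ⊤) :=
    fun u => (DQ.map u).appTop.hom
  have i1 : ∀ {j' j : J} (u : j' ⟶ j) x, πP j' (tP u x) = πP j x := by
    intro j' j u x
    change ((DP.map u).appTop ≫ (cP.π.app j').appTop).hom x = _
    rw [← Scheme.Hom.comp_appTop, cP.w u]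
  have i2 : ∀ {j' j : J} (u : j' ⟶ j) x, πQ j' (tQ u x) = πQ j x := by
    intro j' j u x
    change ((DQ.map u).appTop ≫ (cQ.π.app j').appTop).hom x = _
    rw [← Scheme.Hom.comp_appTop, cQ.w u]
  have i3 : ∀ {j' j : J} (u : j' ⟶ j) x, tQ u (θ j x) = θ j' (tP u x) := by
    intro j' j u x
    change ((q.app j).appTop ≫ (DQ.map u).appTop).hom x =
      ((DP.map u).appTop ≫ (q.app j').appTop).hom x
    rw [← Scheme.Hom.comp_appTop, ← Scheme.Hom.comp_appTop, q.naturality u]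
  have i3' : ∀ {j' j : J} (u : j' ⟶ j), (tQ u).comp (θ j) = (θ j').comp (tP u) :=
    fun u => RingHom.ext (i3 u)
  have i4 : ∀ j x, πQ j (θ j x) = θI (πP j x) := by
    intro j x
    change ((q.app j).appTop ≫ (cQ.π.app j).appTop).hom x =
      ((cP.π.app j).appTop ≫ qI.appTop).hom x
    rw [← Scheme.Hom.comp_appTop, ← Scheme.Hom.comp_appTop, hq j]
  have i5 : ∀ {j'' j' j : J} (v : j'' ⟶ j') (u : j' ⟶ j) x, tQ v (tQ u x) = tQ (v ≫ u) x := by
    intro j'' j' j v u x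
    change ((DQ.map u).appTop ≫ (DQ.map v).appTop).hom x = _
    rw [← Scheme.Hom.comp_appTop, ← DQ.map_comp]
  have i6 : ∀ {j'' j' j : J} (v : j'' ⟶ j') (u : j' ⟶ j) x, tP v (tP u x) = tP (v ≫ u) x := by
    intro j'' j' j v u x
    change ((DP.map u).appTop ≫ (DP.map v).appTop).hom x = _
    rw [← Scheme.Hom.comp_appTop, ← DP.map_comp]
  -- transport of ideal membership
  have transport : ∀ (𝔞 : Ideal Γ(cP.pt, ⊤)) {j' j : J} (u : j' ⟶ j) (x : Γ(DQ.obj j, ⊤)),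
      x ∈ (𝔞.comap (πP j)).map (θ j) → tQ u x ∈ (𝔞.comap (πP j')).map (θ j') := by
    intro 𝔞 j' j u x hx
    have h1 := Ideal.mem_map_of_mem (tQ u) hx
    rw [Ideal.map_map, i3' u, ← Ideal.map_map] at h1
    refine Ideal.map_mono ?_ h1
    rw [Ideal.map_le_iff_le_comap]
    intro y hy
    change πP j' (tP u y) ∈ 𝔞
    rw [i1]; exact hy
  -- descent of ideal membership
  have descent : ∀ (𝔞 : Ideal Γ(cP.pt, ⊤)) (x : Γ(cQ.pt, ⊤)), x ∈ 𝔞.map θI →
      ∃ (j : J) (xj : Γ(DQ.obj j, ⊤)), xj ∈ (𝔞.comap (πP j)).map (θ j) ∧ πQ j xj = x := by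
    intro 𝔞 x hx
    induction hx using Submodule.span_induction with
    | mem x hx =>
      obtain ⟨y, hy, rfl⟩ := hx
      obtain ⟨j, yj, rfl⟩ := exists_appTop_π_eq_of_isAffine_of_isLimit DP cP hcP y
      exact ⟨j, θ j yj, Ideal.mem_map_of_mem _ hy, i4 j yj⟩
    | zero =>
      obtain ⟨j⟩ := IsCofiltered.nonempty (C := J)
      exact ⟨j, 0, Ideal.zero_mem _, map_zero _⟩
    | add x y _ _ hx hy =>
      obtain ⟨j, xj, hxj, rfl⟩ := hx
      obtain ⟨k, yk, hyk, rfl⟩ := hy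
      refine ⟨IsCofiltered.min j k, tQ (IsCofiltered.minToLeft j k) xj +
        tQ (IsCofiltered.minToRight j k) yk,
        Ideal.add_mem _ (transport 𝔞 _ _ hxj) (transport 𝔞 _ _ hyk), ?_⟩
      rw [map_add, i2, i2]
    | smul r x _ hx =>
      obtain ⟨j, xj, hxj, rfl⟩ := hx
      obtain ⟨k, rk, rfl⟩ := exists_appTop_π_eq_of_isAffine_of_isLimit DQ cQ hcQ r
      refine ⟨IsCofiltered.min k j, tQ (IsCofiltered.minToLeft k j) rk *
        tQ (IsCofiltered.minToRight k j) xj,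
        Ideal.mul_mem_left _ _ (transport 𝔞 _ _ hxj), ?_⟩
      rw [map_mul, i2, i2]
      rfl
  obtain ⟨ja, aj, haj, rfl⟩ := descent (pr b) a ha
  obtain ⟨je, ej, hej, rfl⟩ := descent (pr b') e he
  obtain ⟨js, sj, rfl⟩ := exists_appTop_π_eq_of_isAffine_of_isLimit DP cP hcP s
  obtain ⟨jt, tj, rfl⟩ := exists_appTop_π_eq_of_isAffine_of_isLimit DP cP hcP t
  obtain ⟨j₀, hj₀⟩ := IsCofiltered.inf_objs_exists ({ja, je, js, jt} : Finset J)
  obtain ⟨ua⟩ := hj₀ (X := ja) (by simp)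
  obtain ⟨ue⟩ := hj₀ (X := je) (by simp)
  obtain ⟨us⟩ := hj₀ (X := js) (by simp)
  obtain ⟨ut⟩ := hj₀ (X := jt) (by simp)
  let s₀ := tP us sj
  let t₀ := tP ut tj
  let a₀ := tQ ua aj
  let e₀ := tQ ue ej
  have hw : (cQ.π.app j₀).appTop (θ j₀ s₀ * (θ j₀ t₀ + a₀) - e₀) = 0 := by
    change πQ j₀ (θ j₀ s₀ * (θ j₀ t₀ + a₀) - e₀) = 0
    rw [map_sub, map_mul, map_add, i4, i4, i1, i1, i2, i2, sub_eq_zero]
    exact hrel
  obtain ⟨j₁, v, hv⟩ := exists_appTop_map_eq_zero_of_isAffine_of_isLimit DQ cQ hcQ j₀ _ hw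
  have hv' : tQ v (θ j₀ s₀ * (θ j₀ t₀ + a₀) - e₀) = 0 := hv
  refine ⟨j₁, fun j' u => ?_⟩
  have hprb : ∀ c : cP.pt, pr (cP.π.app j' c) = (pr c).comap (πP j') := fun c => pr_map _ c
  refine ⟨tP (u ≫ v) s₀, tP (u ≫ v) t₀, tQ (u ≫ v) a₀, tQ (u ≫ v) e₀, ?_, ?_, ?_, ?_, ?_⟩
  · rw [hprb]
    intro hc
    apply hs
    have : πP j' (tP (u ≫ v) s₀) = πP js sj := by rw [i1, i1]
    rw [← this]; exact hc
  · rw [hprb]
    intro hc
    apply ht
    have : πP j' (tP (u ≫ v) t₀) = πP jt tj := by rw [i1, i1]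
    rw [← this]; exact hc
  · rw [hprb]
    exact transport _ _ _ (transport _ _ _ haj)
  · rw [hprb]
    exact transport _ _ _ (transport _ _ _ hej)
  · have h0 : tQ u (tQ v (θ j₀ s₀ * (θ j₀ t₀ + a₀) - e₀)) = 0 := by rw [hv', map_zero]
    rw [i5, map_sub, map_mul, map_add, i3, i3, sub_eq_zero] at h0
    exact h0

end Descent

end Groth.Agent.Lib.Helper46.SubtrLim
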