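import Mathlib
import Groth.Prelude.Def_W4c2submetdescSubtr
import Groth.Agent.Lib.Helper46.SubtrLim
import Groth.Agent.Lib.Helper50.LimBC

/-!
# S-subtrusiveness passes to cofiltered limits (core statement)
-/

set_option autoImplicit false
universe u
open CategoryTheory CategoryTheory.Limits AlgebraicGeometry

namespace Groth.Agent.Lib.Helper46.SubtrLim

open Groth.Agent.Lib.Helper50

attribute [local instance] IsCofiltered.isConnected

section TwoStep

variable {J : Type u} [SmallCategory J] (DY : J ⥤ Scheme.{u}) {Y₀ : Scheme.{u}}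
  (r : ∀ j, DY.obj j ⟶ Y₀) (hr : ∀ {j k : J} (φ : j ⟶ k), DY.map φ ≫ r k = r j)
  {X₀ : Scheme.{u}} (f₀ : X₀ ⟶ Y₀) {V W : Scheme.{u}} (ιV : V ⟶ Y₀) (ιW : W ⟶ X₀) (fW : W ⟶ V)
  (hfW : ιW ≫ f₀ = fW ≫ ιV)

/-- The diagram `j ↦ X₀ ×_{Y₀} Y_j`. -/
noncomputable abbrev dX : J ⥤ Scheme.{u} := bcDiagram DY r hr f₀

/-- The diagram `j ↦ V ×_{Y₀} Y_j`. -/
noncomputable abbrev dP : J ⥤ Scheme.{u} := bcDiagram DY r hr ιV

/-- The diagram `j ↦ W ×_{X₀} (X₀ ×_{Y₀} Y_j)`. -/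
noncomputable abbrev dQ : J ⥤ Scheme.{u} :=
  bcDiagram (dX DY r hr f₀) (fun j => pullback.fst f₀ (r j))
    (fun φ => bcDiagram_map_fst DY r hr f₀ φ) ιW

/-- The map `W ×_{X₀} (X₀ ×_{Y₀} T) ⟶ V ×_{Y₀} T`. -/
noncomputable def qMap {T : Scheme.{u}} (t : T ⟶ Y₀) :
    pullback ιW (pullback.fst f₀ t) ⟶ pullback ιV t :=
  pullback.map ιW (pullback.fst f₀ t) ιV t fW (pullback.snd f₀ t) f₀ hfW pullback.condition

@[reassoc]
lemma qMap_fst {T : Scheme.{u}} (t : T ⟶ Y₀) :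
    qMap f₀ ιV ιW fW hfW t ≫ pullback.fst ιV t = pullback.fst ιW (pullback.fst f₀ t) ≫ fW := by
  unfold qMap; exact pullback.lift_fst _ _ _

@[reassoc]
lemma qMap_snd {T : Scheme.{u}} (t : T ⟶ Y₀) :
    qMap f₀ ιV ιW fW hfW t ≫ pullback.snd ιV t =
      pullback.snd ιW (pullback.fst f₀ t) ≫ pullback.snd f₀ t := by
  unfold qMap; exact pullback.lift_snd _ _ _

/-- The natural transformation `dQ ⟶ dP`. -/
noncomputable def qNat : dQ DY r hr f₀ ιW ⟶ dP DY r hr ιV where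
  app j := qMap f₀ ιV ιW fW hfW (r j)
  naturality j k φ := by
    change (bcDiagram (dX DY r hr f₀) (fun j => pullback.fst f₀ (r j))
      (fun φ => bcDiagram_map_fst DY r hr f₀ φ) ιW).map φ ≫ qMap f₀ ιV ιW fW hfW (r k) =
      qMap f₀ ιV ιW fW hfW (r j) ≫ (bcDiagram DY r hr ιV).map φ
    have h1 := qMap_fst f₀ ιV ιW fW hfW (r k)
    have h2 := qMap_fst f₀ ιV ιW fW hfW (r j)
    have h3 := bcDiagram_map_fst DY r hr ιV φ
    have h4 := bcDiagram_map_fst (dX DY r hr f₀) (fun j => pullback.fst f₀ (r j))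
      (fun φ => bcDiagram_map_fst DY r hr f₀ φ) ιW φ
    have h1' := qMap_snd f₀ ιV ιW fW hfW (r k)
    have h2' := qMap_snd f₀ ιV ιW fW hfW (r j)
    have h3' := bcDiagram_map_snd DY r hr ιV φ
    have h4' := bcDiagram_map_snd (dX DY r hr f₀) (fun j => pullback.fst f₀ (r j))
      (fun φ => bcDiagram_map_fst DY r hr f₀ φ) ιW φ
    have h5' := bcDiagram_map_snd DY r hr f₀ φ
    apply pullback.hom_ext
    · exact (Category.assoc _ _ _).trans ((congrArg (_ ≫ ·) h1).trans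
        ((Category.assoc _ _ _).symm.trans ((congrArg (· ≫ fW) h4).trans
        (h2.symm.trans ((congrArg (_ ≫ ·) h3.symm).trans (Category.assoc _ _ _).symm)))))
    · exact (Category.assoc _ _ _).trans ((congrArg (_ ≫ ·) h1').trans
        ((Category.assoc _ _ _).symm.trans ((congrArg (· ≫ pullback.snd f₀ (r k)) h4').trans
        ((Category.assoc _ _ _).trans ((congrArg (_ ≫ ·) h5').trans
        ((Category.assoc _ _ _).symm.trans ((congrArg (· ≫ DY.map φ) h2'.symm).trans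
        ((Category.assoc _ _ _).trans ((congrArg (_ ≫ ·) h3'.symm).trans
        (Category.assoc _ _ _).symm)))))))))

variable (cY : Cone DY) (rI : cY.pt ⟶ Y₀) (hrI : ∀ j, cY.π.app j ≫ r j = rI)

/-- The cone over `dX` with apex `X₀ ×_{Y₀} Y`. -/
noncomputable abbrev cX : Cone (dX DY r hr f₀) :=
  bcCone DY r hr f₀ cY rI hrI (pullback.fst f₀ rI) (pullback.snd f₀ rI) pullback.condition

/-- The cone over `dP` with apex `V ×_{Y₀} Y`. -/
noncomputable abbrev cP : Cone (dP DY r hr ιV) :=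
  bcCone DY r hr ιV cY rI hrI (pullback.fst ιV rI) (pullback.snd ιV rI) pullback.condition

/-- The cone over `dQ`. -/
noncomputable abbrev cQ : Cone (dQ DY r hr f₀ ιW) :=
  bcCone (dX DY r hr f₀) (fun j => pullback.fst f₀ (r j))
    (fun φ => bcDiagram_map_fst DY r hr f₀ φ) ιW (cX DY r hr f₀ cY rI hrI) (pullback.fst f₀ rI)
    (fun j => bcConeπ_fst DY r f₀ cY rI hrI (pullback.fst f₀ rI) (pullback.snd f₀ rI)
      pullback.condition j)
    (pullback.fst ιW (pullback.fst f₀ rI)) (pullback.snd ιW (pullback.fst f₀ rI))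
    pullback.condition

lemma cQ_π_qMap (j : J) :
    (cQ DY r hr f₀ ιW cY rI hrI).π.app j ≫ qMap f₀ ιV ιW fW hfW (r j) =
      qMap f₀ ιV ιW fW hfW rI ≫ (cP DY r hr ιV cY rI hrI).π.app j := by
  have h1 := qMap_fst f₀ ιV ιW fW hfW (r j)
  have h2 := qMap_fst f₀ ιV ιW fW hfW rI
  have h3 := bcConeπ_fst DY r ιV cY rI hrI (pullback.fst ιV rI) (pullback.snd ιV rI)
    pullback.condition j
  have h4 := bcConeπ_fst (dX DY r hr f₀) (fun j => pullback.fst f₀ (r j)) ιW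
    (cX DY r hr f₀ cY rI hrI) (pullback.fst f₀ rI)
    (fun j => bcConeπ_fst DY r f₀ cY rI hrI (pullback.fst f₀ rI) (pullback.snd f₀ rI)
      pullback.condition j)
    (pullback.fst ιW (pullback.fst f₀ rI)) (pullback.snd ιW (pullback.fst f₀ rI))
    pullback.condition j
  have h1' := qMap_snd f₀ ιV ιW fW hfW (r j)
  have h2' := qMap_snd f₀ ιV ιW fW hfW rI
  have h3' := bcConeπ_snd DY r ιV cY rI hrI (pullback.fst ιV rI) (pullback.snd ιV rI)
    pullback.condition j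
  have h4' := bcConeπ_snd (dX DY r hr f₀) (fun j => pullback.fst f₀ (r j)) ιW
    (cX DY r hr f₀ cY rI hrI) (pullback.fst f₀ rI)
    (fun j => bcConeπ_fst DY r f₀ cY rI hrI (pullback.fst f₀ rI) (pullback.snd f₀ rI)
      pullback.condition j)
    (pullback.fst ιW (pullback.fst f₀ rI)) (pullback.snd ιW (pullback.fst f₀ rI))
    pullback.condition j
  have h5' := bcConeπ_snd DY r f₀ cY rI hrI (pullback.fst f₀ rI) (pullback.snd f₀ rI)
    pullback.condition j
  apply pullback.hom_ext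
  · exact (Category.assoc _ _ _).trans ((congrArg (_ ≫ ·) h1).trans
      ((Category.assoc _ _ _).symm.trans ((congrArg (· ≫ fW) h4).trans
      (h2.symm.trans ((congrArg (_ ≫ ·) h3.symm).trans (Category.assoc _ _ _).symm)))))
  · exact (Category.assoc _ _ _).trans ((congrArg (_ ≫ ·) h1').trans
      ((Category.assoc _ _ _).symm.trans ((congrArg (· ≫ pullback.snd f₀ (r j)) h4').trans
      ((Category.assoc _ _ _).trans ((congrArg (_ ≫ ·) h5').trans
      ((Category.assoc _ _ _).symm.trans ((congrArg (· ≫ cY.π.app j) h2'.symm).trans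
      ((Category.assoc _ _ _).trans ((congrArg (_ ≫ ·) h3'.symm).trans
      (Category.assoc _ _ _).symm)))))))))

section Lemmas

include hfW in
/-- Lemma C: if there is no relation, a pair lifts. -/
theorem exists_pair_of_not_hasRel_qMap {T : Scheme.{u}} (t : T ⟶ Y₀)
    [IsAffine (pullback ιW (pullback.fst f₀ t))] [IsAffine (pullback ιV t)]
    (b' b : ↥(pullback ιV t)) (h : ¬ HasRel (qMap f₀ ιV ιW fW hfW t) b' b) :
    ∃ x x' : ↥(pullback f₀ t), x' ⤳ x ∧ pullback.snd f₀ t x = pullback.snd ιV t b ∧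
      pullback.snd f₀ t x' = pullback.snd ιV t b' := by
  obtain ⟨z', z, hz, hzb, hzb'⟩ := exists_pair_of_not_hasRel _ b' b h
  refine ⟨pullback.snd ιW (pullback.fst f₀ t) z, pullback.snd ιW (pullback.fst f₀ t) z',
    hz.map (pullback.snd ιW (pullback.fst f₀ t)).continuous, ?_, ?_⟩
  · rw [← hzb, ← Scheme.Hom.comp_apply, ← Scheme.Hom.comp_apply, qMap_snd]
  · rw [← hzb', ← Scheme.Hom.comp_apply, ← Scheme.Hom.comp_apply, qMap_snd]

include hfW in
/-- Lemma B: a pair upstairs through `W` prevents relations. -/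
theorem not_hasRel_qMap_of_pair {T : Scheme.{u}} (t : T ⟶ Y₀)
    [IsOpenImmersion ιV] [IsOpenImmersion ιW]
    [IsAffine (pullback ιW (pullback.fst f₀ t))] [IsAffine (pullback ιV t)]
    (x' x : ↥(pullback f₀ t)) (hx : x' ⤳ x) (c' c : ↥(pullback ιV t))
    (hc : pullback.snd f₀ t x = pullback.snd ιV t c)
    (hc' : pullback.snd f₀ t x' = pullback.snd ιV t c')
    (hxW : pullback.fst f₀ t x ∈ Set.range ιW) :
    ¬ HasRel (qMap f₀ ιV ιW fW hfW t) c' c := by
  obtain ⟨w, hw⟩ := hxW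
  obtain ⟨z, hz1, hz2⟩ := Scheme.Pullback.exists_preimage_pullback w x hw
  have hopen : IsOpen (Set.range (pullback.snd ιW (pullback.fst f₀ t))) :=
    (pullback.snd ιW (pullback.fst f₀ t)).isOpenEmbedding.isOpen_range
  have hx'mem : x' ∈ Set.range (pullback.snd ιW (pullback.fst f₀ t)) :=
    hx.mem_open hopen ⟨z, hz2⟩
  obtain ⟨z', hz'2⟩ := hx'mem
  have hzz : z' ⤳ z := by
    rw [← (pullback.snd ιW (pullback.fst f₀ t)).isOpenEmbedding.isInducing.specializes_iff,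
      hz2, hz'2]
    exact hx
  have hinj := (pullback.snd ιV t).isOpenEmbedding.injective
  have key : ∀ (z₀ : ↥(pullback ιW (pullback.fst f₀ t))) (x₀ : ↥(pullback f₀ t))
      (c₀ : ↥(pullback ιV t)),
      pullback.snd ιW (pullback.fst f₀ t) z₀ = x₀ →
      pullback.snd f₀ t x₀ = pullback.snd ιV t c₀ →
      qMap f₀ ιV ιW fW hfW t z₀ = c₀ := by
    intro z₀ x₀ c₀ h1 h2
    apply hinj
    rw [← Scheme.Hom.comp_apply, qMap_snd, Scheme.Hom.comp_apply, h1, h2]
  have := not_hasRel_of_pair (qMap f₀ ιV ιW fW hfW t) z' z hzz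
  rwa [key z x c hz2 hc, key z' x' c' hz'2 hc'] at this

variable [IsCofiltered J] [IsAffine V] [IsAffine W] [∀ j, IsAffineHom (r j)] [IsAffineHom rI]

include hr in
/-- Lemma A: a relation at the limit descends to a stage. -/
theorem exists_stage_hasRel_qMap (hcY : IsLimit cY) (b' b : ↥(pullback ιV rI))
    (h : HasRel (qMap f₀ ιV ιW fW hfW rI) b' b) :
    ∃ j, ∀ (j' : J) (_ : j' ⟶ j), HasRel (qMap f₀ ιV ιW fW hfW (r j'))
      (bcConeπ DY r ιV cY rI hrI (pullback.fst ιV rI) (pullback.snd ιV rI)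
        pullback.condition j' b')
      (bcConeπ DY r ιV cY rI hrI (pullback.fst ιV rI) (pullback.snd ιV rI)
        pullback.condition j' b) := by
  haveI : ∀ j, IsAffineHom (pullback.fst f₀ (r j)) := fun j =>
    MorphismProperty.pullback_fst _ _ inferInstance
  haveI : IsAffineHom (pullback.fst f₀ rI) := MorphismProperty.pullback_fst _ _ inferInstance
  haveI : ∀ j, IsAffine ((dP DY r hr ιV).obj j) := fun j => by
    change IsAffine (pullback ιV (r j)); infer_instance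
  haveI : ∀ j, IsAffine ((dQ DY r hr f₀ ιW).obj j) := fun j => by
    change IsAffine (pullback ιW (pullback.fst f₀ (r j))); infer_instance
  haveI : IsAffine (cP DY r hr ιV cY rI hrI).pt := by
    change IsAffine (pullback ιV rI); infer_instance
  have hcX : IsLimit (cX DY r hr f₀ cY rI hrI) :=
    isLimitBcCone DY r hr f₀ cY rI hrI _ _ hcY (IsPullback.of_hasPullback f₀ rI)
  have hcP : IsLimit (cP DY r hr ιV cY rI hrI) :=
    isLimitBcCone DY r hr ιV cY rI hrI _ _ hcY (IsPullback.of_hasPullback ιV rI)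
  have hcQ : IsLimit (cQ DY r hr f₀ ιW cY rI hrI) :=
    isLimitBcCone (dX DY r hr f₀) (fun j => pullback.fst f₀ (r j))
      (fun φ => bcDiagram_map_fst DY r hr f₀ φ) ιW (cX DY r hr f₀ cY rI hrI) (pullback.fst f₀ rI)
      (fun j => bcConeπ_fst DY r f₀ cY rI hrI (pullback.fst f₀ rI) (pullback.snd f₀ rI)
        pullback.condition j)
      (pullback.fst ιW (pullback.fst f₀ rI)) (pullback.snd ιW (pullback.fst f₀ rI))
      hcX (IsPullback.of_hasPullback ιW (pullback.fst f₀ rI))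
  exact exists_stage_hasRel (dP DY r hr ιV) (dQ DY r hr f₀ ιW) _ hcP _ hcQ
    (qNat DY r hr f₀ ιV ιW fW hfW) (qMap f₀ ιV ιW fW hfW rI)
    (fun j => cQ_π_qMap DY r hr f₀ ιV ιW fW hfW cY rI hrI j) b' b h

end Lemmas

end TwoStep

/-- **Core theorem.** S-subtrusiveness of the base changes `X₀ ×_{Y₀} Y_j → Y_j` passes to the
cofiltered limit `X₀ ×_{Y₀} Y → Y` (affine transition maps, `f₀` quasi-compact). -/
theorem isSSubtrusive_limit {J : Type u} [SmallCategory J] [IsCofiltered J]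
    (DY : J ⥤ Scheme.{u}) {Y₀ : Scheme.{u}} (r : ∀ j, DY.obj j ⟶ Y₀)
    (hr : ∀ {j k : J} (φ : j ⟶ k), DY.map φ ≫ r k = r j)
    [∀ j, IsAffineHom (r j)]
    (cY : Cone DY) (hcY : IsLimit cY) (rI : cY.pt ⟶ Y₀) (hrI : ∀ j, cY.π.app j ≫ r j = rI)
    [IsAffineHom rI]
    {X₀ : Scheme.{u}} (f₀ : X₀ ⟶ Y₀) [QuasiCompact f₀]
    (h : ∀ j, Subtr.IsSSubtrusive (pullback.snd f₀ (r j))) :
    Subtr.IsSSubtrusive (pullback.snd f₀ rI) := by
  classical
  intro y y' hyy
  -- an affine open neighbourhood of `rI y`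
  obtain ⟨V₀, hV₀, hyV₀⟩ : ∃ V₀ : Y₀.Opens, IsAffineOpen V₀ ∧ rI y ∈ V₀ := by
    obtain ⟨_, ⟨V, hV, rfl⟩, hxV, -⟩ :=
      Y₀.isBasis_affineOpens.exists_subset_of_mem_open (Set.mem_univ (rI y)) isOpen_univ
    exact ⟨V, hV, hxV⟩
  have hy'V₀ : rI y' ∈ V₀ := (hyy.map rI.continuous).mem_open V₀.isOpen hyV₀
  haveI : IsAffine V₀.toScheme := hV₀
  -- a finite affine cover of `f₀⁻¹ V₀`
  have hcpt : IsCompact (f₀ ⁻¹ᵁ V₀ : Set X₀) := f₀.isCompact_preimage hV₀.isCompact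
  obtain ⟨S, hSfin, hSeq⟩ := isCompact_iff_finite_and_eq_biUnion_affineOpens.mp hcpt
  have hWle : ∀ W : S, W.1.1 ≤ f₀ ⁻¹ᵁ V₀ := by
    intro W
    rw [hSeq]
    exact le_iSup₂ (f := fun (i : X₀.affineOpens) (_ : i ∈ S) => (i : X₀.Opens)) W.1 W.2
  haveI : ∀ W : S, IsAffine W.1.1.toScheme := fun W => W.1.2
  haveI : Finite S := hSfin
  -- the points `b, b'` of `V₀ ×_{Y₀} Y`
  obtain ⟨b, -, hb⟩ := Scheme.Pullback.exists_preimage_pullback (f := V₀.ι) (g := rI)
    ⟨rI y, hyV₀⟩ y rfl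
  obtain ⟨b', -, hb'⟩ := Scheme.Pullback.exists_preimage_pullback (f := V₀.ι) (g := rI)
    ⟨rI y', hy'V₀⟩ y' rfl
  have hbb : b' ⤳ b := by
    rw [← (pullback.snd V₀.ι rI).isOpenEmbedding.isInducing.specializes_iff, hb, hb']
    exact hyy
  -- notation for the maps
  have hfW : ∀ W : S, W.1.1.ι ≫ f₀ = f₀.resLE V₀ W.1.1 (hWle W) ≫ V₀.ι := fun W =>
    (Scheme.Hom.resLE_comp_ι f₀ (hWle W)).symm
  haveI : ∀ j, IsAffineHom (pullback.fst f₀ (r j)) := fun j =>
    MorphismProperty.pullback_fst _ _ inferInstance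
  haveI : IsAffineHom (pullback.fst f₀ rI) := MorphismProperty.pullback_fst _ _ inferInstance
  by_contra hcon
  -- all `W` give relations at the limit
  have hrel : ∀ W : S, HasRel (qMap f₀ V₀.ι W.1.1.ι (f₀.resLE V₀ W.1.1 (hWle W)) (hfW W) rI)
      b' b := by
    intro W
    by_contra hno
    obtain ⟨x, x', hxx, hx, hx'⟩ :=
      exists_pair_of_not_hasRel_qMap f₀ V₀.ι W.1.1.ι (f₀.resLE V₀ W.1.1 (hWle W)) (hfW W) rI
        b' b hno
    exact hcon ⟨x, x', hxx, hx.trans hb, hx'.trans hb'⟩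
  -- descend to a common stage
  let πP : ∀ j, pullback V₀.ι rI ⟶ pullback V₀.ι (r j) := fun j =>
    bcConeπ DY r V₀.ι cY rI hrI (pullback.fst V₀.ι rI) (pullback.snd V₀.ι rI)
      pullback.condition j
  have hstage : ∀ W : S, ∃ j, ∀ (j' : J) (_ : j' ⟶ j),
      HasRel (qMap f₀ V₀.ι W.1.1.ι (f₀.resLE V₀ W.1.1 (hWle W)) (hfW W) (r j'))
        (πP j' b') (πP j' b) :=
    fun W => exists_stage_hasRel_qMap DY r hr f₀ V₀.ι W.1.1.ι (f₀.resLE V₀ W.1.1 (hWle W))
      (hfW W) cY rI hrI hcY b' b (hrel W)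
  choose jW hjW using hstage
  haveI : Fintype S := Fintype.ofFinite S
  obtain ⟨j, hj⟩ := IsCofiltered.inf_objs_exists (Finset.univ.image jW)
  have hjall : ∀ W : S,
      HasRel (qMap f₀ V₀.ι W.1.1.ι (f₀.resLE V₀ W.1.1 (hWle W)) (hfW W) (r j))
        (πP j b') (πP j b) := by
    intro W
    obtain ⟨φ⟩ := hj (Finset.mem_image_of_mem jW (Finset.mem_univ W))
    exact hjW W j φ
  -- the pair at stage `j`
  have hπsnd : πP j ≫ pullback.snd V₀.ι (r j) = pullback.snd V₀.ι rI ≫ cY.π.app j :=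
    bcConeπ_snd DY r V₀.ι cY rI hrI (pullback.fst V₀.ι rI) (pullback.snd V₀.ι rI)
      pullback.condition j
  have hcy : pullback.snd V₀.ι (r j) (πP j b) = cY.π.app j y := by
    rw [← Scheme.Hom.comp_apply, hπsnd, Scheme.Hom.comp_apply, hb]
  have hcy' : pullback.snd V₀.ι (r j) (πP j b') = cY.π.app j y' := by
    rw [← Scheme.Hom.comp_apply, hπsnd, Scheme.Hom.comp_apply, hb']
  obtain ⟨x, x', hxx, hx, hx'⟩ := h j (hyy.map (cY.π.app j).continuous)
  -- `fst x` lies in `f₀⁻¹ V₀`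
  have hfx : pullback.fst f₀ (r j) x ∈ f₀ ⁻¹ᵁ V₀ := by
    change f₀ (pullback.fst f₀ (r j) x) ∈ V₀
    rw [← Scheme.Hom.comp_apply, pullback.condition, Scheme.Hom.comp_apply, hx,
      ← Scheme.Hom.comp_apply, hrI]
    exact hyV₀
  rw [hSeq] at hfx
  obtain ⟨W, hWS, hxW⟩ : ∃ W : X₀.affineOpens, W ∈ S ∧ pullback.fst f₀ (r j) x ∈ W.1 := by
    simp only [TopologicalSpace.Opens.mem_iSup, exists_prop] at hfx
    exact hfx
  have hrange : pullback.fst f₀ (r j) x ∈ Set.range W.1.ι := by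
    rw [Scheme.Opens.range_ι]; exact hxW
  exact not_hasRel_qMap_of_pair f₀ V₀.ι W.1.ι (f₀.resLE V₀ W.1 (hWle ⟨W, hWS⟩)) (hfW ⟨W, hWS⟩)
    (r j) x' x hxx (πP j b') (πP j b) (hx.trans hcy.symm) (hx'.trans hcy'.symm) hrange
    (hjall ⟨W, hWS⟩)

end Groth.Agent.Lib.Helper46.SubtrLim
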