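import Mathlib
import Groth.Prelude.Def_NonAbH2

set_option autoImplicit false
universe u
open CategoryTheory CategoryTheory.Limits AlgebraicGeometry TensorProduct

namespace Groth.Agent.Lib.Helper46.TorsFinK3

/-- Ring-level core: given `b : B → G`, `a : A → G` agreeing on `R`, the product map. -/
theorem exists_prodMap {R B A G C : Type u} [CommRing R] [CommRing B] [CommRing A] [CommRing G]
    [CommRing C] [Algebra R B] [Algebra R A] (b : B →+* G) (a : A →+* G)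
    (hab : b.comp (algebraMap R B) = a.comp (algebraMap R A))
    (c : B →+* C) (σ : C →+* (B ⊗[R] A))
    (hσ : σ.comp c = (Algebra.TensorProduct.includeLeft : B →ₐ[R] B ⊗[R] A).toRingHom) :
    ∃ m : C →+* G, m.comp c = b := by
  letI : Algebra R G := (b.comp (algebraMap R B)).toAlgebra
  let bA : B →ₐ[R] G := { b with commutes' := fun r => rfl }
  let aA : A →ₐ[R] G := { a with commutes' := fun r => (RingHom.congr_fun hab r).symm }
  refine ⟨(Algebra.TensorProduct.productMap bA aA).toRingHom.comp σ, ?_⟩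
  rw [RingHom.comp_assoc, hσ]
  ext x
  simp [bA]

theorem appLE_eq_of_eq {X Y : Scheme.{u}} {f f' : X ⟶ Y} (e : f = f') {U : Y.Opens} {V : X.Opens}
    (h : V ≤ f ⁻¹ᵁ U) (h' : V ≤ f' ⁻¹ᵁ U) : f.appLE U V h = f'.appLE U V h' := by
  subst e; rfl

theorem hasSectionOver_of_ring_section {S S2 : Scheme.{u}} (π : S2 ⟶ S) [IsAffineHom π]
    (E : Over S2) (W : S.Opens) (hW : IsAffineOpen W) {C : CommRingCat.{u}}
    (c : Γ(S2, π ⁻¹ᵁ W) ⟶ C) (t : Spec C ⟶ E.left)
    (ht : t ≫ E.hom = Spec.map c ≫ (hW.preimage π).fromSpec) {A : CommRingCat.{u}}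
    (φ : Γ(S, W) ⟶ A)
    (σ : letI := (π.app W).hom.toAlgebra; letI := φ.hom.toAlgebra;
      C →+* (Γ(S2, π ⁻¹ᵁ W) ⊗[Γ(S, W)] A))
    (hσ : letI := (π.app W).hom.toAlgebra; letI := φ.hom.toAlgebra;
      σ.comp c.hom = (Algebra.TensorProduct.includeLeft :
        Γ(S2, π ⁻¹ᵁ W) →ₐ[Γ(S, W)] Γ(S2, π ⁻¹ᵁ W) ⊗[Γ(S, W)] A).toRingHom) :
    NonAbH1.HasSectionOver E (pullback.snd (Spec.map φ ≫ hW.fromSpec) π) := by
  letI algB : Algebra Γ(S, W) Γ(S2, π ⁻¹ᵁ W) := (π.app W).hom.toAlgebra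
  letI algA : Algebra Γ(S, W) A := φ.hom.toAlgebra
  obtain ⟨g, hg⟩ : ∃ g : Spec A ⟶ S, g = Spec.map φ ≫ hW.fromSpec := ⟨_, rfl⟩
  rw [← hg]
  haveI : IsAffine (pullback g π) := isAffine_of_isAffineHom (pullback.fst g π)
  have hgW : ∀ x, g.base x ∈ W := by
    intro x
    rw [hg, Scheme.Hom.comp_apply]
    have := hW.range_fromSpec
    have h2 : hW.fromSpec.base ((Spec.map φ).base x) ∈ Set.range hW.fromSpec.base := ⟨_, rfl⟩
    rw [this] at h2
    exact h2
  have hle : (⊤ : (pullback g π).Opens) ≤ pullback.snd g π ⁻¹ᵁ (π ⁻¹ᵁ W) := by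
    intro x _
    show π.base ((pullback.snd g π).base x) ∈ W
    rw [← Scheme.Hom.comp_apply, ← pullback.condition, Scheme.Hom.comp_apply]
    exact hgW _
  have hle2 : (⊤ : (pullback g π).Opens) ≤ (pullback.snd g π ≫ π) ⁻¹ᵁ W := hle
  have hle3 : (⊤ : (pullback g π).Opens) ≤ (pullback.fst g π ≫ g) ⁻¹ᵁ W := by
    rw [pullback.condition]; exact hle2
  -- ring maps
  let b : Γ(S2, π ⁻¹ᵁ W) ⟶ Γ(pullback g π, ⊤) := (pullback.snd g π).appLE (π ⁻¹ᵁ W) ⊤ hle
  let a : A ⟶ Γ(pullback g π, ⊤) := (Scheme.ΓSpecIso A).inv ≫ (pullback.fst g π).appTop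
  have hab : π.app W ≫ b = φ ≫ a := by
    have h1 : π.app W ≫ b = (pullback.snd g π ≫ π).appLE W ⊤ hle2 := by
      rw [Scheme.Hom.comp_appLE]
    have h2 : φ ≫ a = (pullback.fst g π ≫ g).appLE W ⊤ hle3 := by
      have key : ∀ (h : (⊤ : (Spec A).Opens) ≤ g ⁻¹ᵁ W),
          g.appLE W ⊤ h = φ ≫ (Scheme.ΓSpecIso A).inv := by
        intro h
        subst hg
        rw [Scheme.ΓSpecIso_inv_naturality, Scheme.Hom.comp_appLE, hW.fromSpec_app_self,
          Category.assoc, Scheme.Hom.map_appLE]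
        congr 1
      have h3 : (pullback.fst g π ≫ g).appLE W ⊤ hle3 =
          g.appLE W ⊤ (fun x _ => hgW x) ≫ (pullback.fst g π).appLE ⊤ ⊤ le_top :=
        (Scheme.Hom.appLE_comp_appLE _ _ _ _ _ _ _).symm
      have h4 : (pullback.fst g π).appLE ⊤ ⊤ le_top = (pullback.fst g π).appTop := by
        simp [Scheme.Hom.appLE, Scheme.Hom.appTop]
      rw [h3, key, Category.assoc, h4]
    rw [h1, h2]
    exact appLE_eq_of_eq pullback.condition.symm _ _
  obtain ⟨m, hm⟩ := exists_prodMap (R := Γ(S, W)) (B := Γ(S2, π ⁻¹ᵁ W)) (A := A)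
    (G := Γ(pullback g π, ⊤)) (C := C) b.hom a.hom
    (by
      have := congrArg CommRingCat.Hom.hom hab
      exact this) c.hom σ hσ
  refine ⟨(pullback g π).isoSpec.hom ≫ Spec.map (CommRingCat.ofHom m) ≫ t, ?_⟩
  rw [Category.assoc, Category.assoc, ht, ← Spec.map_comp_assoc]
  have hcm : c ≫ CommRingCat.ofHom m = b := by
    ext x
    exact RingHom.congr_fun hm x
  rw [hcm]
  show _ ≫ Spec.map ((pullback.snd g π).appLE (π ⁻¹ᵁ W) ⊤ hle) ≫ _ = _
  rw [IsAffineOpen.SpecMap_appLE_fromSpec (pullback.snd g π) (hW.preimage π)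
    (isAffineOpen_top _) hle, IsAffineOpen.fromSpec_top, Iso.hom_inv_id_assoc]

end Groth.Agent.Lib.Helper46.TorsFinK3
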