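import Mathlib
import Groth.Prelude.Def_CohB1
import Groth.Prelude.Def_Flat
import Groth.Agent.Lib.Helper5.WidePB

set_option autoImplicit false
universe u
open CategoryTheory CategoryTheory.Limits AlgebraicGeometry

namespace Groth.Agent.Lib.Helper46.WidePBWP1

open Groth.Agent.Lib.Helper5.WidePB

/-- Mathlib's chosen wide pullback is a wide pullback in the sense of `IsWidePB`. -/
theorem isWidePB_widePullback {C : Type*} [Category C] {ι : Type*} {B : C} {objs : ι → C}
    (arrows : ∀ k, objs k ⟶ B) [HasWidePullback B objs arrows] :
    IsWidePB arrows (WidePullback.base arrows) (WidePullback.π arrows) := by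
  refine ⟨fun k => WidePullback.π_arrow arrows k, ?_, ?_⟩
  · intro Z z zk hz
    exact ⟨WidePullback.lift z zk hz, WidePullback.lift_base _ _ _ _, fun k => WidePullback.lift_π _ _ _ _ k⟩
  · intro Z l l' h1 h2
    exact WidePullback.hom_ext _ _ _ h2 h1

/-- General form: a property stable under composition and base change and containing isos
holds for the base map of a finite wide pullback. -/
theorem prop_wideBase (P : MorphismProperty Scheme.{u}) [P.IsStableUnderBaseChange]
    [P.IsMultiplicative] [P.RespectsIso] :
    ∀ {n : ℕ} {B : Scheme.{u}} (objs : Fin n → Scheme.{u}) (arrows : ∀ k, objs k ⟶ B),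
      (∀ k, P (arrows k)) → P (WidePullback.base arrows) := by
  intro n
  induction n with
  | zero =>
    intro B objs arrows _
    have h0 : IsWidePB arrows (𝟙 B) (fun k => k.elim0) := by
      refine ⟨fun k => k.elim0, ?_, ?_⟩
      · intro Z z zk _
        exact ⟨z, Category.comp_id _, fun k => k.elim0⟩
      · intro Z l l' h1 _
        simpa using h1
    obtain ⟨e, he, -⟩ := h0.exists_iso
    rw [Category.comp_id] at he
    rw [← he]
    exact P.of_isIso e.hom
  | succ n ih =>
    intro B objs arrows h
    have h' := isWidePB_widePullback (fun k : Fin n => arrows k.castSucc)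
    have hb' : P (WidePullback.base (fun k : Fin n => arrows k.castSucc)) :=
      ih _ _ (fun k => h k.castSucc)
    have sq : IsPullback (pullback.fst (arrows (Fin.last n))
        (WidePullback.base (fun k : Fin n => arrows k.castSucc)))
        (pullback.snd (arrows (Fin.last n))
        (WidePullback.base (fun k : Fin n => arrows k.castSucc)))
        (arrows (Fin.last n)) (WidePullback.base (fun k : Fin n => arrows k.castSucc)) :=
      IsPullback.of_hasPullback _ _
    have hW := isWidePB_succ arrows _ _ h' _ _ sq
    obtain ⟨e, he, -⟩ := hW.exists_iso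
    rw [← he]
    have h1 : P (pullback.snd (arrows (Fin.last n))
        (WidePullback.base (fun k : Fin n => arrows k.castSucc))) :=
      P.pullback_snd _ _ (h (Fin.last n))
    exact P.comp_mem _ _ (P.of_isIso e.hom) (P.comp_mem _ _ h1 hb')

theorem isProper_wideBase {n : ℕ} {B : Scheme.{u}} (objs : Fin n → Scheme.{u})
    (arrows : ∀ k, objs k ⟶ B) [∀ k, IsProper (arrows k)] :
    IsProper (WidePullback.base arrows) :=
  prop_wideBase @IsProper objs arrows (fun k => inferInstance)

end Groth.Agent.Lib.Helper46.WidePBWP1
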